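import Mathlib
import Cfsg.Prelude.Def_CaseTheorems
import Cfsg.Prelude.Def_Transfer
import Cfsg.Agent.S0126
import Cfsg.Agent.Lib.helper59.NormalAbelianCyclic
import Cfsg.Agent.Lib.helper29.Rank2
import Cfsg.Agent.Lib.helper3.ElemAb
import Cfsg.Agent.Lib.helper3.PGroupNormal
import Cfsg.Agent.Lib.helper26.PRank

set_option autoImplicit false
set_option linter.style.haveILetI false
set_option linter.unusedSectionVars false

/-!
# Connectivity of elementary abelian subgroups of order at least `p ^ 2` in a `p`-group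

* `exists_normal_elementaryAbelian_sq`: a finite `p`-group of `p`-rank at least `3` has a normal
  elementary abelian subgroup of order `p ^ 2`.
* `pgroup_connected_iff`: for such a normal `U`, an elementary abelian `X` of order at least
  `p ^ 2` is joined to `U` by a commuting chain iff `C_P(X)` has `p`-rank at least `3`.
-/

namespace Cfsg.Agent.Lib.helper28

open Cfsg
open scoped commutatorElement

/-- Elementwise form of `IsElementaryAbelian`. -/
theorem isElementaryAbelian_iff' {G : Type*} [Group G] (p : ℕ) (A : Subgroup G) :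
    IsElementaryAbelian p A ↔ (∀ a ∈ A, ∀ b ∈ A, a * b = b * a) ∧ ∀ a ∈ A, a ^ p = 1 := by
  constructor
  · rintro ⟨hc, he⟩
    exact ⟨fun a ha b hb => congrArg Subtype.val (hc.is_comm.comm ⟨a, ha⟩ ⟨b, hb⟩), he⟩
  · rintro ⟨hc, he⟩
    exact ⟨⟨⟨fun a b => Subtype.ext (hc a.1 a.2 b.1 b.2)⟩⟩, he⟩

/-- Subgroups of elementary abelian subgroups are elementary abelian. -/
theorem isElementaryAbelian_of_le' {G : Type*} [Group G] {p : ℕ} {A B : Subgroup G} (h : A ≤ B)
    (hB : IsElementaryAbelian p B) : IsElementaryAbelian p A := by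
  rw [isElementaryAbelian_iff'] at hB ⊢
  exact ⟨fun a ha b hb => hB.1 a (h ha) b (h hb), fun a ha => hB.2 a (h ha)⟩

/-- The join of two elementwise commuting elementary abelian subgroups is elementary abelian. -/
theorem isElementaryAbelian_sup' {G : Type*} [Group G] {p : ℕ} {A B : Subgroup G}
    (hA : IsElementaryAbelian p A) (hB : IsElementaryAbelian p B)
    (hAB : ∀ a ∈ A, ∀ b ∈ B, a * b = b * a) : IsElementaryAbelian p (A ⊔ B) := by
  rw [isElementaryAbelian_iff'] at hA hB
  have h1 : A ⊔ B = Subgroup.closure ((A : Set G) ∪ (B : Set G)) := by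
    rw [Subgroup.closure_union, Subgroup.closure_eq, Subgroup.closure_eq]
  rw [h1]
  apply Cfsg.Agent.Lib.helper3.isElementaryAbelian_closure
  · rintro s (hs | hs) t (ht | ht)
    · exact hA.1 s hs t ht
    · exact hAB s hs t ht
    · exact (hAB t ht s hs).symm
    · exact hB.1 s hs t ht
  · rintro s (hs | hs)
    · exact hA.2 s hs
    · exact hB.2 s hs

/-- A cyclic subgroup of exponent `p` has order at most `p`. -/
theorem card_le_of_exponent_of_isCyclic {G : Type*} [Group G] {p : ℕ} (hp : 0 < p)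
    (E : Subgroup G) (hE : ∀ a ∈ E, a ^ p = 1) (hc : IsCyclic E) : Nat.card E ≤ p := by
  obtain ⟨g, hg⟩ := (Subgroup.isCyclic_iff_exists_zpowers_eq_top E).mp hc
  have hgE : g ∈ E := hg ▸ Subgroup.mem_zpowers g
  rw [← hg, Nat.card_zpowers]
  exact Nat.le_of_dvd hp (orderOf_dvd_of_pow_eq_one (hE g hgE))

/-- `|K ∩ L| · |L : K ∩ L| = |L|`. -/
theorem card_inf_mul_relIndex {G : Type*} [Group G] (K L : Subgroup G) :
    Nat.card (K ⊓ L : Subgroup G) * K.relIndex L = Nat.card L := by
  have := Subgroup.relIndex_inf_mul_relIndex (⊥ : Subgroup G) K L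
  rwa [Subgroup.relIndex_bot_left, bot_inf_eq, Subgroup.relIndex_bot_left] at this

/-- A finite group with a cyclic subgroup of index two has `2`-rank at most two. -/
theorem pRankLE_two_of_card_eq_two_mul_orderOf {G : Type*} [Group G] [Finite G] (a : G)
    (h : Nat.card G = 2 * orderOf a) : PRankLE 2 2 G := by
  intro A _ hA
  have hZi : (Subgroup.zpowers a).index = 2 := by
    have h1 := Subgroup.card_mul_index (Subgroup.zpowers a)
    rw [Nat.card_zpowers, h] at h1
    have hpos : 0 < orderOf a := orderOf_pos a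
    nlinarith
  have hcyc : IsCyclic (Subgroup.zpowers a ⊓ A : Subgroup G) :=
    Subgroup.isCyclic_of_le (inf_le_left : Subgroup.zpowers a ⊓ A ≤ Subgroup.zpowers a)
  have h2 : Nat.card (Subgroup.zpowers a ⊓ A : Subgroup G) ≤ 2 :=
    card_le_of_exponent_of_isCyclic (by norm_num) _ (fun x hx => hA x hx.2) hcyc
  have h3 : (Subgroup.zpowers a).relIndex A ≤ 2 := by
    have := Subgroup.relIndex_le_of_le_right (H := Subgroup.zpowers a) (le_top : A ≤ ⊤)
      (by rw [Subgroup.relIndex_top_right, hZi]; norm_num)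
    rwa [Subgroup.relIndex_top_right, hZi] at this
  have h4 := card_inf_mul_relIndex (Subgroup.zpowers a) A
  calc Nat.card A = Nat.card (Subgroup.zpowers a ⊓ A : Subgroup G) *
        (Subgroup.zpowers a).relIndex A := h4.symm
    _ ≤ 2 * 2 := Nat.mul_le_mul h2 h3
    _ = 2 ^ 2 := by norm_num

/-- A normal elementary abelian subgroup of order at least `p ^ 2` of a `p`-group contains a
normal subgroup of order `p ^ 2`. -/
theorem exists_normal_sq_le {P : Type*} [Group P] [Finite P] {p : ℕ} [Fact p.Prime]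
    (hP : IsPGroup p P) (N : Subgroup P) [N.Normal] (hN : IsElementaryAbelian p N)
    (hcard : p ^ 2 ≤ Nat.card N) :
    ∃ U : Subgroup P, U.Normal ∧ U ≤ N ∧ Nat.card U = p ^ 2 := by
  have hp : p.Prime := Fact.out
  have hNbot : N ≠ ⊥ := by
    rintro rfl
    rw [Subgroup.card_bot] at hcard
    nlinarith [hp.two_le]
  obtain ⟨z, hzN, hzc, hz1, hzp⟩ :=
    Cfsg.Agent.Lib.helper3.exists_central_of_normal_ne_bot hP N hNbot
  have hZc : ∀ y ∈ Subgroup.zpowers z, ∀ g : P, g * y = y * g := by
    intro y hy g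
    obtain ⟨k, rfl⟩ := Subgroup.mem_zpowers_iff.mp hy
    have hgz : Commute g z := Subgroup.mem_center_iff.mp hzc g
    exact (hgz.zpow_right k).eq
  haveI hZn : (Subgroup.zpowers z).Normal := by
    refine ⟨fun y hy g => ?_⟩
    rw [hZc y hy g, mul_inv_cancel_right]
    exact hy
  have hZcard : Nat.card (Subgroup.zpowers z) = p := by
    rw [Nat.card_zpowers]; exact orderOf_eq_prime hzp hz1
  have hZN : Subgroup.zpowers z < N := by
    refine lt_of_le_of_ne ((Subgroup.zpowers_le).2 hzN) ?_
    intro h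
    rw [← h, hZcard] at hcard
    nlinarith [hp.two_le]
  obtain ⟨x, hxN, hxZ, -, hxc⟩ :=
    Cfsg.Agent.Lib.helper3.exists_mem_not_mem_of_normal_lt hP (Subgroup.zpowers z) N hZN
  have hxp : x ^ p = 1 := hN.2 x hxN
  have key : ∀ g : P, (Subgroup.zpowers z ⊔ Subgroup.zpowers x).map (MulAut.conj g).toMonoidHom ≤
      Subgroup.zpowers z ⊔ Subgroup.zpowers x := by
    intro g
    rw [Subgroup.map_sup]
    apply sup_le
    · refine le_trans ?_ le_sup_left
      rintro _ ⟨y, hy, rfl⟩
      show g * y * g⁻¹ ∈ Subgroup.zpowers z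
      rw [hZc y hy g, mul_inv_cancel_right]
      exact hy
    · rw [MonoidHom.map_zpowers, Subgroup.zpowers_le]
      show g * x * g⁻¹ ∈ Subgroup.zpowers z ⊔ Subgroup.zpowers x
      have h1 : g * x * g⁻¹ = ⁅x, g⁆⁻¹ * x := by
        rw [commutatorElement_def]; group
      rw [h1]
      exact Subgroup.mul_mem _ (Subgroup.inv_mem _ (Subgroup.mem_sup_left (hxc g)))
        (Subgroup.mem_sup_right (Subgroup.mem_zpowers x))
  refine ⟨Subgroup.zpowers z ⊔ Subgroup.zpowers x, ⟨fun n hn g => key g ⟨n, hn, rfl⟩⟩,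
    sup_le ((Subgroup.zpowers_le).2 hzN) ((Subgroup.zpowers_le).2 hxN), ?_⟩
  rw [Cfsg.Agent.Lib.helper3.card_sup_zpowers (Subgroup.zpowers z) x hxZ hxp
    (fun e he => hZc e he x), hZcard]
  ring

/-- A finite `p`-group of `p`-rank at least three has a normal elementary abelian subgroup of
order `p ^ 2`. -/
theorem exists_normal_elementaryAbelian_sq {P : Type*} [Group P] [Finite P] (p : ℕ)
    [Fact p.Prime] (hP : IsPGroup p P) (hrk : ¬ PRankLE p 2 P) :
    ∃ U : Subgroup P, U.Normal ∧ IsElementaryAbelian p U ∧ Nat.card U = p ^ 2 := by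
  have hp : p.Prime := Fact.out
  unfold PRankLE at hrk
  push Not at hrk
  obtain ⟨E, hEc, hEe, hEcard⟩ := hrk
  have hEnc : ¬ IsCyclic E := fun h => by
    have := card_le_of_exponent_of_isCyclic hp.pos E hEe h
    nlinarith [hp.two_le]
  have hnc : ¬ IsCyclic P := fun h => hEnc (Subgroup.isCyclic E)
  by_cases hp2 : p = 2
  · subst hp2
    have hex : ∃ A : Subgroup P, A.Normal ∧ (∀ a ∈ A, ∀ b ∈ A, a * b = b * a) ∧ ¬ IsCyclic A := by
      by_contra hcon
      push Not at hcon
      obtain ⟨n, a, b, ha, hcard, -, -⟩ :=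
        Cfsg.Agent.Lib.helper59.rel_of_normal_abelian_cyclic hP hcon hnc
      have : PRankLE 2 2 P :=
        pRankLE_two_of_card_eq_two_mul_orderOf a (by rw [hcard, ha]; ring)
      exact absurd (this E hEc hEe) (not_le.2 hEcard)
    obtain ⟨A, hAn, hAc, hAnc⟩ := hex
    haveI : IsMulCommutative A := ⟨⟨fun a b => Subtype.ext (hAc a.1 a.2 b.1 b.2)⟩⟩
    obtain ⟨q, E', hq, hE'A, hE'ea, hE'card⟩ :=
      Cfsg.Agent.Lib.helper29.exists_elementaryAbelian_of_not_isCyclic A hAnc
    have hq2 : q = 2 := by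
      have hne : E' ≠ ⊥ := by
        rintro rfl
        rw [Subgroup.card_bot] at hE'card
        nlinarith [hq.two_le]
      obtain ⟨⟨e, he⟩, hne1⟩ := (Subgroup.ne_bot_iff_exists_ne_one).1 hne
      have he1 : e ≠ 1 := fun h => hne1 (Subtype.ext h)
      haveI : Fact q.Prime := ⟨hq⟩
      have ho : orderOf e = q := orderOf_eq_prime (hE'ea.2 e he) he1
      obtain ⟨k, hk⟩ := (IsPGroup.iff_orderOf.mp hP) e
      rw [ho] at hk
      exact (Nat.prime_dvd_prime_iff_eq hq Nat.prime_two).1
        (hq.dvd_of_dvd_pow hk.dvd)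
    subst hq2
    let Ω : Subgroup P :=
      { carrier := {a | a ∈ A ∧ a ^ 2 = 1}
        mul_mem' := fun {a b} ha hb => ⟨A.mul_mem ha.1 hb.1, by
          have hc : Commute a b := hAc a ha.1 b hb.1
          rw [hc.mul_pow, ha.2, hb.2, one_mul]⟩
        one_mem' := ⟨A.one_mem, one_pow _⟩
        inv_mem' := fun {a} ha => ⟨A.inv_mem ha.1, by rw [inv_pow, ha.2, inv_one]⟩ }
    haveI hΩn : Ω.Normal := by
      refine ⟨fun a ha g => ⟨hAn.conj_mem a ha.1 g, ?_⟩⟩
      rw [conj_pow, ha.2, mul_one, mul_inv_cancel]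
    have hΩea : IsElementaryAbelian 2 Ω := by
      rw [isElementaryAbelian_iff']
      exact ⟨fun a ha b hb => hAc a ha.1 b hb.1, fun a ha => ha.2⟩
    have hE'Ω : E' ≤ Ω := fun e he => ⟨hE'A he, hE'ea.2 e he⟩
    have hΩcard : 2 ^ 2 ≤ Nat.card Ω := le_trans hE'card (Subgroup.card_le_of_le hE'Ω)
    obtain ⟨U, hUn, hUΩ, hUcard⟩ := exists_normal_sq_le hP Ω hΩea hΩcard
    exact ⟨U, hUn, isElementaryAbelian_of_le' hUΩ hΩea, hUcard⟩
  · exact Cfsg.Agent.S0126.result hp2 hP hnc

/-- Subgroup form of "`p`-rank greater than `k`". -/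
theorem not_pRankLE_subgroup_iff {G : Type*} [Group G] (p k : ℕ) (H : Subgroup G) :
    ¬ PRankLE p k ↥H ↔
      ∃ B : Subgroup G, B ≤ H ∧ IsElementaryAbelian p B ∧ p ^ k < Nat.card B := by
  constructor
  · intro h
    unfold PRankLE at h
    push Not at h
    obtain ⟨A, hAc, hAe, hAcard⟩ := h
    refine ⟨A.map H.subtype, Subgroup.map_subtype_le A, ?_, ?_⟩
    · rw [isElementaryAbelian_iff']
      constructor
      · rintro _ ⟨a, ha, rfl⟩ _ ⟨b, hb, rfl⟩
        have h3 := hAc.is_comm.comm ⟨a, ha⟩ ⟨b, hb⟩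
        have h2 : a * b = b * a := congrArg Subtype.val h3
        rw [← map_mul, h2, map_mul]
      · rintro _ ⟨a, ha, rfl⟩
        rw [← map_pow, hAe a ha, map_one]
    · rwa [Subgroup.card_map_of_injective H.subtype_injective]
  · rintro ⟨B, hBH, hB, hBcard⟩ h
    exact Cfsg.Agent.Lib.helper26.not_prankLE_self hB.1 (fun a => Subtype.ext (hB.2 a.1 a.2))
      hBcard (Cfsg.Agent.Lib.helper26.prankLE_mono hBH h)

/-- In a `p`-group with a normal subgroup `U` of order `p ^ 2`, a subgroup `Y` of order greater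
than `p ^ 2` meets `C(U)` in a subgroup of order at least `p ^ 2`. -/
theorem sq_le_card_centralizer_inf {P : Type*} [Group P] [Finite P] {p : ℕ} [Fact p.Prime]
    (hP : IsPGroup p P) (U : Subgroup P) [U.Normal] (hUcard : Nat.card U = p ^ 2)
    (Y : Subgroup P) (hY : p ^ 2 < Nat.card Y) :
    p ^ 2 ≤ Nat.card (Subgroup.centralizer (U : Set P) ⊓ Y : Subgroup P) := by
  have hp : p.Prime := Fact.out
  have h1 := card_inf_mul_relIndex (Subgroup.centralizer (U : Set P)) Y
  have h2 : (Subgroup.centralizer (U : Set P)).relIndex Y ≤ p := by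
    have h3 := Cfsg.Agent.Lib.helper3.index_centralizer_le hP U hUcard
    have h4 := Subgroup.relIndex_le_of_le_right (H := Subgroup.centralizer (U : Set P))
      (le_top : Y ≤ ⊤) (by rw [Subgroup.relIndex_top_right]; exact Subgroup.index_ne_zero_of_finite)
    rw [Subgroup.relIndex_top_right] at h4
    exact h4.trans h3
  obtain ⟨n, hn⟩ := (hP.to_subgroup (Subgroup.centralizer (U : Set P) ⊓ Y)).exists_card_eq
  rw [hn] at h1 ⊢
  have h5 : p ^ 1 < p ^ n := by
    rw [pow_one]
    by_contra hcon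
    push Not at hcon
    have : Nat.card Y ≤ p * p := by rw [← h1]; exact Nat.mul_le_mul hcon h2
    nlinarith
  have h6 : 1 < n := (Nat.pow_lt_pow_iff_right hp.one_lt).1 h5
  exact Nat.pow_le_pow_right hp.pos h6

/-- In a finite `p`-group `P` of `p`-rank at least three with a normal elementary abelian
subgroup `U` of order `p ^ 2`, an elementary abelian subgroup `X` of order at least `p ^ 2` is
joined to `U` by a chain of elementwise commuting elementary abelian subgroups of order at least
`p ^ 2` if and only if `C_P(X)` has `p`-rank at least three. -/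
theorem pgroup_connected_iff {P : Type*} [Group P] [Finite P] (p : ℕ) [Fact p.Prime]
    (hP : IsPGroup p P) (hrk : ¬ PRankLE p 2 P) (U : Subgroup P) [U.Normal]
    (hU : IsElementaryAbelian p U) (hUcard : Nat.card U = p ^ 2)
    (X : Subgroup P) (hX : IsElementaryAbelian p X) (hXcard : p ^ 2 ≤ Nat.card X) :
    Relation.ReflTransGen (fun A B : Subgroup P => IsElementaryAbelian p A ∧ p ^ 2 ≤ Nat.card A ∧
      IsElementaryAbelian p B ∧ p ^ 2 ≤ Nat.card B ∧ ∀ a ∈ A, ∀ b ∈ B, a * b = b * a) X U ↔
    ¬ PRankLE p 2 ↥(Subgroup.centralizer (X : Set P)) := by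
  have hp : p.Prime := Fact.out
  have hUab := ((isElementaryAbelian_iff' p U).1 hU).1
  constructor
  · intro h
    clear hX hXcard
    induction h using Relation.ReflTransGen.head_induction_on with
    | refl =>
      rw [not_pRankLE_subgroup_iff]
      obtain ⟨E, hEc, hEe, hEcard⟩ : ∃ E : Subgroup P, IsMulCommutative E ∧
          (∀ a ∈ E, a ^ p = 1) ∧ p ^ 2 < Nat.card E := by
        unfold PRankLE at hrk
        push Not at hrk
        exact hrk
      have hE : IsElementaryAbelian p E := ⟨hEc, hEe⟩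
      have hEab := ((isElementaryAbelian_iff' p E).1 hE).1
      have hDcard : p ^ 2 ≤ Nat.card (Subgroup.centralizer (U : Set P) ⊓ E : Subgroup P) :=
        sq_le_card_centralizer_inf hP U hUcard E hEcard
      have hDea : IsElementaryAbelian p (Subgroup.centralizer (U : Set P) ⊓ E) :=
        isElementaryAbelian_of_le' inf_le_right hE
      have hDU : ∀ a ∈ Subgroup.centralizer (U : Set P) ⊓ E, ∀ b ∈ U, a * b = b * a :=
        fun a ha b hb => (Subgroup.mem_centralizer_iff.1 ha.1 b hb).symm
      have hDUea : IsElementaryAbelian p (Subgroup.centralizer (U : Set P) ⊓ E ⊔ U) :=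
        isElementaryAbelian_sup' hDea hU hDU
      have hDUle : Subgroup.centralizer (U : Set P) ⊓ E ⊔ U ≤ Subgroup.centralizer (U : Set P) :=
        sup_le inf_le_left
          (fun u hu => Subgroup.mem_centralizer_iff.2 (fun h hh => hUab h hh u hu))
      by_cases hc : p ^ 2 < Nat.card (Subgroup.centralizer (U : Set P) ⊓ E ⊔ U : Subgroup P)
      · exact ⟨_, hDUle, hDUea, hc⟩
      · push Not at hc
        have hDeq : Subgroup.centralizer (U : Set P) ⊓ E =
            Subgroup.centralizer (U : Set P) ⊓ E ⊔ U :=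
          Subgroup.eq_of_le_of_card_ge le_sup_left (hc.trans hDcard)
        have hUE : U ≤ E := by
          have h1 : U ≤ Subgroup.centralizer (U : Set P) ⊓ E ⊔ U := le_sup_right
          rw [← hDeq] at h1
          exact h1.trans inf_le_right
        exact ⟨E, fun e he => Subgroup.mem_centralizer_iff.2
          (fun u hu => hEab u (hUE hu) e he), hE, hEcard⟩
    | @head A B hAB _ ih =>
      obtain ⟨hA, hAcard, hB, hBcard, hcomm⟩ := hAB
      have hAab := ((isElementaryAbelian_iff' p A).1 hA).1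
      have hABea : IsElementaryAbelian p (A ⊔ B) := isElementaryAbelian_sup' hA hB hcomm
      by_cases hc : p ^ 2 < Nat.card (A ⊔ B : Subgroup P)
      · rw [not_pRankLE_subgroup_iff]
        refine ⟨A ⊔ B, sup_le ?_ ?_, hABea, hc⟩
        · exact fun a ha => Subgroup.mem_centralizer_iff.2 (fun h hh => hAab h hh a ha)
        · exact fun b hb => Subgroup.mem_centralizer_iff.2 (fun a ha => hcomm a ha b hb)
      · push Not at hc
        have h1 : A = A ⊔ B := Subgroup.eq_of_le_of_card_ge le_sup_left (hc.trans hAcard)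
        have h2 : B = A ⊔ B := Subgroup.eq_of_le_of_card_ge le_sup_right (hc.trans hBcard)
        have h3 : A = B := h1.trans h2.symm
        rw [h3]
        exact ih
  · intro h
    rw [not_pRankLE_subgroup_iff] at h
    obtain ⟨B, hBX, hB, hBcard⟩ := h
    have hXB : ∀ a ∈ X, ∀ b ∈ B, a * b = b * a :=
      fun a ha b hb => Subgroup.mem_centralizer_iff.1 (hBX hb) a ha
    have hYea : IsElementaryAbelian p (X ⊔ B) := isElementaryAbelian_sup' hX hB hXB
    have hYab := ((isElementaryAbelian_iff' p (X ⊔ B)).1 hYea).1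
    have hYcard : p ^ 2 < Nat.card (X ⊔ B : Subgroup P) :=
      lt_of_lt_of_le hBcard (Subgroup.card_le_of_le le_sup_right)
    have hDcard := sq_le_card_centralizer_inf hP U hUcard (X ⊔ B) hYcard
    have hDea : IsElementaryAbelian p
        (Subgroup.centralizer (U : Set P) ⊓ (X ⊔ B) : Subgroup P) :=
      isElementaryAbelian_of_le' inf_le_right hYea
    refine Relation.ReflTransGen.head (b := X ⊔ B)
      ⟨hX, hXcard, hYea, hYcard.le, fun a ha b hb => hYab a (Subgroup.mem_sup_left ha) b hb⟩ ?_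
    refine Relation.ReflTransGen.head (b := Subgroup.centralizer (U : Set P) ⊓ (X ⊔ B))
      ⟨hYea, hYcard.le, hDea, hDcard, fun a ha b hb => hYab a ha b hb.2⟩ ?_
    exact Relation.ReflTransGen.single ⟨hDea, hDcard, hU, hUcard.ge,
      fun a ha b hb => (Subgroup.mem_centralizer_iff.1 ha.1 b hb).symm⟩

end Cfsg.Agent.Lib.helper28
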