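import Mathlib
import Cfsg.Agent.Lib.helper14.BR0Defs

/-!
# S4700 (Brauer–Reynolds), piece AP: first divisor lemma

`d ∣ (p - 1)(n p + 1)`: if `d = u p + 1` with `u ≥ 1` then `u = n` or (III).
-/

set_option autoImplicit false

namespace Cfsg.Agent.Lib.helper28.BR

open Cfsg.Agent.Lib.helper14.BR

/-- AP. -/
theorem arith_plus0 (p n u : ℕ) (hp : p.Prime) (hu : 1 ≤ u)
    (hdvd : u * p + 1 ∣ (p - 1) * (n * p + 1)) : u = n ∨ III n p := by
  have hp2 := hp.two_le
  obtain ⟨c, hc⟩ := hdvd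
  obtain ⟨q, rfl⟩ : ∃ q, p = q + 1 := ⟨p - 1, by omega⟩
  simp only [Nat.add_sub_cancel] at hc
  have hq : 0 < q := by omega
  have hc1 : (q + 1) ∣ c + 1 := by
    have h1 : c + 1 + (q + 1) * (u * c + n) = (q + 1) * (n * (q + 1) + 1) := by
      linear_combination hc.symm
    have h2 : (q + 1) ∣ c + 1 + (q + 1) * (u * c + n) := h1 ▸ dvd_mul_right _ _
    exact (Nat.dvd_add_left (dvd_mul_right _ _)).mp h2
  have hcq : q ≤ c := by
    have := Nat.le_of_dvd (by omega) hc1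
    omega
  have hun : u ≤ n := by
    have h1 : (u * (q + 1) + 1) * q ≤ q * (n * (q + 1) + 1) := by
      rw [hc]; exact Nat.mul_le_mul_left _ hcq
    have h2 : u * (q + 1) + 1 ≤ n * (q + 1) + 1 := by
      rw [mul_comm] at h1
      exact Nat.le_of_mul_le_mul_left h1 hq
    have h3 : u * (q + 1) ≤ n * (q + 1) := by omega
    exact Nat.le_of_mul_le_mul_right h3 (by omega)
  rcases Nat.eq_or_lt_of_le hun with h | hlt
  · exact Or.inl h
  · right
    have hcZ : (q : ℤ) * ((n : ℤ) * (q + 1) + 1) = ((u : ℤ) * (q + 1) + 1) * c := by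
      exact_mod_cast hc
    have key : ((u : ℤ) + 1) * ((n : ℤ) - u) = ((u : ℤ) * (q + 1) + 1) *
        ((u : ℤ) ^ 2 * c - ((n : ℤ) * u * (q + 1) - n + u - n * u)) := by
      linear_combination (u : ℤ) ^ 2 * hcZ
    have hdvdZ : (((u * (q + 1) + 1 : ℕ) : ℤ)) ∣ (((u + 1) * (n - u) : ℕ) : ℤ) := by
      push_cast [Nat.cast_sub hun]
      exact ⟨_, key⟩
    obtain ⟨h, hh⟩ := Int.natCast_dvd_natCast.mp hdvdZ
    have hpos : 0 < (u + 1) * (n - u) := Nat.mul_pos (by omega) (by omega)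
    have hhpos : 0 < h := by
      rcases Nat.eq_zero_or_pos h with h0 | h0
      · rw [h0, mul_zero] at hh; omega
      · exact h0
    refine ⟨h, u, hhpos, by omega, ?_⟩
    obtain ⟨w, rfl⟩ : ∃ w, n = u + w := ⟨n - u, by omega⟩
    simp only [Nat.add_sub_cancel_left] at hh
    nlinarith [hh]

end Cfsg.Agent.Lib.helper28.BR
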