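import Mathlib
import Cfsg.Agent.Lib.helper14.BR0Defs
import Cfsg.Agent.Lib.helper28.BRAP

/-!
# S4700 (Brauer–Reynolds), piece AM: second divisor lemma

`d ∣ (p - 1)(n p + 1)`: if `d ≡ -1 (mod p)` then `d = p - 1`, `d = (p - 1)(n p + 1)`, or (III).
-/

set_option autoImplicit false

namespace Cfsg.Agent.Lib.helper28.BR

open Cfsg.Agent.Lib.helper14.BR

/-- AM. -/
theorem arith_minus0 (p n d : ℕ) (hp : p.Prime) (hn1 : 1 ≤ n)
    (hd : d ∣ (p - 1) * (n * p + 1)) (hmod : (d : ℤ) ≡ -1 [ZMOD p]) :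
    d = p - 1 ∨ d = (p - 1) * (n * p + 1) ∨ III n p := by
  have hp2 := hp.two_le
  obtain ⟨c, hc⟩ := hd
  have hMpos : 0 < (p - 1) * (n * p + 1) := Nat.mul_pos (by omega) (by positivity)
  have hcpos : 0 < c := by
    rcases Nat.eq_zero_or_pos c with h | h
    · rw [h, mul_zero] at hc; omega
    · exact h
  have hpd : (p : ℤ) ∣ (d : ℤ) + 1 := by
    have h1 := Int.modEq_iff_dvd.mp hmod
    have h2 : (d : ℤ) + 1 = -(-1 - (d : ℤ)) := by ring
    rw [h2]; exact (dvd_neg).mpr h1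
  have hcZ : ((p : ℤ) - 1) * ((n : ℤ) * p + 1) = d * c := by
    have h1 : ((p - 1 : ℕ) : ℤ) = (p : ℤ) - 1 := by
      rw [Nat.cast_sub (by omega : 1 ≤ p)]; simp
    have h2 := congrArg (Nat.cast : ℕ → ℤ) hc
    push_cast at h2
    rw [h1] at h2; exact h2
  have hpc : (p : ℤ) ∣ (c : ℤ) - 1 := by
    obtain ⟨k, hk⟩ := hpd
    refine ⟨c * k - (n * p + 1 - n), ?_⟩
    linear_combination (c : ℤ) * hk + hcZ
  obtain ⟨u', hu'⟩ : ∃ u' : ℕ, c = u' * p + 1 := by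
    have h1 : (p : ℤ) ∣ ((c - 1 : ℕ) : ℤ) := by
      rw [Nat.cast_sub hcpos]; simpa using hpc
    obtain ⟨u', hu'⟩ := Int.natCast_dvd_natCast.mp h1
    exact ⟨u', by rw [mul_comm]; omega⟩
  rcases Nat.eq_zero_or_pos u' with h0 | h0
  · right; left
    rw [hu', h0, zero_mul, zero_add, mul_one] at hc
    exact hc.symm
  · have hdvd : u' * p + 1 ∣ (p - 1) * (n * p + 1) := ⟨d, by rw [hc, hu', mul_comm]⟩
    rcases arith_plus0 p n u' hp h0 hdvd with h | h
    · left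
      rw [hu', h] at hc
      exact (Nat.eq_of_mul_eq_mul_right (by positivity : 0 < n * p + 1) hc).symm
    · exact Or.inr (Or.inr h)

end Cfsg.Agent.Lib.helper28.BR
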