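import Mathlib
import Cfsg.Prelude.Def_Characters
import Cfsg.Prelude.Def_Blocks
import Cfsg.Agent.Lib.helper84.BrDefs
import Cfsg.Agent.Lib.helper14.BR0Defs
import Cfsg.Agent.Lib.helper20.BrC1
import Cfsg.Agent.Lib.helper83.CharBasic
import Cfsg.Agent.Lib.helper28.BRAP
import Cfsg.Agent.Lib.helper28.BRAM
import Cfsg.Agent.Lib.helper77.BRAC

/-!
# S4700 (Brauer–Reynolds), piece CFG: if (III) fails, the degrees are forced

`config_of_arith` is the glue, with the arithmetic piece AC (`config_arith`) taken as a hypothesis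
(`ACStmt p e n`).
-/

set_option autoImplicit false

namespace Cfsg.Agent.Lib.helper28.BR

open Cfsg Cfsg.Agent.Lib.helper81 Cfsg.Agent.Lib.helper84.Br Cfsg.Agent.Lib.helper14.BR
open scoped ComplexConjugate

universe u

/-- The statement of piece AC (`config_arith`) for fixed `p e n`. -/
def ACStmt (p e n : ℕ) : Prop :=
  ∀ (a b t y sB : ℕ) (ε : ℤ), p.Prime → p ≠ 2 → 2 ≤ e → 1 + a + b = e → t * e = p - 1 → 1 ≤ n →
    (ε = 1 ∨ ε = -1) →
    ε * (y : ℤ) = 1 + (a : ℤ) * (1 + (n : ℤ) * (p : ℤ)) - (sB : ℤ) →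
    2 ≤ y → y ∣ e * (1 + n * p) → (y : ℤ) ≡ ε * (e : ℤ) [ZMOD p] →
    (∃ b' : ℕ, b' ≤ b ∧ sB = (b - b') * (p - 1) + b' * ((p - 1) * (n * p + 1))) →
    ¬ III n p →
    sB = b * (p - 1) ∧ 1 ≤ b ∧ ((ε = 1 ∧ b = a * n ∧ y = e) ∨
      (ε = -1 ∧ ∃ σ : ℕ, 1 ≤ σ ∧ b = a * n + σ ∧ t * σ = n + 1 ∧ y + e = p * σ))

variable {G : Type u} [Group G] [Fintype G] {p : ℕ} [Fact p.Prime] {P : Sylow p G} {e n : ℕ}

/-- CFG, with the arithmetic piece AC as a hypothesis. -/
theorem config_of_arith (hAC : ACStmt p e n) (D : Data0 G p P e) (hperf : commutator G = ⊤)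
    (hp2 : p ≠ 2) (hP : Nat.card P = p) (he2 : 2 ≤ e) (hep : e ∣ p - 1) (hn1 : 1 ≤ n)
    (hX : ∀ χ ∈ D.X, charDegree (χ : G → ℂ) ∣ e * (1 + n * p))
    (hY : ∀ θ ∈ D.Y, charDegree (θ : G → ℂ) ∣ e * (1 + n * p))
    (hIII : ¬ III n p) : Cfg D n := by
  classical
  have hp : p.Prime := Fact.out
  have hp3 : 3 ≤ p := by have := hp.two_le; omega
  obtain ⟨x₀, hx₀, hx₀1⟩ : ∃ x : G, x ∈ (P : Subgroup G) ∧ x ≠ 1 := by
    have : Nontrivial (P : Subgroup G) := by
      rw [← Finite.one_lt_card_iff_nontrivial, hP]; omega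
    obtain ⟨x, hx⟩ := exists_ne (1 : (P : Subgroup G))
    exact ⟨x, x.2, fun h => hx (Subtype.ext h)⟩
  have hδ1 := D.δ_triv x₀ hx₀ hx₀1
  have hab := D.card_split hδ1
  have hte : D.Y.card * e = p - 1 := D.cardY
  have ht1 : 1 ≤ D.Y.card := by
    rcases Nat.eq_zero_or_pos D.Y.card with h | h
    · rw [h] at hte; omega
    · exact h
  obtain ⟨θ₀, hθ₀⟩ : D.Y.Nonempty := Finset.card_pos.mp ht1
  have h1reg : ¬ p ∣ orderOf (1 : G) := by
    rw [orderOf_one]
    intro h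
    have := Nat.le_of_dvd one_pos h
    omega
  have hYd : ∀ θ ∈ D.Y, charDegree (θ : G → ℂ) = charDegree (θ₀ : G → ℂ) := by
    intro θ hθ
    have h1 := D.agree θ hθ θ₀ hθ₀ 1 h1reg
    rw [Cfsg.Agent.Lib.helper83.irr_one_eq_charDegree,
      Cfsg.Agent.Lib.helper83.irr_one_eq_charDegree] at h1
    exact_mod_cast h1
  have hM : e * (1 + n * p) ∣ (p - 1) * (n * p + 1) := by
    rw [add_comm 1 (n * p)]
    exact Nat.mul_dvd_mul hep dvd_rfl
  -- the degrees in `A`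
  have hA : ∀ χ ∈ D.A, charDegree (χ : G → ℂ) = 1 + n * p := by
    intro χ hχ
    rw [D.mem_A] at hχ
    obtain ⟨hχX, hχ1, hδ⟩ := hχ
    have hmod := D.deg_X χ hχX
    rw [hδ] at hmod
    have hmodN : charDegree (χ : G → ℂ) ≡ 1 [MOD p] := by exact_mod_cast hmod
    have hpos := Cfsg.Agent.Lib.helper83.charDegree_pos χ
    have hdvd1 : p ∣ charDegree (χ : G → ℂ) - 1 := (Nat.modEq_iff_dvd' hpos).mp hmodN.symm
    obtain ⟨u, hu⟩ := hdvd1
    have hdeg : charDegree (χ : G → ℂ) = u * p + 1 := by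
      have : charDegree (χ : G → ℂ) = p * u + 1 := by omega
      rw [this, mul_comm]
    have hu1 : 1 ≤ u := by
      rcases Nat.eq_zero_or_pos u with h0 | h0
      · exfalso
        rw [h0, zero_mul, zero_add] at hdeg
        exact hχ1 (Cfsg.Agent.Lib.helper20.Br.lin_perfect hperf χ hdeg)
      · exact h0
    have hd : u * p + 1 ∣ (p - 1) * (n * p + 1) := hdeg ▸ (hX χ hχX).trans hM
    rcases arith_plus0 p n u hp hu1 hd with h | h
    · rw [hdeg, h, add_comm]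
    · exact absurd h hIII
  -- the degrees in `B`
  have hB0 : ∀ χ ∈ D.B, charDegree (χ : G → ℂ) = p - 1 ∨
      charDegree (χ : G → ℂ) = (p - 1) * (n * p + 1) := by
    intro χ hχ
    rw [D.mem_B] at hχ
    obtain ⟨hχX, hδ⟩ := hχ
    have hmod := D.deg_X χ hχX
    rw [hδ] at hmod
    rcases arith_minus0 p n _ hp hn1 ((hX χ hχX).trans hM) hmod with h | h | h
    · exact Or.inl h
    · exact Or.inr h
    · exact absurd h hIII
  -- the sum of the degrees in `B`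
  set B' : Finset (IrrCharacter G) :=
    D.B.filter (fun χ : IrrCharacter G => charDegree (χ : G → ℂ) = (p - 1) * (n * p + 1)) with hB'def
  have hb'le : B'.card ≤ D.B.card := Finset.card_filter_le _ _
  have hsB : ∑ χ ∈ D.B, charDegree (χ : G → ℂ) =
      (D.B.card - B'.card) * (p - 1) + B'.card * ((p - 1) * (n * p + 1)) := by
    have h1 := Finset.sum_filter_add_sum_filter_not D.B
      (fun χ : IrrCharacter G => charDegree (χ : G → ℂ) = (p - 1) * (n * p + 1))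
      (fun χ : IrrCharacter G => charDegree (χ : G → ℂ))
    have h2 : B'.card + (D.B.filter (fun χ : IrrCharacter G =>
        ¬ charDegree (χ : G → ℂ) = (p - 1) * (n * p + 1))).card = D.B.card :=
      Finset.card_filter_add_card_filter_not (s := D.B)
        (fun χ : IrrCharacter G => charDegree (χ : G → ℂ) = (p - 1) * (n * p + 1))
    have h3 : ∑ χ ∈ D.B.filter (fun χ : IrrCharacter G => charDegree (χ : G → ℂ) = (p - 1) * (n * p + 1)),
        charDegree (χ : G → ℂ) = B'.card * ((p - 1) * (n * p + 1)) := by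
      rw [Finset.sum_congr rfl (fun χ hχ => (Finset.mem_filter.mp hχ).2), Finset.sum_const,
        smul_eq_mul]
    have h4 : ∑ χ ∈ D.B.filter (fun χ : IrrCharacter G => ¬ charDegree (χ : G → ℂ) = (p - 1) * (n * p + 1)),
        charDegree (χ : G → ℂ) = (D.B.card - B'.card) * (p - 1) := by
      have h5 : ∀ χ ∈ D.B.filter (fun χ : IrrCharacter G => ¬ charDegree (χ : G → ℂ) = (p - 1) * (n * p + 1)),
          charDegree (χ : G → ℂ) = p - 1 := by
        intro χ hχ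
        rw [Finset.mem_filter] at hχ
        rcases hB0 χ hχ.1 with h | h
        · exact h
        · exact absurd h hχ.2
      rw [Finset.sum_congr rfl h5, Finset.sum_const, smul_eq_mul]
      congr 1
      omega
    rw [← h1, h3, h4, add_comm]
  have hy : D.ε * (charDegree (θ₀ : G → ℂ) : ℤ) =
      1 + (D.A.card : ℤ) * (1 + (n : ℤ) * (p : ℤ)) -
        ((∑ χ ∈ D.B, charDegree (χ : G → ℂ) : ℕ) : ℤ) := by
    have h1 := D.rel θ₀ hθ₀ 1 h1reg
    rw [D.sum_X_split hδ1] at h1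
    have hsA : ∑ χ ∈ D.A, (D.δ χ : ℂ) * (χ : G → ℂ) 1 = (D.A.card : ℂ) * (1 + n * p) := by
      have h0 : ∀ χ ∈ D.A, (D.δ χ : ℂ) * (χ : G → ℂ) 1 = (1 + n * p : ℂ) := by
        intro χ hχ
        rw [((D.mem_A χ).mp hχ).2.2, Cfsg.Agent.Lib.helper83.irr_one_eq_charDegree, hA χ hχ]
        push_cast; ring
      rw [Finset.sum_congr rfl h0, Finset.sum_const, nsmul_eq_mul]
    have hsB' : ∑ χ ∈ D.B, (D.δ χ : ℂ) * (χ : G → ℂ) 1 =
        -((∑ χ ∈ D.B, charDegree (χ : G → ℂ) : ℕ) : ℂ) := by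
      have h0 : ∀ χ ∈ D.B, (D.δ χ : ℂ) * (χ : G → ℂ) 1 = -((charDegree (χ : G → ℂ) : ℕ) : ℂ) := by
        intro χ hχ
        rw [((D.mem_B χ).mp hχ).2, Cfsg.Agent.Lib.helper83.irr_one_eq_charDegree]
        push_cast; ring
      rw [Finset.sum_congr rfl h0, Finset.sum_neg_distrib, Nat.cast_sum]
    rw [hsA, hsB', hδ1, Cfsg.Agent.Lib.helper83.irr_one_eq_charDegree,
      Cfsg.Agent.Lib.helper81.trivChar_apply] at h1
    have h2 : ((D.ε * (charDegree (θ₀ : G → ℂ) : ℤ) : ℤ) : ℂ) =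
        ((1 + (D.A.card : ℤ) * (1 + (n : ℤ) * (p : ℤ)) -
          ((∑ χ ∈ D.B, charDegree (χ : G → ℂ) : ℕ) : ℤ) : ℤ) : ℂ) := by
      push_cast
      push_cast at h1
      rw [h1]
      ring
    exact_mod_cast h2
  have hθ₀X : θ₀ ∉ D.X := fun h => (Finset.disjoint_left.mp D.disj h) hθ₀
  have hy2 : 2 ≤ charDegree (θ₀ : G → ℂ) := by
    have h1 := Cfsg.Agent.Lib.helper83.charDegree_pos θ₀
    rcases Nat.lt_or_ge 1 (charDegree (θ₀ : G → ℂ)) with h | h
    · exact h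
    · exfalso
      have h2 : charDegree (θ₀ : G → ℂ) = 1 := by omega
      exact hθ₀X (Cfsg.Agent.Lib.helper20.Br.lin_perfect hperf θ₀ h2 ▸ D.one_mem)
  obtain ⟨hs, hb1, hcase⟩ := hAC D.A.card D.B.card D.Y.card (charDegree (θ₀ : G → ℂ))
    (∑ χ ∈ D.B, charDegree (χ : G → ℂ)) D.ε hp hp2 he2 hab hte hn1 D.ε_sq hy hy2 (hY θ₀ hθ₀)
    (D.deg_Y θ₀ hθ₀) ⟨B'.card, hb'le, hsB⟩ hIII
  have hb'0 : B'.card = 0 := by
    have h1 : (D.B.card - B'.card) * (p - 1) + B'.card * (p - 1) = D.B.card * (p - 1) := by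
      rw [← Nat.add_mul, Nat.sub_add_cancel hb'le]
    have h2 : B'.card * ((p - 1) * (n * p + 1)) =
        B'.card * (p - 1) + B'.card * ((p - 1) * (n * p)) := by ring
    have h3 : B'.card * ((p - 1) * (n * p)) = 0 := by
      rw [hs] at hsB
      omega
    rcases Nat.mul_eq_zero.mp h3 with h | h
    · exact h
    · exfalso
      have h4 : 0 < (p - 1) * (n * p) := Nat.mul_pos (by omega) (Nat.mul_pos (by omega) (by omega))
      omega
  have hB : ∀ χ ∈ D.B, charDegree (χ : G → ℂ) = p - 1 := by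
    intro χ hχ
    rcases hB0 χ hχ with h | h
    · exact h
    · exfalso
      have h1 : χ ∈ B' := Finset.mem_filter.mpr ⟨hχ, h⟩
      rw [Finset.card_eq_zero.mp hb'0] at h1
      exact absurd h1 (Finset.notMem_empty χ)
  refine ⟨hA, hB, hb1, ?_⟩
  rcases hcase with ⟨hε, hb, hye⟩ | ⟨hε, σ, hσ, hb, htσ, hyσ⟩
  · exact Or.inl ⟨hε, hb, fun θ hθ => (hYd θ hθ).trans hye⟩
  · exact Or.inr ⟨hε, σ, hσ, hb, htσ, fun θ hθ => by rw [hYd θ hθ]; exact hyσ⟩

/-- CFG : if (III) fails, the degrees are forced. -/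
theorem config (D : Data0 G p P e) (hperf : commutator G = ⊤) (hp2 : p ≠ 2)
    (hP : Nat.card P = p) (he2 : 2 ≤ e) (hep : e ∣ p - 1) (hn1 : 1 ≤ n)
    (hX : ∀ χ ∈ D.X, charDegree (χ : G → ℂ) ∣ e * (1 + n * p))
    (hY : ∀ θ ∈ D.Y, charDegree (θ : G → ℂ) ∣ e * (1 + n * p))
    (hIII : ¬ III n p) : Cfg D n :=
  config_of_arith
    (fun a b t y sB ε hp' hp2' he2' hab ht hn1' hε hy hy2 hydvd hymod hsB hIII' =>
      Cfsg.Agent.Lib.helper77.BR.config_arith p e n a b t y sB ε hp' hp2' he2' hab ht hn1' hε hy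
        hy2 hydvd hymod hsB hIII')
    D hperf hp2 hP he2 hep hn1 hX hY hIII

end Cfsg.Agent.Lib.helper28.BR
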