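import Mathlib
import Cfsg.Agent.Lib.helper42.FGDefs

/-!
S1915 split, leaf T2B (`case_central`), claimed by helper28.
-/

set_option autoImplicit false

namespace Cfsg.Agent.Lib.helper28.FGT2B
end Cfsg.Agent.Lib.helper28.FGT2B

namespace Cfsg.Agent.Lib.helper42.FG

variable {G : Type*} [Group G] [Finite G]

/-- elements of a cyclic subgroup commute -/
theorem helper28_cyc_comm {B : Subgroup G} (hc : IsCyclic B) {x y : G} (hx : x ∈ B) (hy : y ∈ B) :
    x * y = y * x := by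
  haveI := hc
  have := (IsCyclic.commGroup (α := ↥B)).mul_comm ⟨x, hx⟩ ⟨y, hy⟩
  exact congrArg Subtype.val this

/-- a cyclic subgroup has at most one involution -/
theorem helper28_cyc_inv {B : Subgroup G} (hc : IsCyclic B) {z : G} (hzB : z ∈ B) (hz1 : z ≠ 1)
    (hz2 : z ^ 2 = 1) {x : G} (hx : x ∈ B) (hx2 : x ^ 2 = 1) : x = 1 ∨ x = z := by
  classical
  haveI := hc
  haveI : Fintype ↥B := Fintype.ofFinite _
  by_contra hcon
  push Not at hcon
  have hle := IsCyclic.card_pow_eq_one_le (α := ↥B) (n := 2) (by norm_num)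
  have hsub : ({1, ⟨z, hzB⟩, ⟨x, hx⟩} : Finset ↥B) ⊆
      Finset.univ.filter (fun a : ↥B => a ^ 2 = 1) := by
    intro a ha
    simp only [Finset.mem_insert, Finset.mem_singleton] at ha
    rw [Finset.mem_filter]
    refine ⟨Finset.mem_univ _, ?_⟩
    rcases ha with rfl | rfl | rfl
    · simp
    · exact Subtype.ext (by simpa using hz2)
    · exact Subtype.ext (by simpa using hx2)
  have h3 : ({1, ⟨z, hzB⟩, ⟨x, hx⟩} : Finset ↥B).card = 3 := by
    refine Finset.card_eq_three.2 ⟨1, ⟨z, hzB⟩, ⟨x, hx⟩, ?_, ?_, ?_, rfl⟩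
    · intro h0
      exact hz1 (congrArg Subtype.val h0).symm
    · intro h0
      exact hcon.1 (congrArg Subtype.val h0).symm
    · intro h0
      exact hcon.2 (congrArg Subtype.val h0).symm
  have := Finset.card_le_card hsub
  omega

/-- T2B -/
theorem case_central {A S U : Subgroup G} (h : Cfg A S U) {B : Subgroup G} (hB : BData S U B)
    {z : G} (hzB : z ∈ B) (hz : ZData S z) (u : G) (hu : u ∈ U) (hu1 : u ≠ 1)
    (huB : ∀ x ∈ B, u * x = x * u) : ∃ x ∈ S, ∀ y ∈ S, u * y * u⁻¹ = x * y * x⁻¹ := by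
  classical
  have hz1 : z ≠ 1 := by
    intro h0
    have := hz.hz2
    rw [h0, orderOf_one] at this
    omega
  have hz2 : z ^ 2 = 1 := by
    have := pow_orderOf_eq_one z
    rwa [hz.hz2] at this
  have hcomm : ∀ x ∈ B, ∀ y ∈ B, x * y = y * x := fun x hx y hy =>
    helper28_cyc_comm hB.hcyc hx hy
  have hinv : ∀ x ∈ B, x ^ 2 = 1 → x = 1 ∨ x = z := fun x hx hx2 =>
    helper28_cyc_inv hB.hcyc hzB hz1 hz2 hx hx2
  have hidx : (B.subgroupOf S).index = 2 := hB.hidx
  have hmul : ∀ a ∈ S, ∀ b ∈ S, (a * b ∈ B ↔ (a ∈ B ↔ b ∈ B)) := by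
    intro a ha b hb
    have := Subgroup.mul_mem_iff_of_index_two hidx (a := ⟨a, ha⟩) (b := ⟨b, hb⟩)
    simpa [Subgroup.mem_subgroupOf] using this
  have hu2 : u * u = 1 := by
    haveI := h.hU
    have h1 : (⟨u, hu⟩ : ↥U) ^ 2 = 1 := by
      have := Monoid.pow_exponent_eq_one (⟨u, hu⟩ : ↥U)
      rwa [IsKleinFour.exponent_two] at this
    have h2 := congrArg Subtype.val h1
    simpa [pow_two] using h2
  have huinv : u⁻¹ = u := inv_eq_of_mul_eq_one_left hu2
  have huS : ∀ y, y ∈ S ↔ u * y * u⁻¹ ∈ S := Subgroup.mem_normalizer_iff.mp (h.hUS hu)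
  have huBn : ∀ y, y ∈ B ↔ u * y * u⁻¹ ∈ B := Subgroup.mem_normalizer_iff.mp (hB.hUB hu)
  have hSBn : ∀ s ∈ S, ∀ y, y ∈ B ↔ s * y * s⁻¹ ∈ B := fun s hs =>
    Subgroup.mem_normalizer_iff.mp (hB.hSB hs)
  obtain ⟨E, hES, hEl, hEc⟩ := h.hc
  have hEB : ¬ E ≤ B := by
    intro hEB
    have hsub : (E : Set G) ⊆ {1, z} := by
      intro e he
      rcases hinv e (hEB he) (hEl.2 e he) with h1 | h1
      · left
        exact h1
      · right
        exact h1
    have h1 : Nat.card E ≤ 2 := by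
      rw [← SetLike.coe_sort_coe, Nat.card_coe_set_eq]
      calc (E : Set G).ncard ≤ ({1, z} : Set G).ncard :=
            Set.ncard_le_ncard hsub (Set.toFinite _)
        _ ≤ ({z} : Set G).ncard + 1 := Set.ncard_insert_le 1 {z}
        _ = 2 := by rw [Set.ncard_singleton]
    omega
  obtain ⟨s, hsE, hsB⟩ := SetLike.not_le_iff_exists.1 hEB
  have hsS : s ∈ S := hES hsE
  have husS : u * s * u⁻¹ ∈ S := (huS s).mp hsS
  have husB : u * s * u⁻¹ ∉ B := fun hc => hsB ((huBn s).mpr hc)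
  obtain ⟨b₁, hb₁B, hus⟩ : ∃ b₁ ∈ B, u * s * u⁻¹ = s * b₁ := by
    refine ⟨s⁻¹ * (u * s * u⁻¹), ?_, by group⟩
    rw [hmul _ (S.inv_mem hsS) _ husS]
    constructor
    · intro hc
      exact absurd (B.inv_mem_iff.mp hc) hsB
    · intro hc
      exact absurd hc husB
  have hb₁2 : b₁ * b₁ = 1 := by
    have h1 : u * (u * s * u⁻¹) * u⁻¹ = s := by
      rw [huinv]
      calc u * (u * s * u) * u = (u * u) * s * (u * u) := by group
        _ = s := by rw [hu2, one_mul, mul_one]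
    have h2 : u * (s * b₁) * u⁻¹ = s * b₁ * b₁ := by
      calc u * (s * b₁) * u⁻¹ = (u * s * u⁻¹) * (u * b₁ * u⁻¹) := by group
        _ = s * b₁ * b₁ := by
          rw [hus, huB b₁ hb₁B, mul_assoc b₁, mul_inv_cancel, mul_one]
    rw [hus, h2] at h1
    have : s * (b₁ * b₁) = s * 1 := by
      rw [mul_one, ← mul_assoc]
      exact h1
    exact mul_left_cancel this
  have hkey : ∃ x' ∈ B, x' * s * x'⁻¹ = u * s * u⁻¹ := by
    rcases hinv b₁ hb₁B (by rw [pow_two]; exact hb₁2) with hb1 | hbz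
    · exact ⟨1, B.one_mem, by rw [hus, hb1]; group⟩
    · obtain ⟨x₀, hx₀B, hx₀⟩ : ∃ x₀ ∈ B, s * x₀ ≠ x₀ * s := by
        by_contra hcon
        push Not at hcon
        exact hsB (hB.hself s hsS hcon)
      obtain ⟨hh, hhdef⟩ : ∃ hh, hh = s * x₀ * s⁻¹ * x₀⁻¹ := ⟨_, rfl⟩
      have hhB : hh ∈ B := by
        rw [hhdef]
        exact B.mul_mem ((hSBn s hsS x₀).mp hx₀B) (B.inv_mem hx₀B)
      have hh1 : hh ≠ 1 := by
        intro h1
        apply hx₀
        have : s * x₀ = hh * (x₀ * s) := by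
          rw [hhdef]
          group
        rw [this, h1, one_mul]
      have hord : orderOf hh ∣ 2 ^ (Nat.card A).factorization 2 := by
        rw [← h.hSyl]
        have := orderOf_dvd_natCard (⟨hh, hB.hBS hhB⟩ : ↥S)
        rwa [Subgroup.orderOf_mk] at this
      obtain ⟨j, -, hj⟩ := (Nat.dvd_prime_pow Nat.prime_two).1 hord
      have hj0 : j ≠ 0 := by
        rintro rfl
        rw [pow_zero, orderOf_eq_one_iff] at hj
        exact hh1 hj
      obtain ⟨i, rfl⟩ : ∃ i, j = i + 1 := ⟨j - 1, by omega⟩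
      have hz'1 : hh ^ (2 ^ i) ≠ 1 := by
        apply pow_ne_one_of_lt_orderOf (by positivity)
        rw [hj]
        exact Nat.pow_lt_pow_right (by norm_num) (by omega)
      have hz'2 : (hh ^ (2 ^ i)) ^ 2 = 1 := by
        rw [← pow_mul, ← pow_succ, ← hj, pow_orderOf_eq_one]
      have hz' : hh ^ (2 ^ i) = z := by
        rcases hinv _ (B.pow_mem hhB _) hz'2 with h1 | h1
        · exact absurd h1 hz'1
        · exact h1
      have hpow : ∀ n : ℕ, s * x₀ ^ n * s⁻¹ * (x₀ ^ n)⁻¹ = hh ^ n := by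
        intro n
        have hc : Commute (s * x₀ * s⁻¹) x₀⁻¹ :=
          hcomm _ ((hSBn s hsS x₀).mp hx₀B) _ (B.inv_mem hx₀B)
        rw [hhdef, hc.mul_pow, conj_pow, inv_pow]
      obtain ⟨x, hxdef⟩ : ∃ x, x = x₀ ^ (2 ^ i) := ⟨_, rfl⟩
      have hx : s * x * s⁻¹ * x⁻¹ = z := by rw [hxdef, hpow, hz']
      have hxB : x ∈ B := by
        rw [hxdef]
        exact B.pow_mem hx₀B _
      refine ⟨x⁻¹, B.inv_mem hxB, ?_⟩
      rw [hus, hbz, inv_inv]
      have hzs : s * z = z * s := hz.hzc s hsS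
      have hzx : x * z = z * x := hz.hzc x (hB.hBS hxB)
      have h5 : s * x = z * x * s := by
        have : s * x = (s * x * s⁻¹ * x⁻¹) * x * s := by group
        rw [this, hx]
      calc x⁻¹ * s * x = x⁻¹ * (s * x) := by group
        _ = x⁻¹ * (z * x * s) := by rw [h5]
        _ = x⁻¹ * (x * z) * s := by rw [hzx]; group
        _ = z * s := by group
        _ = s * z := hzs.symm
  obtain ⟨x', hx'B, hx's⟩ := hkey
  refine ⟨x', hB.hBS hx'B, ?_⟩
  intro y hy
  by_cases hyB : y ∈ B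
  · have h1 : u * y * u⁻¹ = y := by rw [huB y hyB, mul_assoc, mul_inv_cancel, mul_one]
    have h2 : x' * y * x'⁻¹ = y := by
      rw [hcomm x' hx'B y hyB, mul_assoc, mul_inv_cancel, mul_one]
    rw [h1, h2]
  · obtain ⟨c, hcB, hyc⟩ : ∃ c ∈ B, y = c * s := by
      refine ⟨y * s⁻¹, ?_, by group⟩
      rw [hmul y hy s⁻¹ (S.inv_mem hsS)]
      constructor
      · intro hc
        exact absurd hc hyB
      · intro hc
        exact absurd (B.inv_mem_iff.mp hc) hsB
    have h1 : u * c * u⁻¹ = c := by rw [huB c hcB, mul_assoc, mul_inv_cancel, mul_one]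
    have h2 : x' * c * x'⁻¹ = c := by
      rw [hcomm x' hx'B c hcB, mul_assoc, mul_inv_cancel, mul_one]
    calc u * y * u⁻¹ = (u * c * u⁻¹) * (u * s * u⁻¹) := by rw [hyc]; group
      _ = c * (x' * s * x'⁻¹) := by rw [h1, hx's]
      _ = (x' * c * x'⁻¹) * (x' * s * x'⁻¹) := by rw [h2]
      _ = x' * y * x'⁻¹ := by rw [hyc]; group

end Cfsg.Agent.Lib.helper42.FG
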