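import Mathlib
import Cfsg.Prelude.Def_Classical
import Cfsg.Agent.Lib.helper7.QuadCount

/-!
S5977/S5978 block [C] (architect helper2), piece N1M (`qfc_count_minus`), claimed by helper28.
-/

set_option autoImplicit false

namespace Cfsg.Agent.Lib.helper28.QfcN1M
end Cfsg.Agent.Lib.helper28.QfcN1M

namespace Cfsg.Agent.Lib.helper2

open Matrix

theorem helper28_qfc_count_minus_aux {F : Type*} [Field F] [Fintype F] (m : ℕ) (hm : 1 ≤ m)
    (a b : F)
    (hbin : Nat.card {z : Fin 2 → F // z 0 ^ 2 + a * z 0 * z 1 + b * z 1 ^ 2 = 1} =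
      Fintype.card F + 1) :
    Nat.card {v : (Fin m ⊕ Fin m) ⊕ Fin 2 → F // Cfsg.quadFormMinus m F a b v = 1} =
      Fintype.card F ^ m * (Fintype.card F ^ (m + 1) + 1) := by
  classical
  let N : (Fin 2 → F) → F := fun z => z 0 ^ 2 + a * z 0 * z 1 + b * z 1 ^ 2
  let e : ((Fin m ⊕ Fin m) ⊕ Fin 2 → F) ≃ (Fin 2 → F) × ((Fin m → F) × (Fin m → F)) :=
    (Equiv.sumArrowEquivProdArrow _ _ _).trans ((Equiv.prodComm _ _).trans
      (Equiv.prodCongr (Equiv.refl _) (Equiv.sumArrowEquivProdArrow _ _ _)))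
  have he : ∀ v, Cfsg.quadFormMinus m F a b v = (e v).2.1 ⬝ᵥ (e v).2.2 + N (e v).1 := by
    intro v
    rfl
  have h1 : Nat.card {v : (Fin m ⊕ Fin m) ⊕ Fin 2 → F // Cfsg.quadFormMinus m F a b v = 1} =
      Nat.card {p : (Fin 2 → F) × ((Fin m → F) × (Fin m → F)) //
        p.2.1 ⬝ᵥ p.2.2 = 1 - N p.1} := by
    apply Nat.card_congr
    refine e.subtypeEquiv (fun v => ?_)
    rw [he]
    constructor
    · intro h
      rw [← h]
      ring
    · intro h
      rw [h]
      ring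
  rw [h1, Nat.card_congr (Equiv.subtypeProdEquivSigmaSubtype
    (fun (z : Fin 2 → F) (p : (Fin m → F) × (Fin m → F)) => p.1 ⬝ᵥ p.2 = 1 - N z)),
    Nat.card_sigma]
  have h2 : ∀ z : Fin 2 → F,
      Nat.card {p : (Fin m → F) × (Fin m → F) // p.1 ⬝ᵥ p.2 = 1 - N z} =
      (if N z = 1 then Fintype.card F ^ m else 0) +
        (Fintype.card F ^ m - 1) * Fintype.card F ^ (m - 1) := by
    intro z
    rw [Cfsg.Agent.Lib.helper7.card_hyperbolic_eq (ι := Fin m) (1 - N z), Fintype.card_fin]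
    congr 1
    by_cases hz : N z = 1
    · rw [if_pos hz, if_pos (by rw [hz, sub_self])]
    · rw [if_neg hz, if_neg (fun h0 => hz (by rw [sub_eq_zero] at h0; exact h0.symm))]
  rw [Finset.sum_congr rfl (fun z _ => h2 z), Finset.sum_add_distrib, Finset.sum_const,
    Finset.card_univ, smul_eq_mul, ← Finset.sum_filter, Finset.sum_const, smul_eq_mul]
  have h3 : (Finset.univ.filter (fun z : Fin 2 → F => N z = 1)).card = Fintype.card F + 1 := by
    rw [← hbin, Nat.card_eq_fintype_card, Fintype.card_subtype]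
  rw [h3, Fintype.card_fun, Fintype.card_fin]
  obtain ⟨t, ht⟩ : ∃ t, Fintype.card F ^ m = t + 1 :=
    ⟨Fintype.card F ^ m - 1, by
      have : 0 < Fintype.card F ^ m := pow_pos Fintype.card_pos m
      omega⟩
  have hQ : Fintype.card F * Fintype.card F ^ (m - 1) = t + 1 := by
    rw [← pow_succ', Nat.sub_add_cancel hm, ht]
  rw [pow_succ (Fintype.card F) m, ht, Nat.add_sub_cancel]
  have h4 : Fintype.card F ^ 2 * (t * Fintype.card F ^ (m - 1)) =
      Fintype.card F * t * (Fintype.card F * Fintype.card F ^ (m - 1)) := by ring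
  rw [h4, hQ]
  ring

/-- N1M -/
theorem qfc_count_minus {F : Type*} [Field F] [Fintype F] (d : ℕ) (hd : 2 ≤ d) (a b : F)
    (hbin : Nat.card {z : Fin 2 → F // z 0 ^ 2 + a * z 0 * z 1 + b * z 1 ^ 2 = 1} =
      Fintype.card F + 1) :
    Nat.card {v : (Fin (d - 1) ⊕ Fin (d - 1)) ⊕ Fin 2 → F //
        Cfsg.quadFormMinus (d - 1) F a b v = 1} =
      Fintype.card F ^ (d - 1) * (Fintype.card F ^ d + 1) := by
  have h := helper28_qfc_count_minus_aux (d - 1) (by omega) a b hbin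
  rwa [Nat.sub_add_cancel (by omega : 1 ≤ d)] at h

end Cfsg.Agent.Lib.helper2
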