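import Mathlib
import Cfsg.Prelude.Def_Local
import Cfsg.Agent.Lib.helper28.Layer
import Cfsg.Agent.Lib.helper28.BenderMax
import Cfsg.Agent.Lib.helper1.Coprime

set_option autoImplicit false
set_option linter.style.haveILetI false
set_option linter.unusedSectionVars false

namespace Cfsg.Agent.Lib.helper28

open Cfsg
open scoped commutatorElement Pointwise

/-! ### `p`-groups acting on subnormal subgroups of `F*(H)` when `O_p(H) = 1` -/

/-- If `O_p(H) = 1` then the Fitting subgroup of `H` has order prime to `p`. -/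
theorem fittingSubgroup_card_coprime_of_pCore_eq_bot {H : Type*} [Group H] [Finite H] {p : ℕ}
    [Fact p.Prime] (hO : pCore p H = ⊥) : (Nat.card ↥(fittingSubgroup H)).Coprime p := by
  haveI := fittingSubgroup_isNilpotent H
  obtain ⟨S, S', hSc, -, hSp, -, -, hSne⟩ :=
    exists_sylow_hall_of_isNilpotent ↥(fittingSubgroup H) p
  have hSn : (S.map (fittingSubgroup H).subtype).Normal := inferInstance
  have h1 : S.map (fittingSubgroup H).subtype ≤ pCore p H := le_sSup ⟨hSn, hSp.map _⟩
  rw [hO, le_bot_iff] at h1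
  have h2 : S = ⊥ :=
    (Subgroup.map_eq_bot_iff_of_injective _ (Subgroup.subtype_injective _)).mp h1
  rw [Nat.coprime_comm, Nat.Prime.coprime_iff_not_dvd Fact.out]
  intro hdvd
  exact hSne hdvd h2

/-- Let `O_p(H) = 1`, `Y` a `p`-subgroup normalizing the subnormal subgroup `L ≤ F*(H)` of `H`.
Then `L = [L, Y] C_L(Y)`. -/
theorem commutator_sup_centralizer_of_le_generalizedFitting {G : Type*} [Group G] [Finite G]
    {p : ℕ} [Fact p.Prime] (H : Subgroup G) (hO : pCore p ↥H = ⊥) (Y : Subgroup G)
    (hY : IsPGroup p ↥Y) (L : Subgroup G)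
    (hLF : L ≤ (generalizedFittingSubgroup ↥H).map H.subtype)
    (hLsn : (L.subgroupOf H).IsSubnormal) (hYL : Y ≤ Subgroup.normalizer (L : Set G)) :
    ⁅L, Y⁆ ⊔ (L ⊓ Subgroup.centralizer (Y : Set G)) = L := by
  have hLH : L ≤ H := hLF.trans (Subgroup.map_subtype_le _)
  have hcomm_le : ⁅L, Y⁆ ≤ L := Cfsg.Agent.Lib.helper1.commutator_le_of_le_normalizer hYL
  apply le_antisymm (sup_le hcomm_le inf_le_left)
  -- `L = F(L) E(L)`
  have hLF' : L.subgroupOf H ≤ generalizedFittingSubgroup ↥H := by
    intro x hx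
    rw [Subgroup.mem_subgroupOf] at hx
    obtain ⟨y, hy, hyx⟩ := hLF hx
    have hyx' : y = x := Subtype.ext hyx
    rwa [← hyx']
  have h1 := fittingSubgroup_sup_layer_eq_top_of_isSubnormal hLsn hLF'
  have h2 : fittingSubgroup ↥L ⊔ layer ↥L = ⊤ := by
    rw [← fittingSubgroup_map_equiv (Subgroup.subgroupOfEquivOfLe hLH),
      ← layer_map_equiv (Subgroup.subgroupOfEquivOfLe hLH), ← Subgroup.map_sup, h1]
    exact Subgroup.map_top_of_surjective _ (Subgroup.subgroupOfEquivOfLe hLH).surjective
  have h3 : L = (fittingSubgroup ↥L).map L.subtype ⊔ (layer ↥L).map L.subtype := by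
    rw [← Subgroup.map_sup, h2, ← MonoidHom.range_eq_map, Subgroup.range_subtype]
  -- the Fitting part
  have hFLle : (fittingSubgroup ↥L).map L.subtype ≤ L := Subgroup.map_subtype_le _
  have hFLnL : L ≤ Subgroup.normalizer (((fittingSubgroup ↥L).map L.subtype : Subgroup G) : Set G) :=
    Cfsg.Agent.Lib.helper27.le_normalizer_map_subtype_of_characteristic L (fittingSubgroup ↥L)
  have hFLn : Y ≤ Subgroup.normalizer (((fittingSubgroup ↥L).map L.subtype : Subgroup G) : Set G) :=
    hYL.trans (Cfsg.Agent.Lib.helper27.normalizer_le_normalizer_map_subtype_of_characteristic L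
      (fittingSubgroup ↥L))
  have hFLcop : (Nat.card ↥Y).Coprime (Nat.card ↥((fittingSubgroup ↥L).map L.subtype)) := by
    have hFH : ((fittingSubgroup ↥L).map L.subtype).subgroupOf H ≤ fittingSubgroup ↥H := by
      apply le_fittingSubgroup_of_isSubnormal
      · -- subnormal in `H`
        have hle : ((fittingSubgroup ↥L).map L.subtype).subgroupOf H ≤ L.subgroupOf H := by
          intro x hx
          rw [Subgroup.mem_subgroupOf] at hx ⊢
          exact hFLle hx
        haveI hn : ((((fittingSubgroup ↥L).map L.subtype).subgroupOf H).subgroupOf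
            (L.subgroupOf H)).Normal := by
          apply Subgroup.normal_subgroupOf_of_le_normalizer
          intro x hx
          rw [Subgroup.mem_subgroupOf] at hx
          have h4 := hFLnL hx
          rw [Subgroup.mem_normalizer_iff] at h4 ⊢
          intro y
          rw [Subgroup.mem_subgroupOf, Subgroup.mem_subgroupOf]
          exact h4 (y : G)
        have h5 := (Subgroup.Normal.isSubnormal hn).trans' hLsn
        rw [Subgroup.map_subgroupOf_eq_of_le hle] at h5
        exact h5
      · haveI := fittingSubgroup_isNilpotent ↥L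
        haveI h6 : Group.IsNilpotent ↥((fittingSubgroup ↥L).map L.subtype) :=
          Group.nilpotent_of_mulEquiv
            ((fittingSubgroup ↥L).equivMapOfInjective L.subtype L.subtype_injective)
        exact Group.nilpotent_of_mulEquiv
          (Subgroup.subgroupOfEquivOfLe (hFLle.trans hLH)).symm
    have h7 : Nat.card ↥((fittingSubgroup ↥L).map L.subtype) ∣ Nat.card ↥(fittingSubgroup ↥H) := by
      rw [← Cfsg.Agent.Lib.helper27.card_subgroupOf_of_le (hFLle.trans hLH)]
      exact Subgroup.card_dvd_of_le hFH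
    have h8 := fittingSubgroup_card_coprime_of_pCore_eq_bot hO
    obtain ⟨n, hn⟩ := (IsPGroup.iff_card.mp hY)
    rw [hn]
    apply Nat.Coprime.pow_left
    exact (Nat.Coprime.coprime_dvd_left h7 h8).symm
  have hYsolv : Group.IsSolvable ↥Y := by
    haveI := hY.isNilpotent
    infer_instance
  have hFLdec := Cfsg.Agent.Lib.helper1.commutator_sup_fixed Y
    ((fittingSubgroup ↥L).map L.subtype) hFLn hFLcop (Or.inl hYsolv)
  -- the layer part
  have hEL : (layer ↥L).map L.subtype ≤ ⁅L, Y⁆ ⊔ (L ⊓ Subgroup.centralizer (Y : Set G)) := by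
    rw [Subgroup.map_le_iff_le_comap]
    apply sSup_le
    intro K hK
    rw [← Subgroup.map_le_iff_le_comap]
    have hK' : IsComponent K := hK
    have hKL : K.map L.subtype ≤ L := Subgroup.map_subtype_le K
    haveI hNn : (⁅L, Y⁆.subgroupOf L).Normal :=
      Subgroup.normal_subgroupOf_of_le_normalizer (Subgroup.normalizer_commutator_ge_left L Y)
    rcases isComponent_le_or_commute hK' (Subgroup.Normal.isSubnormal hNn) with h | h
    · apply le_sup_of_le_left
      rintro _ ⟨x, hx, rfl⟩
      exact Subgroup.mem_subgroupOf.mp (h hx)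
    · apply le_sup_of_le_right
      apply le_inf hKL
      have h4 : ⁅K.map L.subtype, ⁅L, Y⁆⁆ = ⊥ := by
        have h4' := congrArg (Subgroup.map L.subtype) h
        rw [Subgroup.map_commutator, Subgroup.map_subgroupOf_eq_of_le hcomm_le,
          Subgroup.map_bot] at h4'
        exact h4'
      have h5 : ⁅⁅K.map L.subtype, Y⁆, K.map L.subtype⁆ = ⊥ := by
        rw [Subgroup.commutator_comm, eq_bot_iff, ← h4]
        exact Subgroup.commutator_mono le_rfl (Subgroup.commutator_mono hKL le_rfl)
      have h6 : ⁅⁅Y, K.map L.subtype⁆, K.map L.subtype⁆ = ⊥ := by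
        rw [Subgroup.commutator_comm Y]
        exact h5
      have h7 : ⁅⁅K.map L.subtype, K.map L.subtype⁆, Y⁆ = ⊥ :=
        Subgroup.commutator_commutator_eq_bot_of_rotate h5 h6
      have h8 : ⁅K.map L.subtype, K.map L.subtype⁆ = K.map L.subtype := by
        rw [← Subgroup.map_commutator, isComponent_isPerfect hK']
      rw [h8] at h7
      exact Subgroup.commutator_eq_bot_iff_le_centralizer.mp h7
  refine h3.le.trans (sup_le ?_ hEL)
  rw [← hFLdec]
  exact sup_le_sup (Subgroup.commutator_mono hFLle le_rfl) (inf_le_inf_right _ hFLle)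

/-- In the same situation, `[L, Y] = [L, Y, Y]`. -/
theorem commutator_eq_commutator_commutator_of_le_generalizedFitting {G : Type*} [Group G]
    [Finite G] {p : ℕ} [Fact p.Prime] (H : Subgroup G) (hO : pCore p ↥H = ⊥) (Y : Subgroup G)
    (hY : IsPGroup p ↥Y) (L : Subgroup G)
    (hLF : L ≤ (generalizedFittingSubgroup ↥H).map H.subtype)
    (hLsn : (L.subgroupOf H).IsSubnormal) (hYL : Y ≤ Subgroup.normalizer (L : Set G)) :
    ⁅L, Y⁆ = ⁅⁅L, Y⁆, Y⁆ := by
  have h1 := commutator_sup_centralizer_of_le_generalizedFitting H hO Y hY L hLF hLsn hYL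
  have hcomm_le : ⁅L, Y⁆ ≤ L := Cfsg.Agent.Lib.helper1.commutator_le_of_le_normalizer hYL
  apply le_antisymm _ (Subgroup.commutator_mono hcomm_le le_rfl)
  rw [Subgroup.commutator_le]
  intro h hh y hy
  rw [← h1, sup_comm] at hh
  have hN : L ⊓ Subgroup.centralizer (Y : Set G) ≤
      Subgroup.normalizer ((⁅L, Y⁆ : Subgroup G) : Set G) :=
    inf_le_left.trans (Subgroup.normalizer_commutator_ge_left L Y)
  obtain ⟨b, hb, a, ha, rfl⟩ := exists_mul_of_mem_sup_of_le_normalizer hN hh
  have hby : y * b = b * y := Subgroup.mem_centralizer_iff.mp hb.2 y hy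
  have hy' : b⁻¹ * y * b = y := by
    rw [mul_assoc, hby]
    group
  have h2 : ⁅b * a, y⁆ = ⁅b * a * b⁻¹, y⁆ := by
    rw [commutatorElement_def, commutatorElement_def]
    calc b * a * y * (b * a)⁻¹ * y⁻¹ = b * a * y * a⁻¹ * b⁻¹ * y⁻¹ := by group
      _ = b * a * (b⁻¹ * y * b) * a⁻¹ * b⁻¹ * y⁻¹ := by rw [hy']
      _ = b * a * b⁻¹ * y * (b * a * b⁻¹)⁻¹ * y⁻¹ := by group
  rw [h2]
  apply Subgroup.commutator_mem_commutator _ hy
  exact (Subgroup.mem_normalizer_iff.mp (Subgroup.normalizer_commutator_ge_left L Y hb.1) a).mp ha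

end Cfsg.Agent.Lib.helper28
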