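import Mathlib
import Cfsg.Agent.Lib.helper44.PresDefs

/-!
# S2286, piece PG (core): from a Bruhat configuration in a presented group to an isomorphism

The counting bound CB (`card_le_of_conf`) enters as the hypothesis `hCB`.
-/

set_option autoImplicit false

namespace Cfsg.Agent.Lib.helper28.Pres

/-- The three generators of a presented group on `Fin 3`. -/
theorem range_of_fin_three (rels : Set (FreeGroup (Fin 3))) :
    (Set.range (PresentedGroup.of : Fin 3 → PresentedGroup rels)) =
      {PresentedGroup.of (0 : Fin 3), PresentedGroup.of (1 : Fin 3),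
        PresentedGroup.of (2 : Fin 3)} := by
  ext y
  simp only [Set.mem_range, Set.mem_insert_iff, Set.mem_singleton_iff]
  constructor
  · rintro ⟨i, rfl⟩
    fin_cases i
    · exact Or.inl rfl
    · exact Or.inr (Or.inl rfl)
    · exact Or.inr (Or.inr rfl)
  · rintro (rfl | rfl | rfl)
    exacts [⟨0, rfl⟩, ⟨1, rfl⟩, ⟨2, rfl⟩]

/-- A presented group on `Fin 3` is generated by its three generators. -/
theorem closure_three_of (rels : Set (FreeGroup (Fin 3))) :
    Subgroup.closure {PresentedGroup.of (rels := rels) (0 : Fin 3),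
      PresentedGroup.of (1 : Fin 3), PresentedGroup.of (2 : Fin 3)} = ⊤ := by
  rw [← range_of_fin_three]; exact PresentedGroup.closure_range_of rels

end Cfsg.Agent.Lib.helper28.Pres

namespace Cfsg.Agent.Lib.helper44.Pres

open Polynomial

/-- (PG, core) from a configuration in the presented group to an isomorphism, with the counting
bound CB as a hypothesis. -/
theorem pres_of_conf_core {F : Type*} [Field F] [Fintype F] (rels : Set (FreeGroup (Fin 3)))
    (hCB : ∀ (x : F → PresentedGroup rels) (u t h : PresentedGroup rels) (lam : F) (n s : ℕ),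
      IsBConf x u t h lam n s → Subgroup.closure {u, t, h} = ⊤ →
      Finite (PresentedGroup rels) ∧
        Nat.card (PresentedGroup rels) ≤ n * Fintype.card F * (Fintype.card F + 1))
    {S : Type*} [Group S] [Finite S] (f : Fin 3 → S)
    (hf : ∀ r ∈ rels, FreeGroup.lift f r = 1) (hgen : Subgroup.closure (Set.range f) = ⊤)
    (x : F → PresentedGroup rels) (lam : F) (n s : ℕ)
    (hc : IsBConf x (PresentedGroup.of (0 : Fin 3)) (PresentedGroup.of (1 : Fin 3))
      (PresentedGroup.of (2 : Fin 3)) lam n s)
    (hcard : n * Fintype.card F * (Fintype.card F + 1) ≤ Nat.card S) :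
    Nonempty (PresentedGroup rels ≃* S) := by
  obtain ⟨hfin, hle⟩ := hCB x _ _ _ lam n s hc
    (Cfsg.Agent.Lib.helper28.Pres.closure_three_of rels)
  have hsurj : Function.Surjective (PresentedGroup.toGroup hf) := by
    rw [← MonoidHom.range_eq_top, eq_top_iff, ← hgen, Subgroup.closure_le]
    rintro _ ⟨i, rfl⟩
    exact ⟨PresentedGroup.of i, PresentedGroup.toGroup.of hf⟩
  have hbij : Function.Bijective (PresentedGroup.toGroup hf) :=
    hsurj.bijective_of_nat_card_le (hle.trans hcard)
  exact ⟨MulEquiv.ofBijective (PresentedGroup.toGroup hf) hbij⟩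

end Cfsg.Agent.Lib.helper44.Pres
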