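import Mathlib
import Cfsg.Agent.Lib.helper44.PresDefs
import Cfsg.Agent.Lib.helper28.PresPGcore
import Cfsg.Agent.Lib.helper51.PresCB

/-!
# S2286, piece PG: from a Bruhat configuration in a presented group to an isomorphism
-/

set_option autoImplicit false

namespace Cfsg.Agent.Lib.helper28.Pres

/-- marker lemma of this module -/
theorem presPG_marker : True := trivial

end Cfsg.Agent.Lib.helper28.Pres

namespace Cfsg.Agent.Lib.helper44.Pres

open Polynomial

-- PG
theorem pres_of_conf {F : Type*} [Field F] [Fintype F] (rels : Set (FreeGroup (Fin 3)))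
    {S : Type*} [Group S] [Finite S] (f : Fin 3 → S)
    (hf : ∀ r ∈ rels, FreeGroup.lift f r = 1) (hgen : Subgroup.closure (Set.range f) = ⊤)
    (x : F → PresentedGroup rels) (lam : F) (n s : ℕ)
    (hc : IsBConf x (PresentedGroup.of (0 : Fin 3)) (PresentedGroup.of (1 : Fin 3))
      (PresentedGroup.of (2 : Fin 3)) lam n s)
    (hcard : n * Fintype.card F * (Fintype.card F + 1) ≤ Nat.card S) :
    Nonempty (PresentedGroup rels ≃* S) :=
  pres_of_conf_core rels
    (fun x u t h lam n s hc hg => card_le_of_conf x u t h lam n s hc hg)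
    f hf hgen x lam n s hc hcard

end Cfsg.Agent.Lib.helper44.Pres
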