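import Mathlib
import Cfsg.Prelude.Def_OddOrderLocal

/-!
# S1436 (B-G Theorem 14.4(d) / Lemma 14.13): the bundle of facts about a pair `(M, x) → N`

`x ∈ M_σ`, `x ≠ 1`, `C_G(x)` is not contained in `M`, and `N` is the maximal subgroup containing
`C_G(x)`.  `r` is a prime with `r ∈ σ(M) ∩ τ₂(N)` and `A ≤ M ∩ N` is elementary abelian of order
`r ^ 2`.
-/

set_option autoImplicit false

namespace Cfsg.Agent.Lib.helper28.BG1436

open Cfsg Subgroup

variable {G : Type*} [Group G]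

/-- Facts about a B-G 14.4 pair `(M, x) → N`. -/
structure PairFacts (M N : Subgroup G) (x : G) (r : ℕ) (A : Subgroup G) : Prop where
  hx : x ∈ sigmaCore M
  hx1 : x ≠ 1
  hxM : ¬ centralizer ({x} : Set G) ≤ M
  hxN : centralizer ({x} : Set G) ≤ N
  huniq : ∀ L : Subgroup G, IsCoatom L → centralizer ({x} : Set G) ≤ L → L = N
  hnc : ∀ g : G, N ≠ M.map (MulAut.conj g).toMonoidHom
  hcompl : IsComplIn (M ⊓ N) (sigmaCore N) N
  hdisj : sigmaCore N ⊓ M = ⊥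
  hnil : Group.IsNilpotent (sigmaCore N)
  hr : r.Prime
  hrM : r ∈ sigma M
  hrN : r ∈ tau2 N
  hAle : A ≤ M ⊓ N
  hAel : IsElementaryAbelian r A
  hAcard : Nat.card A = r ^ 2
  hAσ : A ≤ sigmaCore M
  hCA : centralizer (A : Set G) ≤ N
  hCσA : sigmaCore N ⊓ centralizer (A : Set G) = ⊥
  hdec : ∀ K' U' : Subgroup G, IsSigmaDecomposition N K' U' → x ∈ U' ⊔ sigmaCore N
  hX : ∃ (q : ℕ) (X : Subgroup G), q.Prime ∧ q ∈ sigma M ∧ IsPGroup q X ∧ X ≠ ⊥ ∧ X ≤ M ∧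
    X ≤ zpowers x ∧ normalizer (X : Set G) ≤ N

end Cfsg.Agent.Lib.helper28.BG1436
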