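import Cfsg.Agent.Lib.helper28.BG1436Imp
import Cfsg.Agent.Lib.helper28.BG1436Defs

/-!
# S1436: the pair facts, conjugation of `β`-elements, and the Hall property of `M ∩ N`
-/

set_option autoImplicit false

namespace Cfsg.Agent.Lib.helper28.BG1436

open Cfsg Subgroup

variable {G : Type*} [Group G]

/-- (P0) the pair facts. -/
theorem pairFacts [Finite G] (hG : IsMinSimpleOddOrder G) (M : Subgroup G) (hM : IsCoatom M)
    (x : G) (hx : x ∈ sigmaCore M) (hx1 : x ≠ 1) (hxM : ¬ centralizer ({x} : Set G) ≤ M)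
    (N : Subgroup G) (hN : IsCoatom N) (hxN : centralizer ({x} : Set G) ≤ N) :
    ∃ (r : ℕ) (A : Subgroup G), PairFacts M N x r A := by
  have h78 : Cfsg.Agent.Lib.helper26.BG1374.H1378 G := (Cfsg.Agent.S1378.result hG).2
  obtain ⟨q, X, hq, hqM, -, hXq, hX1, hXM, hXx⟩ :=
    Cfsg.Agent.Lib.helper26.BG1374.exists_prime_sub M hx hx1
  have : Fact q.Prime := ⟨hq⟩
  have hxM' : x ∈ M := Cfsg.Agent.Lib.helper71.BGA.sigmaCore_le M hx
  have hCX := Cfsg.Agent.Lib.helper26.BG1374.centralizer_le_of_le_zpowers hXx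
  have hNM : ¬ normalizer (X : Set G) ≤ M := fun h =>
    hxM (hCX.trans ((centralizer_le_normalizer _).trans h))
  have hXtop : X ≠ ⊤ := fun h => hM.1 (top_le_iff.mp (h ▸ hXM))
  have hNtop := Cfsg.Agent.Lib.helper71.BG12.normalizer_ne_top' hG hX1 hXtop
  obtain ⟨N', hN', hNX⟩ := (eq_top_or_exists_le_coatom _).resolve_left hNtop
  have hne : N' ≠ M := by rintro rfl; exact hNM hNX
  obtain ⟨hCN', -⟩ := Cfsg.Agent.Lib.helper26.BG1374.caseII_main hG h78 hM hN' hne hqM X hXq hX1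
    hXM hNX hxM' hXx
  obtain ⟨N₀, ⟨hN₀, hxN₀⟩, huniq, -, -, -, -, hdec⟩ :=
    Cfsg.Agent.S1375.result hG M hM x hx hx1 hxM
  obtain rfl : N₀ = N := (huniq N hN hxN).symm
  obtain rfl : N' = N₀ := huniq N' hN' hCN'
  obtain ⟨hτ, hnil, hcompl, hdisj⟩ :=
    Cfsg.Agent.Lib.helper26.BG1374.setting hG h78 hM hN' hne hqM X hXq hX1 hXM hNX
  have hXN : X ≤ N' := le_normalizer.trans hNX
  have hXMN : X ≤ M ⊓ N' := le_inf hXM hXN
  obtain ⟨Sy, hSy⟩ := (hXq.comap_of_injective (M ⊓ N').subtype (M ⊓ N').subtype_injective :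
    IsPGroup q (X.subgroupOf (M ⊓ N'))).exists_le_sylow
  have hXS : X ≤ (Sy : Subgroup ↥(M ⊓ N')).map (M ⊓ N').subtype := by
    intro x hx
    exact ⟨⟨x, hXMN hx⟩, hSy (mem_subgroupOf.mpr hx), rfl⟩
  obtain ⟨hnc, -, -⟩ :=
    Cfsg.Agent.S1424.result hG M hM q hqM X hXq hX1 hXM N' hN' hne hNX Sy hXS
  obtain ⟨A, hAle, hAel, hAcard⟩ :=
    Cfsg.Agent.Lib.helper97.bg7_exists_elemAb_compl N' (M ⊓ N') hcompl q hτ
  have hAσ : A ≤ sigmaCore M := by
    apply Cfsg.Agent.Lib.helper87.BG133.le_sigmaCore_of_pi hG M hM A (hAle.trans inf_le_left)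
    intro p hp hpA
    rw [hAcard] at hpA
    have := (Nat.prime_dvd_prime_iff_eq hp hq).mp (hp.dvd_of_dvd_pow hpA)
    rw [this]; exact hqM
  have hAN : A ≤ N' := hAle.trans inf_le_right
  refine ⟨q, A, ⟨hx, hx1, hxM, hxN, huniq, hnc, hcompl, hdisj, hnil, hq, hqM, hτ, hAle, hAel,
    hAcard, hAσ, ?_, ?_, ?_, ?_⟩⟩
  · exact (Cfsg.Agent.S1416.result hG N' hN' q A ⟨hAN, hAel, hAcard⟩).1
  · exact (Cfsg.Agent.S1417.result hG N' hN' q hτ A ⟨hAN, hAel, hAcard⟩).2.2.2.1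
  · intro K' U' hKU
    exact (hdec K' U' hKU).2.1.2
  · exact ⟨q, X, hq, hqM, hXq, hX1, hXM, hXx, hNX⟩

/-- (CB) conjugating an element of order `p ∈ β(N)` into `N_σ`. -/
theorem conj_beta [Finite G] (hG : IsMinSimpleOddOrder G) (N : Subgroup G) (hN : IsCoatom N)
    (p : ℕ) (hp : p ∈ beta N) (z : G) (hz : orderOf z = p) :
    ∃ c : G, c * z * c⁻¹ ∈ sigmaCore N ∧ ∀ w : G, w * z = z * w → c * w * c⁻¹ ∈ N := by
  have hpp : p.Prime := hp.1.1
  have : Fact p.Prime := ⟨hpp⟩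
  have hpσ : p ∈ sigma N :=
    Cfsg.Agent.Lib.helper8.bg_alpha_sub_sigma hG (Cfsg.Agent.Lib.helper13.bgx_uniq hG) N hN hp.1
  have hz1 : z ≠ 1 := by
    rintro rfl
    rw [orderOf_one] at hz
    exact hpp.one_lt.ne hz
  have hY1 : zpowers z ≠ ⊥ := by
    intro h
    exact hz1 (by rw [← Subgroup.mem_bot, ← h]; exact mem_zpowers z)
  have hYc : Nat.card (zpowers z) = p := by rw [Nat.card_zpowers, hz]
  obtain ⟨c, hc⟩ := Cfsg.Agent.S1425.result hG N hN (zpowers z) hY1 (by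
    intro q hq hqY
    rw [hYc] at hqY
    rw [(Nat.prime_dvd_prime_iff_eq hq hpp).mp hqY]; exact hpσ)
  have hczc : c * z * c⁻¹ ∈ sigmaCore N := hc ⟨z, mem_zpowers z, rfl⟩
  refine ⟨c, hczc, ?_⟩
  obtain ⟨P⟩ : Nonempty (Sylow p ↥(sigmaCore N)) := inferInstance
  have hXN : (zpowers z).map (MulAut.conj c).toMonoidHom ≤ N :=
    hc.trans (Cfsg.Agent.Lib.helper71.BGA.sigmaCore_le N)
  have hXc : Nat.card ((zpowers z).map (MulAut.conj c).toMonoidHom) = p := by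
    rw [Subgroup.card_map_of_injective (MulAut.conj c).injective, hYc]
  obtain ⟨⟨hC, -⟩, -⟩ := Cfsg.Agent.S1423.result hG N hN p hpσ
    ((zpowers z).map (MulAut.conj c).toMonoidHom) hXN hXc P (Or.inl hp)
  intro w hw
  apply hC
  rw [mem_centralizer_iff]
  rintro _ ⟨y, hy, rfl⟩
  obtain ⟨k, rfl⟩ := mem_zpowers_iff.mp hy
  have h1 : Commute w (z ^ k) := (show Commute w z from hw).zpow_right k
  have h2 := h1.eq
  simp only [MulEquiv.coe_toMonoidHom, MulAut.conj_apply]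
  calc c * z ^ k * c⁻¹ * (c * w * c⁻¹) = c * (z ^ k * w) * c⁻¹ := by group
    _ = c * (w * z ^ k) * c⁻¹ := by rw [h2]
    _ = c * w * c⁻¹ * (c * z ^ k * c⁻¹) := by group

/-- (PH) `M ∩ N` is a Hall `σ(N)'`-subgroup of `N`. -/
theorem pair_hall [Finite G] (hG : IsMinSimpleOddOrder G) {M N : Subgroup G} {x : G} {r : ℕ}
    {A : Subgroup G} (hN : IsCoatom N) (F : PairFacts M N x r A) :
    IsPiHallOf {q | q.Prime ∧ q ∉ sigma N} (M ⊓ N) N := by
  have hHall := (Cfsg.Agent.S1350.result hG N hN).1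
  have hcard := Cfsg.Agent.Lib.helper60.BGCentU.card_of_isComplIn F.hcompl
  have hσN : sigmaCore N ≤ N := hHall.1
  have h1 : Nat.card (sigmaCore N) * (sigmaCore N).relIndex N = Nat.card N :=
    Cfsg.Agent.Lib.helper69.bgk_card_mul_relIndex hσN
  have h2 : Nat.card ↥(M ⊓ N) * (M ⊓ N).relIndex N = Nat.card N :=
    Cfsg.Agent.Lib.helper69.bgk_card_mul_relIndex inf_le_right
  have hpos : 0 < Nat.card (sigmaCore N) := Nat.card_pos
  have hpos2 : 0 < Nat.card ↥(M ⊓ N) := Nat.card_pos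
  have e1 : Nat.card ↥(M ⊓ N) = (sigmaCore N).relIndex N := by
    have : Nat.card (sigmaCore N) * Nat.card ↥(M ⊓ N) =
        Nat.card (sigmaCore N) * (sigmaCore N).relIndex N := by rw [h1, mul_comm, hcard]
    exact Nat.eq_of_mul_eq_mul_left hpos this
  have e2 : (M ⊓ N).relIndex N = Nat.card (sigmaCore N) := by
    have : Nat.card ↥(M ⊓ N) * (M ⊓ N).relIndex N =
        Nat.card ↥(M ⊓ N) * Nat.card (sigmaCore N) := by rw [h2, hcard]
    exact Nat.eq_of_mul_eq_mul_left hpos2 this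
  refine ⟨inf_le_right, ?_, ?_⟩
  · intro p hp hpd
    refine ⟨hp, fun hpσ => ?_⟩
    rw [e1] at hpd
    exact hHall.2.2 p hp hpσ hpd
  · rintro p hp ⟨-, hpσ⟩ hpd
    rw [e2] at hpd
    exact hpσ (hHall.2.1 p hp hpd)

/-- (PD) clause (b). -/
theorem pair_conj [Finite G] (hG : IsMinSimpleOddOrder G) {M N : Subgroup G} {x : G} {r : ℕ}
    {A : Subgroup G} (hM : IsCoatom M) (hN : IsCoatom N) (F : PairFacts M N x r A)
    (y : G) (N' : Subgroup G) (g : G) (hy : y ∈ sigmaCore M) (hy1 : y ≠ 1)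
    (hyM : ¬ centralizer ({y} : Set G) ≤ M) (hN' : IsCoatom N')
    (hyN' : centralizer ({y} : Set G) ≤ N')
    (hg : N'.map (MulAut.conj g).toMonoidHom = N) :
    ∃ m ∈ M, N'.map (MulAut.conj m).toMonoidHom = N := by
  obtain ⟨r', A', F'⟩ := pairFacts hG M hM y hy hy1 hyM N' hN' hyN'
  obtain ⟨q, X, hq, hqM, hXq, hX1, hXM, hXy, hNX⟩ := F'.hX
  have : Fact q.Prime := ⟨hq⟩
  have hXN' : X ≤ N' := le_normalizer.trans hNX
  have hXg : X.map (MulAut.conj g).toMonoidHom ≤ N := by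
    rw [← hg]; exact Subgroup.map_mono hXN'
  have hqN : q ∉ sigma N := by
    intro hqN
    obtain ⟨g', hg'⟩ := (Cfsg.Agent.S1378.result hG).2 M N hM hN ⟨q, hqM, hqN⟩
    exact F.hnc g' hg'
  have hH := pair_hall hG hN F
  obtain ⟨n, hn, hnB⟩ := Cfsg.Agent.Lib.helper69.bgk_conj_into_hall hH (p := q)
    (show q ∈ {q | q.Prime ∧ q ∉ sigma N} from ⟨hq, hqN⟩) hXg (hXq.map _)
  have hXng : X.map (MulAut.conj (n * g)).toMonoidHom ≤ M := by
    rintro _ ⟨a, ha, rfl⟩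
    have h1 := (hnB _ ⟨a, ha, rfl⟩).1
    simp only [MulEquiv.coe_toMonoidHom, MulAut.conj_apply] at h1 ⊢
    have e : n * g * a * (n * g)⁻¹ = n * (g * a * g⁻¹) * n⁻¹ := by group
    rw [e]; exact h1
  obtain ⟨m, hm, c, hc, hngmc⟩ :=
    (Cfsg.Agent.S1404.result hG M hM q hqM X hXq hX1 hXM).1 (n * g) hXng
  have hcN' : c ∈ N' := hNX (centralizer_le_normalizer _ hc)
  refine ⟨m, hm, ?_⟩
  have e1 : N'.map (MulAut.conj (m * c)).toMonoidHom = N'.map (MulAut.conj m).toMonoidHom :=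
    Cfsg.Agent.Lib.helper26.BG1374.map_conj_mul_right_of_mem m hcN'
  rw [← e1, ← hngmc]
  have e2 : N'.map (MulAut.conj (n * g)).toMonoidHom =
      (N'.map (MulAut.conj g).toMonoidHom).map (MulAut.conj n).toMonoidHom := by
    rw [Subgroup.map_map]
    congr 1
    ext y
    simp [mul_assoc]
  rw [e2, hg]
  exact Cfsg.Agent.Lib.helper26.BG1374.map_conj_of_mem hn

end Cfsg.Agent.Lib.helper28.BG1436
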