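import Cfsg.Agent.S1314
import Cfsg.Agent.Lib.helper28.Components
import Cfsg.Agent.Lib.helper28.Layer
import Cfsg.Agent.Lib.helper28.StdLayer

/-!
# Components of involution centralizers inside the layer

`exists_isComponent_le_sup_conj`: a component `K` of `C_X(a)` (`a` an involution) lying in `E(X)`
lies in `J ⊔ J^a` for a component `J` of `X`.

`isComponent_of_maximal_aux`: the core of Aschbacher's component lemma inside `X = C_G(b)`.
-/

set_option autoImplicit false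
open Cfsg

namespace Cfsg.Agent.Lib.helper28

open Subgroup
open scoped commutatorElement

theorem asch_commElem_mul_mul {G : Type*} [Group G] {u₁ u₂ v₁ v₂ : G}
    (h11 : u₁ * v₁ = v₁ * u₁) (h12 : u₁ * v₂ = v₂ * u₁) (h21 : u₂ * v₁ = v₁ * u₂)
    (h22 : u₂ * v₂ = v₂ * u₂) : ⁅u₁ * v₁, u₂ * v₂⁆ = ⁅u₁, u₂⁆ * ⁅v₁, v₂⁆ := by
  have c11 : Commute u₁ v₁ := h11
  have c12 : Commute u₁ v₂ := h12
  have c21 : Commute u₂ v₁ := h21
  have c22 : Commute u₂ v₂ := h22
  have cu1 : Commute (v₁ * v₂ * v₁⁻¹ * v₂⁻¹) u₁ :=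
    ((c11.symm.mul_left c12.symm).mul_left c11.symm.inv_left).mul_left c12.symm.inv_left
  have cu2 : Commute (v₁ * v₂ * v₁⁻¹ * v₂⁻¹) u₂ :=
    ((c21.symm.mul_left c22.symm).mul_left c21.symm.inv_left).mul_left c22.symm.inv_left
  have cu : Commute (v₁ * v₂ * v₁⁻¹ * v₂⁻¹) (u₁⁻¹ * u₂⁻¹) := cu1.inv_right.mul_right cu2.inv_right
  rw [commutatorElement_def, commutatorElement_def, commutatorElement_def]
  calc u₁ * v₁ * (u₂ * v₂) * (u₁ * v₁)⁻¹ * (u₂ * v₂)⁻¹
      = u₁ * (v₁ * u₂) * v₂ * v₁⁻¹ * (u₁⁻¹ * v₂⁻¹) * u₂⁻¹ := by group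
    _ = u₁ * (u₂ * v₁) * v₂ * v₁⁻¹ * (v₂⁻¹ * u₁⁻¹) * u₂⁻¹ := by
        rw [← h21, (c12.inv_inv).eq]
    _ = u₁ * u₂ * ((v₁ * v₂ * v₁⁻¹ * v₂⁻¹) * (u₁⁻¹ * u₂⁻¹)) := by group
    _ = u₁ * u₂ * ((u₁⁻¹ * u₂⁻¹) * (v₁ * v₂ * v₁⁻¹ * v₂⁻¹)) := by rw [cu.eq]
    _ = u₁ * u₂ * u₁⁻¹ * u₂⁻¹ * (v₁ * v₂ * v₁⁻¹ * v₂⁻¹) := by group

theorem asch_conj_conj_comm {G : Type*} [Group G] {x a : G} (h : x * a = a * x) (j : G) :
    a * (x * j * x⁻¹) * a⁻¹ = x * (a * j * a⁻¹) * x⁻¹ := by
  calc a * (x * j * x⁻¹) * a⁻¹ = (a * x) * j * (a * x)⁻¹ := by group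
    _ = (x * a) * j * (x * a)⁻¹ := by rw [h]
    _ = x * (a * j * a⁻¹) * x⁻¹ := by group

theorem asch_map_conj_mul {G : Type*} [Group G] (g h : G) (L : Subgroup G) :
    L.map (MulAut.conj (g * h)).toMonoidHom =
      (L.map (MulAut.conj h).toMonoidHom).map (MulAut.conj g).toMonoidHom := by
  rw [Subgroup.map_map]
  refine congrArg (fun f => Subgroup.map f L) ?_
  ext x
  simp [MulAut.conj_apply, mul_assoc]

theorem asch_map_conj_conj {G : Type*} [Group G] {a : G} (ha : a * a = 1) (L : Subgroup G) :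
    (L.map (MulAut.conj a).toMonoidHom).map (MulAut.conj a).toMonoidHom = L := by
  rw [← asch_map_conj_mul, ha]
  exact (map_conj_eq_self_iff_mem_normalizer 1 L).mpr (one_mem _)

theorem asch_elemAb_sup {G : Type*} [Group G] {A B : Subgroup G}
    (hA : ∀ x ∈ A, ∀ y ∈ A, x * y = y * x) (hB : ∀ x ∈ B, ∀ y ∈ B, x * y = y * x)
    (hAB : ∀ x ∈ A, ∀ y ∈ B, x * y = y * x) (hA2 : ∀ x ∈ A, x ^ 2 = 1)
    (hB2 : ∀ x ∈ B, x ^ 2 = 1) :
    (∀ x ∈ A ⊔ B, ∀ y ∈ A ⊔ B, x * y = y * x) ∧ ∀ x ∈ A ⊔ B, x ^ 2 = 1 := by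
  have hn : A ≤ normalizer (B : Set G) := by
    intro x hx
    apply Subgroup.centralizer_le_normalizer
    rw [Subgroup.mem_centralizer_iff]
    intro y hy
    exact (hAB x hx y hy).symm
  have hdec : ∀ x ∈ A ⊔ B, ∃ u ∈ A, ∃ v ∈ B, u * v = x :=
    fun x hx => exists_mul_of_mem_sup_of_le_normalizer hn hx
  constructor
  · intro x hx y hy
    obtain ⟨u, hu, v, hv, rfl⟩ := hdec x hx
    obtain ⟨u', hu', v', hv', rfl⟩ := hdec y hy
    have c1 : Commute u u' := hA u hu u' hu'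
    have c2 : Commute u v' := hAB u hu v' hv'
    have c3 : Commute v u' := (hAB u' hu' v hv).symm
    have c4 : Commute v v' := hB v hv v' hv'
    exact ((c1.mul_right c2).mul_left (c3.mul_right c4)).eq
  · intro x hx
    obtain ⟨u, hu, v, hv, rfl⟩ := hdec x hx
    have c : Commute u v := hAB u hu v hv
    rw [c.mul_pow, hA2 u hu, hB2 v hv, one_mul]

/-- Transport of components along two embeddings with the same image. -/
theorem asch_isComponent_of_map_eq {G Y Z : Type*} [Group G] [Group Y] [Group Z] (f : Y →* G)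
    (g : Z →* G) (hf : Function.Injective f) (hg : Function.Injective g)
    (hrange : f.range = g.range) {L : Subgroup Y} {M : Subgroup Z} (hLM : L.map f = M.map g)
    (hL : IsComponent L) : IsComponent M := by
  obtain ⟨e, he⟩ : ∃ e : Y ≃* Z, ∀ y, g (e y) = f y := by
    refine ⟨(MonoidHom.ofInjective hf).trans
      ((MulEquiv.subgroupCongr hrange).trans (MonoidHom.ofInjective hg).symm), ?_⟩
    intro y
    have h1 : ∀ w : ↥g.range, g ((MonoidHom.ofInjective hg).symm w) = (w : G) := by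
      intro w
      have h2 := (MonoidHom.ofInjective hg).apply_symm_apply w
      have h3 := congrArg Subtype.val h2
      rw [MonoidHom.ofInjective_apply] at h3
      exact h3
    simp only [MulEquiv.trans_apply]
    rw [h1]
    rfl
  have hM : L.map e.toMonoidHom = M := by
    apply Subgroup.map_injective hg
    rw [Subgroup.map_map, ← hLM]
    refine congrArg (fun φ => Subgroup.map φ L) ?_
    ext y
    exact he y
  rw [← hM]
  exact isComponent_map_equiv e hL

theorem asch_perfect_of_isComponent_subgroupOf {X : Type*} [Group X] {K C : Subgroup X}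
    (hKC : K ≤ C) (hK : IsComponent (K.subgroupOf C)) : ⁅K, K⁆ = K := by
  have h1 := isComponent_isPerfect hK
  have h2 := congrArg (Subgroup.map C.subtype) h1
  rwa [Subgroup.map_commutator, Subgroup.map_subgroupOf_eq_of_le hKC] at h2

theorem asch_ne_bot_of_isComponent_subgroupOf {X : Type*} [Group X] {K C : Subgroup X}
    (hK : IsComponent (K.subgroupOf C)) : K ≠ ⊥ := by
  intro h
  apply isComponent_ne_bot hK
  rw [h, Subgroup.bot_subgroupOf]

/-- A component `K` of the centralizer of an involution `a` that lies in the layer of `X` lies in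
`J ⊔ J^a` for some component `J` of `X`. -/
theorem exists_isComponent_le_sup_conj {X : Type*} [Group X] [Finite X] (a : X) (ha : a * a = 1)
    (K : Subgroup X) (hKa : K ≤ centralizer ({a} : Set X))
    (hK : IsComponent (K.subgroupOf (centralizer ({a} : Set X)))) (hKL : K ≤ layer X) :
    ∃ J : Subgroup X, IsComponent J ∧ K ≤ J ⊔ J.map (MulAut.conj a).toMonoidHom := by
  classical
  have hainv : a⁻¹ = a := inv_eq_of_mul_eq_one_left ha
  have hKperf : ⁅K, K⁆ = K := asch_perfect_of_isComponent_subgroupOf hKa hK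
  have hKne : K ≠ ⊥ := asch_ne_bot_of_isComponent_subgroupOf hK
  have hKcomm : ∀ k ∈ K, a * k = k * a := by
    intro k hk
    exact (Subgroup.mem_centralizer_singleton_iff.mp (hKa hk)).symm
  by_contra hcon
  push Not at hcon
  have key : ∀ J : Subgroup X, IsComponent J → K ≤ centralizer (J : Set X) := by
    intro J hJ
    obtain ⟨J', hJ'⟩ : ∃ J' : Subgroup X, J' = J.map (MulAut.conj a).toMonoidHom := ⟨_, rfl⟩
    have hJ'c : IsComponent J' := by rw [hJ']; exact isComponent_map_equiv (MulAut.conj a) hJ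
    obtain ⟨Jh, hJh⟩ : ∃ Jh : Subgroup X, Jh = J ⊔ J' := ⟨_, rfl⟩
    have hnot : ¬ K ≤ Jh := by rw [hJh, hJ']; exact hcon J hJ
    have hJJh : J ≤ Jh := by rw [hJh]; exact le_sup_left
    -- `a` normalizes `Jh`
    have haJh : ∀ j ∈ Jh, a * j * a⁻¹ ∈ Jh := by
      have h1 : Jh.map (MulAut.conj a).toMonoidHom ≤ Jh := by
        rw [hJh, Subgroup.map_sup]
        apply sup_le
        · rw [← hJ']; exact le_sup_right
        · rw [hJ', asch_map_conj_conj ha]; exact le_sup_left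
      intro j hj
      exact h1 ⟨j, hj, by simp [MulAut.conj_apply]⟩
    have haJh' : ∀ j ∈ Jh, a⁻¹ * j * a ∈ Jh := by
      intro j hj
      have h1 := haJh j hj
      rw [hainv] at h1 ⊢
      exact h1
    -- the layer lies in `Jh * C(Jh)`
    have hlay : layer X ≤ Jh ⊔ centralizer (Jh : Set X) := by
      apply sSup_le
      intro L hL
      by_cases h1 : L = J
      · rw [h1, hJh]; exact le_sup_left.trans le_sup_left
      by_cases h2 : L = J'
      · rw [h2, hJh]; exact le_sup_right.trans le_sup_left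
      · have c1 : ⁅L, J⁆ = ⊥ := isComponent_commute hL hJ h1
        have c2 : ⁅L, J'⁆ = ⊥ := isComponent_commute hL hJ'c h2
        refine le_trans ?_ le_sup_right
        rw [Subgroup.le_centralizer_iff, hJh]
        apply sup_le
        · exact Subgroup.le_centralizer_iff.mp (Subgroup.commutator_eq_bot_iff_le_centralizer.mp c1)
        · exact Subgroup.le_centralizer_iff.mp (Subgroup.commutator_eq_bot_iff_le_centralizer.mp c2)
    have hcn : centralizer (Jh : Set X) ≤ normalizer (Jh : Set X) :=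
      Subgroup.centralizer_le_normalizer _
    have cm : ∀ u ∈ Jh, ∀ v ∈ centralizer (Jh : Set X), u * v = v * u :=
      fun u hu v hv => Subgroup.mem_centralizer_iff.mp hv u hu
    have hdec : ∀ x ∈ K, ∃ u ∈ Jh, ∃ v ∈ centralizer (Jh : Set X), x = u * v := by
      intro x hx
      have h1 : x ∈ centralizer (Jh : Set X) ⊔ Jh := by rw [sup_comm]; exact hlay (hKL hx)
      obtain ⟨v, hv, u, hu, rfl⟩ := exists_mul_of_mem_sup_of_le_normalizer hcn h1
      exact ⟨u, hu, v, hv, (cm u hu v hv).symm⟩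
    -- `Jh` is subnormal
    have hJhE : Jh ≤ layer X := by
      rw [hJh]; exact sup_le (le_layer hJ) (le_layer hJ'c)
    have hEN : layer X ≤ normalizer (Jh : Set X) :=
      hlay.trans (sup_le Subgroup.le_normalizer hcn)
    have hJhsn : Jh.IsSubnormal := by
      have h1 : (Jh.subgroupOf (layer X)).Normal :=
        (Subgroup.normal_subgroupOf_iff_le_normalizer hJhE).mpr hEN
      have h2 := h1.isSubnormal.trans' (layer_normal X).isSubnormal
      rwa [Subgroup.map_subgroupOf_eq_of_le hJhE] at h2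
    have hJhsn' : (Jh.subgroupOf (centralizer ({a} : Set X))).IsSubnormal := hJhsn.subgroupOf
    rcases isComponent_le_or_commute hK hJhsn' with h | h
    · exact absurd (le_of_subgroupOf_le hKa h) hnot
    · -- `K` centralizes `C_Jh(a)`
      have hcent : ∀ k ∈ K, ∀ n ∈ Jh, a * n = n * a → k * n = n * k := by
        intro k hk n hn hna
        have hnC : n ∈ centralizer ({a} : Set X) :=
          Subgroup.mem_centralizer_singleton_iff.mpr hna.symm
        have h1 : ⁅(⟨k, hKa hk⟩ : ↥(centralizer ({a} : Set X))), ⟨n, hnC⟩⁆ ∈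
            ⁅K.subgroupOf (centralizer ({a} : Set X)), Jh.subgroupOf (centralizer ({a} : Set X))⁆ :=
          Subgroup.commutator_mem_commutator (Subgroup.mem_subgroupOf.mpr hk)
            (Subgroup.mem_subgroupOf.mpr hn)
        rw [h, Subgroup.mem_bot] at h1
        have h2 : k * n * k⁻¹ * n⁻¹ = 1 := by
          have h3 := congrArg Subtype.val h1
          rw [commutatorElement_def] at h3
          exact h3
        calc k * n = (k * n * k⁻¹ * n⁻¹) * (n * k) := by group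
          _ = n * k := by rw [h2, one_mul]
      -- the twist `u⁻¹ (a u a⁻¹)` centralizes `Jh`
      have hzu : ∀ u ∈ Jh, ∀ v ∈ centralizer (Jh : Set X), a * (u * v) = (u * v) * a →
          u⁻¹ * (a * u * a⁻¹) ∈ centralizer (Jh : Set X) := by
        intro u hu v hv hk
        have hv' : a * v * a⁻¹ ∈ centralizer (Jh : Set X) := by
          rw [Subgroup.mem_centralizer_iff]
          intro j hj
          have h1 := Subgroup.mem_centralizer_iff.mp hv (a⁻¹ * j * a) (haJh' j hj)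
          calc j * (a * v * a⁻¹) = a * ((a⁻¹ * j * a) * v) * a⁻¹ := by group
            _ = a * (v * (a⁻¹ * j * a)) * a⁻¹ := by rw [h1]
            _ = a * v * a⁻¹ * j := by group
        have h3 : a * u * a⁻¹ * (a * v * a⁻¹) = u * v := by
          calc a * u * a⁻¹ * (a * v * a⁻¹) = a * (u * v) * a⁻¹ := by group
            _ = (u * v) * a * a⁻¹ := by rw [hk]
            _ = u * v := by group
        have h2 : u⁻¹ * (a * u * a⁻¹) = v * (a * v * a⁻¹)⁻¹ := by
          calc u⁻¹ * (a * u * a⁻¹)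
              = u⁻¹ * (a * u * a⁻¹ * (a * v * a⁻¹)) * (a * v * a⁻¹)⁻¹ := by group
            _ = u⁻¹ * (u * v) * (a * v * a⁻¹)⁻¹ := by rw [h3]
            _ = v * (a * v * a⁻¹)⁻¹ := by group
        rw [h2]
        exact mul_mem hv (inv_mem hv')
      have hstep1 : ∀ k₁ ∈ K, ∀ k₂ ∈ K, ∃ w ∈ Jh, a * w = w * a ∧
          ∃ w' ∈ centralizer (Jh : Set X), ⁅k₁, k₂⁆ = w * w' := by
        intro k₁ hk₁ k₂ hk₂
        obtain ⟨u₁, hu₁, v₁, hv₁, rfl⟩ := hdec k₁ hk₁
        obtain ⟨u₂, hu₂, v₂, hv₂, rfl⟩ := hdec k₂ hk₂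
        have hz₁ := hzu u₁ hu₁ v₁ hv₁ (hKcomm _ hk₁)
        have hz₂ := hzu u₂ hu₂ v₂ hv₂ (hKcomm _ hk₂)
        have hmem : ⁅u₁, u₂⁆ ∈ Jh := by
          rw [commutatorElement_def]
          exact mul_mem (mul_mem (mul_mem hu₁ hu₂) (inv_mem hu₁)) (inv_mem hu₂)
        have hmem' : ⁅v₁, v₂⁆ ∈ centralizer (Jh : Set X) := by
          rw [commutatorElement_def]
          exact mul_mem (mul_mem (mul_mem hv₁ hv₂) (inv_mem hv₁)) (inv_mem hv₂)
        refine ⟨⁅u₁, u₂⁆, hmem, ?_, ⁅v₁, v₂⁆, hmem', ?_⟩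
        · have e1 : a * u₁ * a⁻¹ = u₁ * (u₁⁻¹ * (a * u₁ * a⁻¹)) := by group
          have e2 : a * u₂ * a⁻¹ = u₂ * (u₂⁻¹ * (a * u₂ * a⁻¹)) := by group
          have h1 : a * ⁅u₁, u₂⁆ * a⁻¹ = ⁅a * u₁ * a⁻¹, a * u₂ * a⁻¹⁆ := by
            simp only [commutatorElement_def]; group
          have h2 : ⁅a * u₁ * a⁻¹, a * u₂ * a⁻¹⁆ = ⁅u₁, u₂⁆ := by
            have h3 : (u₁⁻¹ * (a * u₁ * a⁻¹)) * (a * u₂ * a⁻¹) =
                (a * u₂ * a⁻¹) * (u₁⁻¹ * (a * u₁ * a⁻¹)) :=
              (cm _ (haJh u₂ hu₂) _ hz₁).symm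
            have h4 : (u₂⁻¹ * (a * u₂ * a⁻¹)) * u₁ = u₁ * (u₂⁻¹ * (a * u₂ * a⁻¹)) :=
              (cm u₁ hu₁ _ hz₂).symm
            calc ⁅a * u₁ * a⁻¹, a * u₂ * a⁻¹⁆
                = ⁅u₁ * (u₁⁻¹ * (a * u₁ * a⁻¹)), a * u₂ * a⁻¹⁆ := by rw [← e1]
              _ = ⁅u₁, a * u₂ * a⁻¹⁆ := commElem_mul_left_of_comm_aux h3
              _ = ⁅u₁, u₂ * (u₂⁻¹ * (a * u₂ * a⁻¹))⁆ := by rw [← e2]
              _ = ⁅u₁, u₂⁆ := commElem_mul_right_of_comm_aux h4
          rw [h2] at h1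
          calc a * ⁅u₁, u₂⁆ = (a * ⁅u₁, u₂⁆ * a⁻¹) * a := by group
            _ = ⁅u₁, u₂⁆ * a := by rw [h1]
        · exact asch_commElem_mul_mul (cm u₁ hu₁ v₁ hv₁) (cm u₁ hu₁ v₂ hv₂) (cm u₂ hu₂ v₁ hv₁)
            (cm u₂ hu₂ v₂ hv₂)
      -- every element of `K` is a product of an element of `C_Jh(a)` and one of `C(Jh)`
      obtain ⟨N, hN⟩ : ∃ N : Subgroup X, N = Jh ⊓ centralizer ({a} : Set X) := ⟨_, rfl⟩
      have hNn : centralizer (Jh : Set X) ≤ normalizer (N : Set X) := by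
        refine le_trans ?_ (Subgroup.centralizer_le_normalizer _)
        apply Subgroup.centralizer_le
        rw [hN]
        exact inf_le_left
      have hKM : K ≤ centralizer (Jh : Set X) ⊔ N := by
        have h1 : ⁅K, K⁆ ≤ centralizer (Jh : Set X) ⊔ N := by
          rw [Subgroup.commutator_le]
          intro k₁ hk₁ k₂ hk₂
          obtain ⟨w, hw, hwa, w', hw', e⟩ := hstep1 k₁ hk₁ k₂ hk₂
          rw [e]
          refine mul_mem (Subgroup.mem_sup_right ?_) (Subgroup.mem_sup_left hw')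
          rw [hN]
          exact Subgroup.mem_inf.mpr ⟨hw, Subgroup.mem_centralizer_singleton_iff.mpr hwa.symm⟩
        rwa [hKperf] at h1
      have hdec2 : ∀ k ∈ K, ∃ w ∈ Jh, a * w = w * a ∧
          ∃ w' ∈ centralizer (Jh : Set X), k = w * w' := by
        intro k hk
        obtain ⟨v, hv, n, hn, rfl⟩ := exists_mul_of_mem_sup_of_le_normalizer hNn (hKM hk)
        rw [hN] at hn
        obtain ⟨hn1, hn2⟩ := Subgroup.mem_inf.mp hn
        exact ⟨n, hn1, (Subgroup.mem_centralizer_singleton_iff.mp hn2).symm, v, hv,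
          (cm n hn1 v hv).symm⟩
      have hfin : ⁅K, K⁆ ≤ centralizer (Jh : Set X) := by
        rw [Subgroup.commutator_le]
        intro k₁ hk₁ k₂ hk₂
        obtain ⟨w₁, hw₁, hwa₁, w₁', hw₁', e₁⟩ := hdec2 k₁ hk₁
        obtain ⟨w₂, hw₂, hwa₂, w₂', hw₂', e₂⟩ := hdec2 k₂ hk₂
        have h1 : k₂ * w₁ = w₁ * k₂ := hcent k₂ hk₂ w₁ hw₁ hwa₁
        have h4 : w₂'⁻¹ * w₁ = w₁ * w₂'⁻¹ := (cm w₁ hw₁ _ (inv_mem hw₂')).symm
        have h2 : w₂ * w₁ = w₁ * w₂ := by
          have h3 : w₂ = k₂ * w₂'⁻¹ := by rw [e₂]; group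
          rw [h3]
          calc k₂ * w₂'⁻¹ * w₁ = k₂ * (w₂'⁻¹ * w₁) := by group
            _ = k₂ * (w₁ * w₂'⁻¹) := by rw [h4]
            _ = (k₂ * w₁) * w₂'⁻¹ := by group
            _ = (w₁ * k₂) * w₂'⁻¹ := by rw [h1]
            _ = w₁ * (k₂ * w₂'⁻¹) := by group
        have h5 : ⁅w₁, w₂⁆ = 1 := by
          rw [commutatorElement_eq_one_iff_mul_comm]; exact h2.symm
        rw [e₁, e₂, asch_commElem_mul_mul (cm w₁ hw₁ w₁' hw₁') (cm w₁ hw₁ w₂' hw₂')
          (cm w₂ hw₂ w₁' hw₁') (cm w₂ hw₂ w₂' hw₂'), h5, one_mul, commutatorElement_def]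
        exact mul_mem (mul_mem (mul_mem hw₁' hw₂') (inv_mem hw₁')) (inv_mem hw₂')
      rw [hKperf] at hfin
      exact hfin.trans (Subgroup.centralizer_le hJJh)
  have h1 : layer X ≤ centralizer (K : Set X) := by
    apply sSup_le
    intro J hJ
    exact Subgroup.le_centralizer_iff.mp (key J hJ)
  have h2 : K ≤ centralizer (K : Set X) := hKL.trans h1
  have h3 : ⁅K, K⁆ = ⊥ := Subgroup.commutator_eq_bot_iff_le_centralizer.mpr h2
  rw [hKperf] at h3
  exact hKne h3

end Cfsg.Agent.Lib.helper28
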