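import Cfsg.Agent.Lib.helper28.AschComp

/-!
# The core of Aschbacher's component lemma, inside `X = C_G(b)`
-/

set_option autoImplicit false
open Cfsg

namespace Cfsg.Agent.Lib.helper28

open Subgroup
open scoped commutatorElement

/-- Core of the component lemma: `K` a component of `C_X(a)` lying in `E(X)`, of maximal order
among components of `X`, centralized by the elementary abelian `2`-group `B ∋ a`, such that no
component of `X` of the same order has a larger elementary abelian `2`-subgroup in its centralizer,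
and `K` of `2`-rank at least `2`: then `K` is a component of `X`. -/
theorem isComponent_of_maximal_aux {X : Type*} [Group X] [Finite X] (a : X) (hao : orderOf a = 2)
    (K : Subgroup X) (hKa : K ≤ centralizer ({a} : Set X))
    (hK : IsComponent (K.subgroupOf (centralizer ({a} : Set X)))) (hKL : K ≤ layer X)
    (hsize : ∀ J : Subgroup X, IsComponent J → Nat.card J ≤ Nat.card K)
    (B : Subgroup X) (haB : a ∈ B) (hBK : B ≤ centralizer (K : Set X))
    (hBc : ∀ x ∈ B, ∀ y ∈ B, x * y = y * x) (hB2 : ∀ x ∈ B, x ^ 2 = 1)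
    (hrank : ∀ J : Subgroup X, IsComponent J → Nat.card J = Nat.card K → ∀ A : Subgroup X,
      A ≤ centralizer (J : Set X) → (∀ x ∈ A, ∀ y ∈ A, x * y = y * x) → (∀ x ∈ A, x ^ 2 = 1) →
        Nat.card A ≤ Nat.card B)
    (V : Subgroup X) (hVK : V ≤ K) (hVc : ∀ x ∈ V, ∀ y ∈ V, x * y = y * x)
    (hV2 : ∀ x ∈ V, x ^ 2 = 1) (hVcard : 2 < Nat.card V) : IsComponent K := by
  classical
  have ha : a * a = 1 := by
    have h1 := pow_orderOf_eq_one a
    rw [hao, pow_two] at h1
    exact h1
  have hainv : a⁻¹ = a := inv_eq_of_mul_eq_one_left ha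
  have hKperf : ⁅K, K⁆ = K := asch_perfect_of_isComponent_subgroupOf hKa hK
  have hKne : K ≠ ⊥ := asch_ne_bot_of_isComponent_subgroupOf hK
  obtain ⟨J, hJ, hKJ⟩ := exists_isComponent_le_sup_conj a ha K hKa hK hKL
  obtain ⟨J', hJ'⟩ : ∃ J' : Subgroup X, J' = J.map (MulAut.conj a).toMonoidHom := ⟨_, rfl⟩
  rw [← hJ'] at hKJ
  have hJ'c : IsComponent J' := by rw [hJ']; exact isComponent_map_equiv (MulAut.conj a) hJ
  by_cases hJJ : J' = J
  · rw [hJJ, sup_idem] at hKJ
    have h1 : K = J := Subgroup.eq_of_le_of_card_ge hKJ (hsize J hJ)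
    rw [h1]; exact hJ
  · exfalso
    have hcomm : ⁅J, J'⁆ = ⊥ := isComponent_commute hJ hJ'c (Ne.symm hJJ)
    obtain ⟨π, hπ, -, -, hπr⟩ := Cfsg.Agent.S1314.result a hao J (isComponent_isPerfect hJ)
      (by rw [← hJ']; exact hcomm)
    rw [← hJ'] at hπr
    have hKr : K ≤ π.range := by
      rw [← hπr]
      have h1 : K ≤ (J ⊔ J') ⊓ centralizer ({a} : Set X) := le_inf hKJ hKa
      calc K = ⁅K, K⁆ := hKperf.symm
        _ ≤ _ := Subgroup.commutator_mono h1 h1
    -- choose preimages
    have hex : ∀ k : ↥K, ∃ j : ↥J, π j = (k : X) := fun k => hKr k.2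
    choose f hf using hex
    have hfinj : Function.Injective f := by
      intro k k' h
      apply Subtype.ext
      rw [← hf k, ← hf k', h]
    have hfbij : Function.Bijective f := hfinj.bijective_of_nat_card_le (hsize J hJ)
    have hcardJK : Nat.card J = Nat.card K := (Nat.card_congr (Equiv.ofBijective f hfbij)).symm
    have hπK : ∀ j : ↥J, π j ∈ K := by
      intro j
      obtain ⟨k, rfl⟩ := hfbij.2 j
      rw [hf]; exact k.2
    have hπinj : Function.Injective π := by
      intro j j' h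
      obtain ⟨k, rfl⟩ := hfbij.2 j
      obtain ⟨k', rfl⟩ := hfbij.2 j'
      rw [hf, hf] at h
      rw [Subtype.ext h]
    have hBa : ∀ x ∈ B, x * a = a * x := fun x hx => hBc x hx a haB
    have hBπ : ∀ x ∈ B, ∀ j : ↥J, x * π j * x⁻¹ = π j := by
      intro x hx j
      have h1 := Subgroup.mem_centralizer_iff.mp (hBK hx) (π j) (hπK j)
      rw [← h1]; group
    have hJ'card : Nat.card J' = Nat.card K := by
      rw [hJ', Subgroup.card_map_of_injective (MulAut.conj a).injective, hcardJK]
    -- conjugating `π j` by an element of `B`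
    have hconjπ : ∀ x ∈ B, ∀ j : X, (x * j * x⁻¹) * (a * (x * j * x⁻¹) * a⁻¹) =
        x * (j * (a * j * a⁻¹)) * x⁻¹ := by
      intro x hx j
      rw [asch_conj_conj_comm (hBa x hx)]
      group
    -- elements of `B` normalizing `J` centralize `J`
    have hB1J : ∀ x ∈ B, x ∈ normalizer (J : Set X) → ∀ j ∈ J, x * j * x⁻¹ = j := by
      intro x hx hxn j hj
      have hj' : x * j * x⁻¹ ∈ J := (Subgroup.mem_normalizer_iff.mp hxn j).mp hj
      have h1 : π ⟨x * j * x⁻¹, hj'⟩ = π ⟨j, hj⟩ := by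
        have h2 := hBπ x hx ⟨j, hj⟩
        rw [hπ] at h2
        rw [hπ, hπ]
        exact (hconjπ x hx j).trans h2
      exact congrArg Subtype.val (hπinj h1)
    -- every element of `B` maps `J` to `J` or to `J'`
    have hclaim : ∀ x ∈ B, J.map (MulAut.conj x).toMonoidHom = J ∨
        J.map (MulAut.conj x).toMonoidHom = J' := by
      intro x hx
      by_contra hcon
      push Not at hcon
      obtain ⟨h1, h2⟩ := hcon
      have hJx : IsComponent (J.map (MulAut.conj x).toMonoidHom) :=
        isComponent_map_equiv (MulAut.conj x) hJ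
      have c1 := Subgroup.commutator_eq_bot_iff_le_centralizer.mp (isComponent_commute hJx hJ h1)
      have c2 := Subgroup.commutator_eq_bot_iff_le_centralizer.mp (isComponent_commute hJx hJ'c h2)
      have hab : K ≤ centralizer (K : Set X) := by
        intro k₁ hk₁
        rw [Subgroup.mem_centralizer_iff]
        intro k₂ hk₂
        obtain ⟨j₁, hj₁⟩ := hKr hk₁
        obtain ⟨j₂, hj₂⟩ := hKr hk₂
        obtain ⟨y, hy⟩ : ∃ y : X, y = x * (j₁ : X) * x⁻¹ := ⟨_, rfl⟩
        have hyJx : y ∈ J.map (MulAut.conj x).toMonoidHom := by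
          rw [hy]; exact ⟨j₁, j₁.2, by simp [MulAut.conj_apply]⟩
        have hy1 : ∀ t ∈ J, y * t = t * y := by
          intro t ht
          exact (Subgroup.mem_centralizer_iff.mp (c1 hyJx) t ht).symm
        have hy2 : ∀ t ∈ J, y * (a * t * a⁻¹) = (a * t * a⁻¹) * y := by
          intro t ht
          have ht' : a * t * a⁻¹ ∈ J' := by
            rw [hJ']; exact ⟨t, ht, by simp [MulAut.conj_apply]⟩
          exact (Subgroup.mem_centralizer_iff.mp (c2 hyJx) _ ht').symm
        have hy3 : ∀ t ∈ J, (a * y * a⁻¹) * t = t * (a * y * a⁻¹) := by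
          intro t ht
          have h4 := hy2 t ht
          have h5 : a * (a * t * a⁻¹) * a⁻¹ = t := by
            rw [hainv]
            calc a * (a * t * a) * a = (a * a) * t * (a * a) := by group
              _ = t := by rw [ha]; group
          calc (a * y * a⁻¹) * t = (a * y * a⁻¹) * (a * (a * t * a⁻¹) * a⁻¹) := by rw [h5]
            _ = a * (y * (a * t * a⁻¹)) * a⁻¹ := by group
            _ = a * ((a * t * a⁻¹) * y) * a⁻¹ := by rw [h4]
            _ = (a * (a * t * a⁻¹) * a⁻¹) * (a * y * a⁻¹) := by group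
            _ = t * (a * y * a⁻¹) := by rw [h5]
        have hy4 : ∀ t ∈ J, (a * y * a⁻¹) * (a * t * a⁻¹) = (a * t * a⁻¹) * (a * y * a⁻¹) := by
          intro t ht
          calc (a * y * a⁻¹) * (a * t * a⁻¹) = a * (y * t) * a⁻¹ := by group
            _ = a * (t * y) * a⁻¹ := by rw [hy1 t ht]
            _ = (a * t * a⁻¹) * (a * y * a⁻¹) := by group
        have e1 : k₁ = y * (a * y * a⁻¹) := by
          have h3 := hBπ x hx j₁
          rw [hj₁] at h3
          rw [← h3, ← hj₁, hπ, hy]
          exact (hconjπ x hx j₁).symm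
        have e2 : k₂ = (j₂ : X) * (a * (j₂ : X) * a⁻¹) := by rw [← hj₂, hπ]
        have d1 : Commute y (j₂ : X) := hy1 _ j₂.2
        have d2 : Commute y (a * (j₂ : X) * a⁻¹) := hy2 _ j₂.2
        have d3 : Commute (a * y * a⁻¹) (j₂ : X) := hy3 _ j₂.2
        have d4 : Commute (a * y * a⁻¹) (a * (j₂ : X) * a⁻¹) := hy4 _ j₂.2
        rw [e1, e2]
        exact ((d1.mul_right d2).mul_left (d3.mul_right d4)).eq.symm
      have h3 : ⁅K, K⁆ = ⊥ := Subgroup.commutator_eq_bot_iff_le_centralizer.mpr hab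
      rw [hKperf] at h3
      exact hKne h3
    -- the subgroup `B₁ = N_B(J)` has index two in `B`
    obtain ⟨B₁, hB₁⟩ : ∃ B₁ : Subgroup X, B₁ = B ⊓ normalizer (J : Set X) := ⟨_, rfl⟩
    have hB₁B : B₁ ≤ B := by rw [hB₁]; exact inf_le_left
    have haJ : a ∉ normalizer (J : Set X) := by
      intro h
      apply hJJ
      rw [hJ']; exact (map_conj_eq_self_iff_mem_normalizer a J).mpr h
    have hidx : B₁.relIndex B = 2 := by
      rw [Subgroup.relIndex_eq_two_iff]
      refine ⟨a, haB, ?_⟩
      intro x hx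
      rcases hclaim x hx with h | h
      · have hx1 : x ∈ B₁ := by
          rw [hB₁]
          exact Subgroup.mem_inf.mpr ⟨hx, (map_conj_eq_self_iff_mem_normalizer x J).mp h⟩
        refine Or.inr ⟨hx1, ?_⟩
        intro hxa
        have h1 : a ∈ B₁ := by
          have h2 := mul_mem (inv_mem hx1) hxa
          rwa [inv_mul_cancel_left] at h2
        rw [hB₁] at h1
        exact haJ (Subgroup.mem_inf.mp h1).2
      · have hxa : x * a ∈ B₁ := by
          rw [hB₁]
          refine Subgroup.mem_inf.mpr ⟨mul_mem hx haB,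
            (map_conj_eq_self_iff_mem_normalizer (x * a) J).mp ?_⟩
          rw [hBa x hx, asch_map_conj_mul, h, hJ', asch_map_conj_conj ha]
        refine Or.inl ⟨hxa, ?_⟩
        intro hx1
        rw [hB₁] at hx1
        have h1 := (map_conj_eq_self_iff_mem_normalizer x J).mpr (Subgroup.mem_inf.mp hx1).2
        exact hJJ (h.symm.trans h1)
    have hBcard : Nat.card B = 2 * Nat.card B₁ := by
      have h1 := Subgroup.card_mul_index (B₁.subgroupOf B)
      have h2 : (B₁.subgroupOf B).index = 2 := hidx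
      have h3 : Nat.card ↥(B₁.subgroupOf B) = Nat.card B₁ :=
        Nat.card_congr (Subgroup.subgroupOfEquivOfLe hB₁B).toEquiv
      rw [h2, h3] at h1
      omega
    -- transport `V` to `J`
    obtain ⟨VJ, hVJ⟩ : ∃ VJ : Subgroup X, VJ = (V.comap π).map J.subtype := ⟨_, rfl⟩
    have hVJcard : Nat.card VJ = Nat.card V := by
      rw [hVJ, Subgroup.card_map_of_injective J.subtype_injective,
        ← Subgroup.card_map_of_injective hπinj, Subgroup.map_comap_eq,
        inf_of_le_right (hVK.trans hKr)]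
    have hVJmem : ∀ v ∈ VJ, ∃ j : ↥J, (j : X) = v ∧ π j ∈ V := by
      intro v hv
      rw [hVJ] at hv
      obtain ⟨j, hj, rfl⟩ := hv
      exact ⟨j, rfl, hj⟩
    have hVJJ : VJ ≤ J := by
      intro v hv
      obtain ⟨j, rfl, -⟩ := hVJmem v hv
      exact j.2
    have hVJc : ∀ x ∈ VJ, ∀ y ∈ VJ, x * y = y * x := by
      intro x hx y hy
      obtain ⟨j, rfl, hj⟩ := hVJmem x hx
      obtain ⟨j', rfl, hj'⟩ := hVJmem y hy
      have h1 : π (j * j') = π (j' * j) := by
        rw [map_mul, map_mul]; exact hVc _ hj _ hj'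
      exact congrArg Subtype.val (hπinj h1)
    have hVJ2 : ∀ x ∈ VJ, x ^ 2 = 1 := by
      intro x hx
      obtain ⟨j, rfl, hj⟩ := hVJmem x hx
      have h1 : π (j ^ 2) = π 1 := by
        rw [map_pow, map_one]; exact hV2 _ hj
      have h2 := congrArg Subtype.val (hπinj h1)
      simpa using h2
    -- `B₁` centralizes `J` and `J'`
    have hB₁J : ∀ x ∈ B₁, ∀ j ∈ J, x * j = j * x := by
      intro x hx j hj
      rw [hB₁] at hx
      have h1 := hB1J x (Subgroup.mem_inf.mp hx).1 (Subgroup.mem_inf.mp hx).2 j hj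
      calc x * j = (x * j * x⁻¹) * x := by group
        _ = j * x := by rw [h1]
    have hB₁J' : B₁ ≤ centralizer (J' : Set X) := by
      intro x hx
      rw [Subgroup.mem_centralizer_iff, hJ']
      rintro _ ⟨j, hj, rfl⟩
      have h1 := hB₁J x hx j hj
      have h2 := hBa x (hB₁B hx)
      have h3 : a⁻¹ * x = x * a⁻¹ := by rw [hainv]; exact h2.symm
      simp only [MulEquiv.coe_toMonoidHom, MulAut.conj_apply]
      calc a * j * a⁻¹ * x = a * j * (a⁻¹ * x) := by group
        _ = a * j * (x * a⁻¹) := by rw [h3]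
        _ = a * (j * x) * a⁻¹ := by group
        _ = a * (x * j) * a⁻¹ := by rw [h1]
        _ = (a * x) * j * a⁻¹ := by group
        _ = (x * a) * j * a⁻¹ := by rw [h2]
        _ = x * (a * j * a⁻¹) := by group
    have hVJJ' : VJ ≤ centralizer (J' : Set X) :=
      hVJJ.trans (Subgroup.commutator_eq_bot_iff_le_centralizer.mp hcomm)
    obtain ⟨hAc, hA2⟩ := asch_elemAb_sup (fun x hx y hy => hBc x (hB₁B hx) y (hB₁B hy)) hVJc
      (fun x hx y hy => hB₁J x hx y (hVJJ hy)) (fun x hx => hB2 x (hB₁B hx)) hVJ2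
    have hA := hrank J' hJ'c hJ'card (B₁ ⊔ VJ) (sup_le hB₁J' hVJJ') hAc hA2
    -- `B₁ ∩ VJ = 1`
    have hinter : ∀ z ∈ B₁, z ∈ VJ → z = 1 := by
      intro z hz hzV
      have hzJ := hVJJ hzV
      have hzB := hB₁B hz
      have h1 : π ⟨z, hzJ⟩ = π 1 := by
        rw [hπ, map_one]
        have h2 : a * z * a⁻¹ = z := by rw [← hBa z hzB]; group
        show z * (a * z * a⁻¹) = 1
        rw [h2, ← pow_two]; exact hB2 z hzB
      exact congrArg Subtype.val (hπinj h1)
    have hcardsup : Nat.card B₁ * Nat.card VJ ≤ Nat.card ↥(B₁ ⊔ VJ) := by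
      rw [← Nat.card_prod]
      apply Nat.card_le_card_of_injective (fun p : ↥B₁ × ↥VJ =>
        (⟨(p.1 : X) * (p.2 : X), mul_mem (Subgroup.mem_sup_left p.1.2)
          (Subgroup.mem_sup_right p.2.2)⟩ : ↥(B₁ ⊔ VJ)))
      rintro ⟨⟨x, hx⟩, ⟨v, hv⟩⟩ ⟨⟨x', hx'⟩, ⟨v', hv'⟩⟩ h
      have h1 : x * v = x' * v' := congrArg Subtype.val h
      have h2 : x'⁻¹ * x = v' * v⁻¹ := by
        calc x'⁻¹ * x = x'⁻¹ * (x * v) * v⁻¹ := by group
          _ = x'⁻¹ * (x' * v') * v⁻¹ := by rw [h1]
          _ = v' * v⁻¹ := by group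
      have h3 : x'⁻¹ * x = 1 := hinter _ (mul_mem (inv_mem hx') hx)
        (by rw [h2]; exact mul_mem hv' (inv_mem hv))
      have h4 : x = x' := by
        rw [inv_mul_eq_one] at h3; exact h3.symm
      subst h4
      have h5 : v = v' := mul_left_cancel h1
      subst h5
      rfl
    have hpos : 0 < Nat.card B₁ := Nat.card_pos
    have h6 : Nat.card B₁ * 3 ≤ 2 * Nat.card B₁ := by
      refine le_trans (Nat.mul_le_mul_left _ (show 3 ≤ Nat.card VJ by rw [hVJcard]; exact hVcard)) ?_
      exact hcardsup.trans (hA.trans hBcard.le)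
    omega

end Cfsg.Agent.Lib.helper28
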