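import Mathlib
import Cfsg.Prelude.Def_OddOrderLocal
import Cfsg.Agent.S1350
import Cfsg.Agent.S1352
import Cfsg.Agent.S1353
import Cfsg.Agent.S1372
import Cfsg.Agent.S1375
import Cfsg.Agent.S1378
import Cfsg.Agent.S1404
import Cfsg.Agent.S1408
import Cfsg.Agent.S1414
import Cfsg.Agent.S1416
import Cfsg.Agent.S1417
import Cfsg.Agent.S1418
import Cfsg.Agent.S1420
import Cfsg.Agent.S1423
import Cfsg.Agent.S1424
import Cfsg.Agent.S1425
import Cfsg.Agent.S1430
import Cfsg.Agent.S1432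
import Cfsg.Agent.Lib.helper26.BG1374
import Cfsg.Agent.Lib.helper26.BG1375
import Cfsg.Agent.Lib.helper27.BGKTI
import Cfsg.Agent.Lib.helper27.BGKPrime
import Cfsg.Agent.Lib.helper29.BG1366Asm
import Cfsg.Agent.Lib.helper89.BG1432
import Cfsg.Agent.Lib.helper1.Coprime
import Cfsg.Agent.Lib.helper12.FrobFixB
import Cfsg.Agent.Lib.helper69.BGKappaB
import Cfsg.Agent.Lib.helper69.BGTwelveB
import Cfsg.Agent.Lib.helper97.BGSeven1
import Cfsg.Agent.Lib.helper59.BGConj
import Cfsg.Agent.Lib.helper3.BGCross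
import Cfsg.Agent.Lib.helper71.BGTwelveAux
import Cfsg.Agent.Lib.helper8.BGTen5
import Cfsg.Agent.Lib.helper87.BG1425Main
import Cfsg.Agent.Lib.helper13.BG11a
import Cfsg.Agent.Lib.helper40.Cores2

/-!
# Import bundle for the S1436 pieces (B-G Theorem 14.4(d), Lemma 14.13)
-/

namespace Cfsg.Agent.Lib.helper28.BG1436

theorem bg1436_imp_marker : True := trivial

end Cfsg.Agent.Lib.helper28.BG1436
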