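import Cfsg.Agent.Lib.helper28.BG1436Base

/-!
# S1436, piece PB: `κ(M) = ∅`
-/

set_option autoImplicit false

namespace Cfsg.Agent.Lib.helper28.BG1436

open Cfsg Subgroup

variable {G : Type*} [Group G]

/-- (PB) `κ(M) = ∅`. -/
theorem pair_kappa [Finite G] (hG : IsMinSimpleOddOrder G) {M N : Subgroup G} {x : G} {r : ℕ}
    {A : Subgroup G} (hM : IsCoatom M) (hN : IsCoatom N) (F : PairFacts M N x r A)
    (p : ℕ) (hp : p ∈ beta N) (hpM : p ∣ Nat.card M) : kappa M = ∅ := by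
  have hpp : p.Prime := hp.1.1
  have : Fact p.Prime := ⟨hpp⟩
  have hpσN : p ∈ sigma N :=
    Cfsg.Agent.Lib.helper8.bg_alpha_sub_sigma hG (Cfsg.Agent.Lib.helper13.bgx_uniq hG) N hN hp.1
  have hσdisj : ∀ q, q ∈ sigma M → q ∉ sigma N := by
    intro q hqM hqN
    obtain ⟨g', hg'⟩ := (Cfsg.Agent.S1378.result hG).2 M N hM hN ⟨q, hqM, hqN⟩
    exact F.hnc g' hg'
  have hpσM : p ∉ sigma M := fun h => hσdisj p h hpσN
  have hHall := (Cfsg.Agent.S1350.result hG M hM).1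
  have hMs : Group.IsSolvable M := hG.2.2.2 M hM.1
  by_contra hne
  obtain ⟨q₀, hq₀⟩ := Set.nonempty_iff_ne_empty.mpr hne
  by_cases hcase : ∃ t : ℕ, t.Prime ∧ t ∣ Nat.card M ∧ t ∉ sigma M ∧ t ∉ kappa M
  · -- Case 1: `|K|` is prime and `F(M)` is a TI-subgroup.
    obtain ⟨t, ht, htM, htσ, htκ⟩ := hcase
    obtain ⟨K, hK⟩ := Cfsg.Agent.Lib.helper89.BG1432.exists_hallOf (kappa M) M hMs
    have hK1 : K ≠ ⊥ := by
      intro h
      have h1 : ¬ q₀ ∣ K.relIndex M := hK.2.2 q₀ hq₀.1 hq₀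
      have h2 : Nat.card K * K.relIndex M = Nat.card M :=
        Cfsg.Agent.Lib.helper69.bgk_card_mul_relIndex hK.1
      rw [h] at h1 h2
      rw [Subgroup.card_bot, one_mul] at h2
      exact h1 (h2 ▸ hq₀.2.1)
    have h1430 : Cfsg.Agent.Lib.helper69.H1430 G :=
      fun M hM K hK hK1 => Cfsg.Agent.S1430.result hG M hM K hK hK1
    have hKp := Cfsg.Agent.Lib.helper27.BGKP.kappa_card_prime_of_prime hG h1430 M hM K hK hK1
      t ht htM htσ htκ
    have : Fact (Nat.card K).Prime := ⟨hKp⟩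
    have hKc : IsCyclic K := isCyclic_of_prime_card (p := Nat.card K) rfl
    obtain ⟨⟨U, hKU⟩, -⟩ := Cfsg.Agent.S1352.result hG M hM K hKc hK
    have hUH := Cfsg.Agent.Lib.helper69.bgk_decomp_hall hHall hKU
    have hU1 : U ≠ ⊥ := by
      intro h
      have h1 : ¬ t ∣ U.relIndex M := hUH.2.2 t ht ⟨ht, htκ, htσ⟩
      have h2 := Cfsg.Agent.Lib.helper69.bgk_card_mul_relIndex hUH.1
      rw [h] at h1 h2
      rw [Subgroup.card_bot, one_mul] at h2
      exact h1 (h2 ▸ htM)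
    obtain ⟨-, hTI, hσF⟩ := Cfsg.Agent.S1372.result hG M hM K U hKU hK1 hU1
    obtain ⟨g, hgC, hgM⟩ := SetLike.not_le_iff_exists.mp F.hxM
    have hxF : x ∈ fittingOf M := hσF F.hx
    have hgx : g * x * g⁻¹ = x := by
      have h1 : g * x = x * g := mem_centralizer_singleton_iff.mp hgC
      rw [h1]; group
    have hgn : g ∈ normalizer ((fittingOf M : Subgroup G) : Set G) := by
      by_contra hgn
      exact F.hx1 (hTI g hgn x hxF (by rw [hgx]; exact hxF))
    have hF1 : fittingOf M ≠ ⊥ := fun h =>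
      F.hx1 (by rw [← Subgroup.mem_bot, ← h]; exact hxF)
    have hFM : fittingOf M ≤ M := map_subtype_le _
    have hFtop : fittingOf M ≠ ⊤ := fun h => hM.1 (top_le_iff.mp (h ▸ hFM))
    have hNtop := Cfsg.Agent.Lib.helper71.BG12.normalizer_ne_top' hG hF1 hFtop
    have hMN : M ≤ normalizer ((fittingOf M : Subgroup G) : Set G) := by
      intro m hm
      rw [mem_normalizer_iff]
      intro h
      constructor
      · exact Cfsg.Agent.Lib.helper27.BGKP.conj_mem_fittingOf M m hm h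
      · intro hh
        have h2 := Cfsg.Agent.Lib.helper27.BGKP.conj_mem_fittingOf M m⁻¹ (M.inv_mem hm) _ hh
        have e : m⁻¹ * (m * h * m⁻¹) * m⁻¹⁻¹ = h := by group
        rwa [e] at h2
    have hEq : normalizer ((fittingOf M : Subgroup G) : Set G) = M := by
      by_contra hneq
      exact hNtop (hM.2 _ (lt_of_le_of_ne hMN (Ne.symm hneq)))
    exact hgM (hEq ▸ hgn)
  · -- Case 2: `p ∈ κ(M)`.
    have hpκ : p ∈ kappa M := by
      by_contra hpκ; exact hcase ⟨p, hpp, hpM, hpσM, hpκ⟩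
    obtain ⟨P⟩ : Nonempty (Sylow p M) := inferInstance
    obtain ⟨-, x', hx'P, hx'1, y, hy, hy1, hcomm⟩ := hpκ.2.2.2 P
    have hx'G1 : (x' : G) ≠ 1 := fun h => hx'1 (Subtype.ext h)
    have hx'p : p ∣ orderOf (x' : G) := by
      obtain ⟨k, hk⟩ := (IsPGroup.iff_orderOf.mp P.isPGroup') ⟨x', hx'P⟩
      have h1 : orderOf (x' : G) = p ^ k := by
        rw [← hk, ← Subgroup.orderOf_coe, ← Subgroup.orderOf_coe]
      rw [h1]
      rcases Nat.eq_zero_or_pos k with h0 | h0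
      · exfalso
        rw [h0, pow_zero, orderOf_eq_one_iff] at h1
        exact hx'G1 h1
      · exact dvd_pow_self p h0.ne'
    have hox0 : orderOf (x' : G) ≠ 0 := (orderOf_pos (x' : G)).ne'
    set z : G := (x' : G) ^ (orderOf (x' : G) / p) with hzdef
    have hz : orderOf z = p := orderOf_pow_orderOf_div hox0 hx'p
    have hz1 : z ≠ 1 := by
      intro h
      rw [h, orderOf_one] at hz
      exact hpp.one_lt.ne hz
    have hzM : z ∈ M := M.pow_mem x'.2 _
    have hzy : Commute z y := (show Commute (x' : G) y from hcomm).pow_left _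
    -- a prime-order piece of `y`
    obtain ⟨q, X, hq, hqM, -, hXq, hX1, hXM, hXy⟩ :=
      Cfsg.Agent.Lib.helper26.BG1374.exists_prime_sub M hy hy1
    have : Fact q.Prime := ⟨hq⟩
    obtain ⟨⟨y₀, hy₀X⟩, hy₀ne⟩ := (Subgroup.ne_bot_iff_exists_ne_one).mp hX1
    have hy₀1 : y₀ ≠ 1 := fun h => hy₀ne (Subtype.ext h)
    have hy₀y : y₀ ∈ zpowers y := hXy hy₀X
    have hy₀σ : y₀ ∈ sigmaCore M := (zpowers_le.mpr hy) hy₀y
    have hzy₀ : Commute z y₀ := by
      obtain ⟨k, rfl⟩ := mem_zpowers_iff.mp hy₀y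
      exact hzy.zpow_right k
    have hC : centralizer ({y₀} : Set G) ≤ M := by
      rcases Cfsg.Agent.S1432.result hG M hM y₀ hy₀σ hy₀1 z
        ⟨hzM, mem_centralizer_singleton_iff.mpr hzy₀.eq⟩ hz1 (by
          intro p' hp' hp'z
          rw [hz] at hp'z
          rw [(Nat.prime_dvd_prime_iff_eq hp' hpp).mp hp'z]; exact hpσM) with h | h
      · exact h.2
      · exfalso
        have hτ : p ∈ tau2 M := h.1 p hpp (by rw [hz])
        exact (Cfsg.Agent.S1408.result hG M hM p hτ.2.1 hτ.2.2.1 hτ.2.2.2).1 hp.2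
    obtain ⟨c, hcz, hcw⟩ := conj_beta hG N hN p hp z hz
    have hqN : q ∉ sigma N := hσdisj q hqM
    have hY₀q : IsPGroup q (zpowers y₀) := hXq.to_le (zpowers_le.mpr hy₀X)
    have hY₀1 : zpowers y₀ ≠ ⊥ := fun h =>
      hy₀1 (by rw [← Subgroup.mem_bot, ← h]; exact mem_zpowers y₀)
    have hY₀M : zpowers y₀ ≤ M := (zpowers_le.mpr hy₀X).trans hXM
    have hYc : (zpowers y₀).map (MulAut.conj c).toMonoidHom ≤ N := by
      rintro _ ⟨a, ha, rfl⟩
      obtain ⟨k, rfl⟩ := mem_zpowers_iff.mp ha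
      exact hcw _ (hzy₀.zpow_right k).eq.symm
    have hH := pair_hall hG hN F
    obtain ⟨n, hn, hnB⟩ := Cfsg.Agent.Lib.helper69.bgk_conj_into_hall hH (p := q)
      (show q ∈ {q | q.Prime ∧ q ∉ sigma N} from ⟨hq, hqN⟩) hYc (hY₀q.map _)
    have hYnc : (zpowers y₀).map (MulAut.conj (n * c)).toMonoidHom ≤ M := by
      rintro _ ⟨a, ha, rfl⟩
      have h1 := (hnB _ ⟨a, ha, rfl⟩).1
      simp only [MulEquiv.coe_toMonoidHom, MulAut.conj_apply] at h1 ⊢
      have e : n * c * a * (n * c)⁻¹ = n * (c * a * c⁻¹) * n⁻¹ := by group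
      rw [e]; exact h1
    obtain ⟨m, hm, d, hd, hncmd⟩ :=
      (Cfsg.Agent.S1404.result hG M hM q hqM (zpowers y₀) hY₀q hY₀1 hY₀M).1 (n * c) hYnc
    have hdM : d ∈ M := by
      apply hC
      rw [mem_centralizer_singleton_iff]
      exact ((mem_centralizer_iff.mp hd) y₀ (mem_zpowers y₀)).symm
    have hncM : n * c ∈ M := by rw [hncmd]; exact M.mul_mem hm hdM
    have h1 : n * c * z * (n * c)⁻¹ ∈ M := M.mul_mem (M.mul_mem hncM hzM) (M.inv_mem hncM)
    have h2 : n * c * z * (n * c)⁻¹ ∈ sigmaCore N := by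
      have e : n * c * z * (n * c)⁻¹ = n * (c * z * c⁻¹) * n⁻¹ := by group
      rw [e]
      exact (mem_normalizer_iff.mp (Cfsg.Agent.Lib.helper71.BGA.le_normalizer_sigmaCore N hn) _).mp
        hcz
    have h3 : n * c * z * (n * c)⁻¹ ∈ sigmaCore N ⊓ M := ⟨h2, h1⟩
    rw [F.hdisj, Subgroup.mem_bot] at h3
    apply hz1
    have e : z = (n * c)⁻¹ * (n * c * z * (n * c)⁻¹) * (n * c) := by group
    rw [e, h3]; group

end Cfsg.Agent.Lib.helper28.BG1436
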