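import Mathlib
import Cfsg.Prelude.Def_Characters
import Cfsg.Prelude.Def_Blocks
import Cfsg.Prelude.Def_Solvable
import Cfsg.Prelude.Def_CaseTheorems
import Cfsg.Agent.Lib.helper58.OddSquares
import Cfsg.Agent.Lib.helper68.BGJcore
import Cfsg.Agent.Lib.helper21.MultChar
import Cfsg.Agent.Lib.helper84.Frobenius
import Cfsg.Agent.Lib.helper4.CharDecomp

/-! S4471 split (helper68), piece C3 : `centralizer_comm` (helper28).

If the restriction of a faithful irreducible character `χ` to a commutative subgroup `A` is a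
multiplicity-free sum of `χ(1)` irreducible characters of `A`, then `C_G(A)` is commutative. -/

set_option autoImplicit false

namespace Cfsg.Agent.Lib.helper28.BL

open Cfsg
open scoped ComplexConjugate

universe u

/-- The raw pairing of two characters is `|A|` times a natural number. -/
theorem sum_pair_nat {A : Type u} [Group A] [Fintype A] {f g : A → ℂ}
    (hf : IsCharacter A f) (hg : IsCharacter A g) :
    ∃ k : ℕ, ∑ a : A, f a * conj (g a) = (Nat.card A : ℂ) * k := by
  obtain ⟨k, hk⟩ := Cfsg.Agent.Lib.helper84.classInner_isCharacter_nat hf hg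
  refine ⟨k, ?_⟩
  rw [Cfsg.Agent.Lib.helper83.classInner_def] at hk
  have hN0 : (Nat.card A : ℂ) ≠ 0 := by exact_mod_cast Nat.card_pos.ne'
  rw [← hk, ← mul_assoc, mul_inv_cancel₀ hN0, one_mul]

/-- Arithmetic: `∑ (m d)² ≤ ∑ m d` forces `m d ≤ 1` termwise. -/
theorem le_one_of_sum_sq_le {ι : Type*} (s : Finset ι) (f : ι → ℕ)
    (h : ∑ i ∈ s, f i ^ 2 ≤ ∑ i ∈ s, f i) : ∀ i ∈ s, f i ≤ 1 := by
  intro i hi
  by_contra hlt
  have h2 : 2 ≤ f i := by omega
  have hlt' : ∑ j ∈ s, f j < ∑ j ∈ s, f j ^ 2 := by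
    apply Finset.sum_lt_sum
    · intro j _
      rcases Nat.eq_zero_or_pos (f j) with h0 | hpos
      · rw [h0]; simp
      · nlinarith
    · exact ⟨i, hi, by nlinarith⟩
  omega

end Cfsg.Agent.Lib.helper28.BL

namespace Cfsg.Agent.Lib.helper68.BL

open Cfsg
open scoped ComplexConjugate Matrix

universe u

/-- C3 : `C_G(A)` is commutative. -/
theorem centralizer_comm {G : Type u} [Group G] [Finite G] (χ : IrrCharacter G)
    (hfaith : ∀ g : G, (χ : G → ℂ) g = (χ : G → ℂ) 1 → g = 1)
    (A : Subgroup G) (hA : ∀ a ∈ A, ∀ b ∈ A, a * b = b * a)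
    (Λ : Finset (IrrCharacter A)) (hcard : Λ.card = charDegree (χ : G → ℂ))
    (hsum : ∀ a : A, (χ : G → ℂ) a = ∑ φ ∈ Λ, (φ : A → ℂ) a) :
    ∀ x ∈ Subgroup.centralizer (A : Set G), ∀ y ∈ Subgroup.centralizer (A : Set G),
      x * y = y * x := by
  classical
  let _ : Fintype G := Fintype.ofFinite G
  have hAC : A ≤ Subgroup.centralizer (A : Set G) := by
    intro a ha
    rw [Subgroup.mem_centralizer_iff]
    intro b hb
    exact hA b hb a ha
  obtain ⟨m, -, hval, hdeg⟩ :=
    Cfsg.Agent.Lib.helper58.restrict_decomp (Subgroup.centralizer (A : Set G)) χ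
  -- the inclusion `A → C`
  let ι : A →* Subgroup.centralizer (A : Set G) := Subgroup.inclusion hAC
  have hcen : ∀ a : A, ι a ∈ Subgroup.center (Subgroup.centralizer (A : Set G)) := by
    intro a
    rw [Subgroup.mem_center_iff]
    intro c
    have hc := c.2
    rw [Subgroup.mem_centralizer_iff] at hc
    apply Subtype.ext
    exact (hc a.1 a.2).symm
  have hN0 : (Nat.card A : ℂ) ≠ 0 := by exact_mod_cast Nat.card_pos.ne'
  -- modulus of the values on `A`
  have hnorm : ∀ (η : IrrCharacter (Subgroup.centralizer (A : Set G))) (a : A),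
      (η : Subgroup.centralizer (A : Set G) → ℂ) (ι a) *
        conj ((η : Subgroup.centralizer (A : Set G) → ℂ) (ι a))
        = ((charDegree (η : Subgroup.centralizer (A : Set G) → ℂ) : ℕ) : ℂ) ^ 2 := by
    intro η a
    obtain ⟨μ, hμ, hμg⟩ := Cfsg.Agent.Lib.helper2.BG.helper68_central_scalar η (ι a) (hcen a)
      (orderOf_pos _)
    have h1 := hμg 1
    rw [one_mul] at h1
    rw [h1, Cfsg.Agent.Lib.helper81.irr_one_eq_charDegree, map_mul, Complex.conj_natCast]
    have hμ1 : μ * conj μ = 1 := by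
      rw [Complex.mul_conj, Complex.normSq_eq_norm_sq, hμ]; simp
    linear_combination ((charDegree (η : Subgroup.centralizer (A : Set G) → ℂ) : ℕ) : ℂ) ^ 2 * hμ1
  -- the pairing numbers
  have hpair : ∀ η η' : IrrCharacter (Subgroup.centralizer (A : Set G)), ∃ k : ℕ,
      ∑ a : A, (η : Subgroup.centralizer (A : Set G) → ℂ) (ι a) *
        conj ((η' : Subgroup.centralizer (A : Set G) → ℂ) (ι a)) = (Nat.card A : ℂ) * k := by
    intro η η'
    exact Cfsg.Agent.Lib.helper28.BL.sum_pair_nat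
      (Cfsg.Agent.Lib.helper4.isCharacter_comp ι (Cfsg.Agent.Lib.helper83.isCharacter_of_irr η.2))
      (Cfsg.Agent.Lib.helper4.isCharacter_comp ι (Cfsg.Agent.Lib.helper83.isCharacter_of_irr η'.2))
  choose k hk using hpair
  have hkk : ∀ η : IrrCharacter (Subgroup.centralizer (A : Set G)),
      k η η = charDegree (η : Subgroup.centralizer (A : Set G) → ℂ) ^ 2 := by
    intro η
    have h1 := hk η η
    simp_rw [hnorm η] at h1
    rw [Finset.sum_const, Finset.card_univ, nsmul_eq_mul, ← Nat.card_eq_fintype_card] at h1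
    have h2 := mul_left_cancel₀ hN0 h1
    exact_mod_cast h2.symm
  -- first evaluation of `∑ |χ(a)|²`
  have hT1 : ∑ a : A, (χ : G → ℂ) a * conj ((χ : G → ℂ) a)
      = (Nat.card A : ℂ) * (Λ.card : ℂ) := by
    have e1 : ∀ a : A, (χ : G → ℂ) a * conj ((χ : G → ℂ) a)
        = ∑ φ ∈ Λ, ∑ φ' ∈ Λ, (φ : A → ℂ) a * conj ((φ' : A → ℂ) a) := by
      intro a
      rw [hsum a, map_sum, Finset.sum_mul_sum]
    simp_rw [e1]
    rw [Finset.sum_comm]
    have e2 : ∀ φ ∈ Λ, ∑ a : A, ∑ φ' ∈ Λ, (φ : A → ℂ) a * conj ((φ' : A → ℂ) a)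
        = (Nat.card A : ℂ) := by
      intro φ hφ
      rw [Finset.sum_comm]
      simp_rw [Cfsg.Agent.Lib.helper83.irr_orthogonality']
      rw [Finset.sum_ite_eq Λ φ, if_pos hφ]
    rw [Finset.sum_congr rfl e2, Finset.sum_const, nsmul_eq_mul, mul_comm]
  -- second evaluation
  have hT2 : ∑ a : A, (χ : G → ℂ) a * conj ((χ : G → ℂ) a)
      = (Nat.card A : ℂ) * ((∑ η : IrrCharacter (Subgroup.centralizer (A : Set G)),
          ∑ η' : IrrCharacter (Subgroup.centralizer (A : Set G)), m η * m η' * k η η' : ℕ) : ℂ) := by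
    have e1 : ∀ a : A, (χ : G → ℂ) a * conj ((χ : G → ℂ) a)
        = ∑ η : IrrCharacter (Subgroup.centralizer (A : Set G)),
          ∑ η' : IrrCharacter (Subgroup.centralizer (A : Set G)), ((m η : ℂ) * (m η' : ℂ)) *
          ((η : Subgroup.centralizer (A : Set G) → ℂ) (ι a) *
            conj ((η' : Subgroup.centralizer (A : Set G) → ℂ) (ι a))) := by
      intro a
      have h' : (χ : G → ℂ) a = ∑ η : IrrCharacter (Subgroup.centralizer (A : Set G)),
          (m η : ℂ) * (η : Subgroup.centralizer (A : Set G) → ℂ) (ι a) := hval (ι a)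
      rw [h', map_sum, Finset.sum_mul_sum]
      refine Finset.sum_congr rfl fun η _ => Finset.sum_congr rfl fun η' _ => ?_
      rw [map_mul, Complex.conj_natCast]; ring
    simp_rw [e1]
    rw [Finset.sum_comm]
    push_cast
    rw [Finset.mul_sum]
    refine Finset.sum_congr rfl fun η _ => ?_
    rw [Finset.sum_comm, Finset.mul_sum]
    refine Finset.sum_congr rfl fun η' _ => ?_
    rw [← Finset.mul_sum, hk η η']; ring
  -- comparison in ℕ
  have hnat : Λ.card = ∑ η : IrrCharacter (Subgroup.centralizer (A : Set G)),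
          ∑ η' : IrrCharacter (Subgroup.centralizer (A : Set G)), m η * m η' * k η η' := by
    have h := hT1.symm.trans hT2
    have h2 := mul_left_cancel₀ hN0 h
    exact_mod_cast h2
  have hle : ∑ η : IrrCharacter (Subgroup.centralizer (A : Set G)),
      (m η * charDegree (η : Subgroup.centralizer (A : Set G) → ℂ)) ^ 2
      ≤ ∑ η : IrrCharacter (Subgroup.centralizer (A : Set G)),
        m η * charDegree (η : Subgroup.centralizer (A : Set G) → ℂ) := by
    rw [← hdeg, ← hcard, hnat]
    refine Finset.sum_le_sum fun η _ => ?_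
    have h1 : m η * m η * k η η ≤ ∑ η' : IrrCharacter (Subgroup.centralizer (A : Set G)),
        m η * m η' * k η η' :=
      Finset.single_le_sum (f := fun η' => m η * m η' * k η η') (fun _ _ => Nat.zero_le _)
        (Finset.mem_univ η)
    refine le_trans (le_of_eq ?_) h1
    rw [hkk η]; ring
  have hone := Cfsg.Agent.Lib.helper28.BL.le_one_of_sum_sq_le Finset.univ
    (fun η : IrrCharacter (Subgroup.centralizer (A : Set G)) =>
      m η * charDegree (η : Subgroup.centralizer (A : Set G) → ℂ)) hle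
  have hlin : ∀ η : IrrCharacter (Subgroup.centralizer (A : Set G)), m η ≠ 0 →
      charDegree (η : Subgroup.centralizer (A : Set G) → ℂ) = 1 := by
    intro η hm
    have h1 := hone η (Finset.mem_univ η)
    have hpos := Cfsg.Agent.Lib.helper81.irr_charDegree_pos η
    have hmpos : 0 < m η := Nat.pos_of_ne_zero hm
    have : charDegree (η : Subgroup.centralizer (A : Set G) → ℂ)
        ≤ m η * charDegree (η : Subgroup.centralizer (A : Set G) → ℂ) :=
      Nat.le_mul_of_pos_left _ hmpos
    omega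
  -- conclusion
  intro x hx y hy
  have hd : (⟨x, hx⟩ : Subgroup.centralizer (A : Set G)) * ⟨y, hy⟩ * (⟨x, hx⟩)⁻¹ * (⟨y, hy⟩)⁻¹
      ∈ commutator (Subgroup.centralizer (A : Set G)) := by
    rw [commutator_def]
    exact Subgroup.commutator_mem_commutator (g₁ := (⟨x, hx⟩ : Subgroup.centralizer (A : Set G)))
      (g₂ := ⟨y, hy⟩) (Subgroup.mem_top _) (Subgroup.mem_top _)
  have hχ : (χ : G → ℂ) (x * y * x⁻¹ * y⁻¹) = (χ : G → ℂ) 1 := by
    have h1 := hval ((⟨x, hx⟩ : Subgroup.centralizer (A : Set G)) * ⟨y, hy⟩ * (⟨x, hx⟩)⁻¹ *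
      (⟨y, hy⟩)⁻¹)
    have h2 := hval 1
    have h1' : (χ : G → ℂ) (x * y * x⁻¹ * y⁻¹) = _ := h1
    have h2' : (χ : G → ℂ) 1 = _ := h2
    rw [h1', h2']
    refine Finset.sum_congr rfl fun η _ => ?_
    by_cases hm : m η = 0
    · rw [hm]; simp
    · have hη1 : (η : Subgroup.centralizer (A : Set G) → ℂ) 1 = 1 := by
        rw [Cfsg.Agent.Lib.helper81.irr_one_eq_charDegree, hlin η hm, Nat.cast_one]
      rw [Cfsg.Agent.Lib.helper21.mc_linear_commutator η hη1 hd, hη1]
  have h4 := hfaith _ hχ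
  exact (commutatorElement_eq_one_iff_mul_comm (g₁ := x) (g₂ := y)).mp h4

end Cfsg.Agent.Lib.helper68.BL
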