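import Mathlib
import Cfsg.Prelude.Def_Characters
import Cfsg.Prelude.Def_Blocks
import Cfsg.Prelude.Def_Solvable
import Cfsg.Prelude.Def_CaseTheorems

/-! S4471 split (helper68), piece F4 : `proj_eq_of_commute` (helper28, racing copy under the
prefixed name `helper28_proj_eq_of_commute`). -/

set_option autoImplicit false

namespace Cfsg.Agent.Lib.helper28.BL

open scoped ComplexConjugate Matrix ComplexOrder

/-- A Hermitian idempotent matrix of trace zero vanishes. -/
theorem herm_idem_trace_zero {n : ℕ} (D : Matrix (Fin n) (Fin n) ℂ) (hD : D * D = D)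
    (hDh : Dᴴ = D) (ht : D.trace = 0) : D = 0 := by
  have h : (Dᴴ * D).trace = 0 := by rw [hDh, hD, ht]
  exact Matrix.trace_conjTranspose_mul_self_eq_zero_iff.mp h

end Cfsg.Agent.Lib.helper28.BL

namespace Cfsg.Agent.Lib.helper68.BL

open Cfsg
open scoped ComplexConjugate Matrix

universe u

/-- F4 (Frobenius' lemma): commuting Hermitian idempotents `E`, `E' = y E y⁻¹` are equal if no nonzero
`w ∈ im E` has `y w ∈ ker E`. -/
theorem helper28_proj_eq_of_commute {n : ℕ} (E E' y yi : Matrix (Fin n) (Fin n) ℂ) (hE : E * E = E)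
    (hEh : Eᴴ = E) (hE'h : E'ᴴ = E') (hy : y * yi = 1) (hconj : E' = y * E * yi)
    (hcomm : E * E' = E' * E)
    (hstar : ∀ w : Fin n → ℂ, E *ᵥ w = w → E *ᵥ (y *ᵥ w) = 0 → w = 0) : E' = E := by
  have hy' : yi * y = 1 := mul_eq_one_comm.mp hy
  -- `E'` is idempotent
  have hE' : E' * E' = E' := by
    rw [hconj]
    calc y * E * yi * (y * E * yi) = y * E * (yi * y) * E * yi := by simp only [Matrix.mul_assoc]
      _ = y * (E * E) * yi := by rw [hy', Matrix.mul_one]; simp only [Matrix.mul_assoc]
      _ = y * E * yi := by rw [hE]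
  -- `yi E' = E yi`
  have hyiE' : yi * E' = E * yi := by
    rw [hconj]
    calc yi * (y * E * yi) = (yi * y) * E * yi := by simp only [Matrix.mul_assoc]
      _ = E * yi := by rw [hy', Matrix.one_mul]
  -- `Q = (1 - E) E'` kills every vector
  have hQ : E' - E * E' = 0 := by
    have hvec : ∀ u : Fin n → ℂ, (E' - E * E') *ᵥ u = 0 := by
      intro u
      set v : Fin n → ℂ := (E' - E * E') *ᵥ u with hv
      have hE'v : E' *ᵥ v = v := by
        rw [hv, Matrix.mulVec_mulVec]
        congr 1
        rw [Matrix.mul_sub, hE', ← Matrix.mul_assoc, ← hcomm, Matrix.mul_assoc, hE']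
      have hEv : E *ᵥ v = 0 := by
        rw [hv, Matrix.mulVec_mulVec]
        have : E * (E' - E * E') = 0 := by
          rw [Matrix.mul_sub, ← Matrix.mul_assoc, hE, sub_self]
        rw [this, Matrix.zero_mulVec]
      have hw : yi *ᵥ v = 0 := by
        apply hstar
        · rw [Matrix.mulVec_mulVec, ← hyiE', ← Matrix.mulVec_mulVec, hE'v]
        · have hyv : y *ᵥ (yi *ᵥ v) = v := by
            rw [Matrix.mulVec_mulVec, hy, Matrix.one_mulVec]
          rw [hyv, hEv]
      have : y *ᵥ (yi *ᵥ v) = v := by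
        rw [Matrix.mulVec_mulVec, hy, Matrix.one_mulVec]
      rw [← this, hw, Matrix.mulVec_zero]
    ext i j
    have h := congrFun (hvec (Pi.single j 1)) i
    simpa using h
  have hEE' : E * E' = E' := (sub_eq_zero.mp hQ).symm
  -- `D = E - E'` is a Hermitian idempotent of trace zero
  have hD : (E - E') * (E - E') = E - E' := by
    rw [Matrix.sub_mul, Matrix.mul_sub, Matrix.mul_sub, hE, hE', ← hcomm, hEE']
    abel
  have hDh : (E - E')ᴴ = E - E' := by
    rw [Matrix.conjTranspose_sub, hEh, hE'h]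
  have htr : (E - E').trace = 0 := by
    rw [Matrix.trace_sub, hconj, Matrix.trace_mul_comm, ← Matrix.mul_assoc, hy', Matrix.one_mul,
      sub_self]
  have h0 := Cfsg.Agent.Lib.helper28.BL.herm_idem_trace_zero (E - E') hD hDh htr
  exact (sub_eq_zero.mp h0).symm

end Cfsg.Agent.Lib.helper68.BL
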