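import Mathlib
import Cfsg.Prelude.Def_Characters
import Cfsg.Prelude.Def_Blocks
import Cfsg.Prelude.Def_Solvable
import Cfsg.Prelude.Def_CaseTheorems
import Cfsg.Agent.Lib.helper47.BLU

/-! S4471 split (helper68), piece T core : `commute_of_rep` with the Frobenius–Blichfeldt piece FB
as an explicit hypothesis (helper28). -/

set_option autoImplicit false

namespace Cfsg.Agent.Lib.helper28.BL

open Cfsg
open scoped ComplexConjugate Matrix

universe u

/-- The statement of FB (`fb_commute`) for a fixed group and degree. -/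
def FBStmt (G : Type u) [Group G] (n : ℕ) : Prop :=
  ∀ (U : G →* Matrix (Fin n) (Fin n) ℂ), (∀ g : G, (U g)ᴴ * U g = 1) → ∀ (z : G) (ω : ℂ),
    star ω * ω = 1 → ω ≠ 1 → ‖ω - 1‖ < 1 →
    (U z - 1) * (U z - ω • (1 : Matrix (Fin n) (Fin n) ℂ)) = 0 → ∀ g : G,
    U z * U (g * z * g⁻¹) = U (g * z * g⁻¹) * U z

/-- T, with FB as a hypothesis. -/
theorem commute_of_rep_of_fb {G : Type u} [Group G] [Finite G] {n : ℕ} (hFB : FBStmt G n)
    (ρ : Representation ℂ G (Fin n → ℂ))
    (hfaith : ∀ g : G, ρ.character g = ρ.character 1 → g = 1) (z : G) (ω : ℂ)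
    (hω : star ω * ω = 1) (hω1 : ω ≠ 1) (hr : ‖ω - 1‖ < 1)
    (hz : (ρ z - 1) * (ρ z - ω • (1 : Module.End ℂ (Fin n → ℂ))) = 0) (g : G) :
    z * (g * z * g⁻¹) = (g * z * g⁻¹) * z := by
  classical
  -- the matrix form of `ρ`
  let e : Module.End ℂ (Fin n → ℂ) ≃ₐ[ℂ] Matrix (Fin n) (Fin n) ℂ := LinearMap.toMatrixAlgEquiv'
  let R : G →* Matrix (Fin n) (Fin n) ℂ :=
    { toFun := fun x => e (ρ x)
      map_one' := by rw [map_one, map_one]
      map_mul' := fun a b => by rw [map_mul, map_mul] }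
  have hR : ∀ x : G, R x = e (ρ x) := fun _ => rfl
  obtain ⟨C, D, U, hCD, hDC, hU, hUu⟩ := Cfsg.Agent.Lib.helper68.BL.exists_unitary_hom R
  -- `U` is injective on the relevant elements
  have hinj : ∀ a b : G, U a = U b → a = b := by
    intro a b hab
    rw [hU a, hU b] at hab
    have h1 : R a = R b := by
      have h2 : D * (C * R a * D) * C = D * (C * R b * D) * C := by rw [hab]
      have h3 : ∀ M : Matrix (Fin n) (Fin n) ℂ, D * (C * M * D) * C = M := by
        intro M
        calc D * (C * M * D) * C = (D * C) * M * (D * C) := by simp only [Matrix.mul_assoc]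
          _ = M := by rw [hDC, Matrix.one_mul, Matrix.mul_one]
      rwa [h3, h3] at h2
    have h4 : ρ a = ρ b := e.injective (by rw [← hR, ← hR, h1])
    have h5 : ρ (a * b⁻¹) = ρ 1 := by
      rw [map_mul, h4, ← map_mul, mul_inv_cancel]
    have h6 : ρ.character (a * b⁻¹) = ρ.character 1 := by
      show LinearMap.trace ℂ _ (ρ (a * b⁻¹)) = LinearMap.trace ℂ _ (ρ 1)
      rw [h5]
    have h7 := hfaith _ h6
    exact mul_inv_eq_one.mp h7
  -- the two-eigenvalue equation for `U z`
  have hzU : (U z - 1) * (U z - ω • (1 : Matrix (Fin n) (Fin n) ℂ)) = 0 := by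
    have hez : (R z - 1) * (R z - ω • (1 : Matrix (Fin n) (Fin n) ℂ)) = 0 := by
      have h1 := congrArg e hz
      rw [map_mul, map_sub, map_sub, map_one, map_smul, map_one, map_zero] at h1
      exact h1
    have h1 : U z - 1 = C * (R z - 1) * D := by
      rw [hU z, Matrix.mul_sub, Matrix.sub_mul, Matrix.mul_one, hCD]
    have h2 : U z - ω • (1 : Matrix (Fin n) (Fin n) ℂ)
        = C * (R z - ω • (1 : Matrix (Fin n) (Fin n) ℂ)) * D := by
      rw [hU z, Matrix.mul_sub, Matrix.sub_mul, Matrix.mul_smul, Matrix.mul_one, Matrix.smul_mul,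
        hCD]
    rw [h1, h2]
    calc C * (R z - 1) * D * (C * (R z - ω • (1 : Matrix (Fin n) (Fin n) ℂ)) * D)
        = C * ((R z - 1) * (D * C) * (R z - ω • (1 : Matrix (Fin n) (Fin n) ℂ))) * D := by
          simp only [Matrix.mul_assoc]
      _ = 0 := by rw [hDC, Matrix.mul_one, hez, Matrix.mul_zero, Matrix.zero_mul]
  have hcomm := hFB U hUu z ω hω hω1 hr hzU g
  apply hinj
  rw [map_mul U z (g * z * g⁻¹), map_mul U (g * z * g⁻¹) z, hcomm]

end Cfsg.Agent.Lib.helper28.BL
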