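import Mathlib
import Cfsg.Agent.Lib.helper42.FGDefs

/-!
S1915 split, leaf C3 (`inv_el_small`): racer copy by helper28 (all declarations prefixed `helper28_`).
-/

set_option autoImplicit false

namespace Cfsg.Agent.Lib.helper28.FGC3
end Cfsg.Agent.Lib.helper28.FGC3

namespace Cfsg.Agent.Lib.helper42.FG

variable {G : Type*} [Group G] [Finite G]

/-- C3, racer copy: verbatim Skel statement of `inv_el_small`. -/
theorem helper28_inv_el_small (A U : Subgroup G) (hU : IsKleinFour U)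
    (hb : ∀ u ∈ U, u ≠ 1 → ∀ E : Subgroup G, E ≤ A → (∀ e ∈ E, u * e = e * u) → El E → Nat.card E ≤ 2)
    (E : Subgroup G) (hEA : E ≤ A) (hUE : U ≤ Subgroup.normalizer (E : Set G)) (hE : El E) :
    Nat.card E ≤ 2 := by
  classical
  by_contra hcon
  push Not at hcon
  have hexp : Monoid.exponent ↥U = 2 := IsKleinFour.exponent_two
  have hcardU : Nat.card U = 4 := IsKleinFour.card_four
  have hsq : ∀ u ∈ U, u * u = 1 := by
    intro u hu
    have h1 : (⟨u, hu⟩ : ↥U) ^ 2 = 1 := by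
      have := Monoid.pow_exponent_eq_one (⟨u, hu⟩ : ↥U)
      rwa [hexp] at this
    have h2 := congrArg Subtype.val h1
    simpa [pow_two] using h2
  have hUc : ∀ u ∈ U, ∀ v ∈ U, u * v = v * u := by
    intro u hu v hv
    have := mul_comm_of_exponent_two hexp (⟨u, hu⟩ : ↥U) ⟨v, hv⟩
    exact congrArg Subtype.val this
  have hnorm : ∀ u ∈ U, ∀ y, y ∈ E ↔ u * y * u⁻¹ ∈ E := fun u hu =>
    Subgroup.mem_normalizer_iff.mp (hUE hu)
  have hsmall : ∀ (H : Subgroup G) (a : G), (∀ x ∈ H, x = 1 ∨ x = a) → Nat.card H ≤ 2 := by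
    intro H a hH
    have hsub : (H : Set G) ⊆ {1, a} := by
      intro x hx
      rcases hH x hx with h1 | h1
      · left
        exact h1
      · right
        exact h1
    rw [← SetLike.coe_sort_coe, Nat.card_coe_set_eq]
    calc (H : Set G).ncard ≤ ({1, a} : Set G).ncard := Set.ncard_le_ncard hsub (Set.toFinite _)
      _ ≤ ({a} : Set G).ncard + 1 := Set.ncard_insert_le 1 {a}
      _ = 2 := by rw [Set.ncard_singleton]
  have hfix : ∀ u ∈ U, u ≠ 1 → ∀ x ∈ E, ∀ y ∈ E, u * x * u⁻¹ = x → u * y * u⁻¹ = y →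
      x ≠ 1 → y ≠ 1 → x = y := by
    intro u hu hu1 x hx y hy hux huy hx1 hy1
    by_contra hxy
    have hcen : ∀ w : G, u * w * u⁻¹ = w → w ∈ Subgroup.centralizer ({u} : Set G) := by
      intro w hw
      rw [Subgroup.mem_centralizer_iff]
      intro g hg
      rw [Set.mem_singleton_iff] at hg
      rw [hg]
      exact mul_inv_eq_iff_eq_mul.mp hw
    have hC := hb u hu hu1 (E ⊓ Subgroup.centralizer ({u} : Set G)) (inf_le_left.trans hEA)
      (fun e he => Subgroup.mem_centralizer_iff.mp he.2 u (Set.mem_singleton u))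
      ⟨fun a ha b hb' => hE.1 a ha.1 b hb'.1, fun e he => hE.2 e he.1⟩
    have hsub : ({1, x, y} : Set G) ⊆
        ((E ⊓ Subgroup.centralizer ({u} : Set G) : Subgroup G) : Set G) := by
      intro w hw
      rcases hw with rfl | rfl | rfl
      · exact Subgroup.one_mem _
      · exact ⟨hx, hcen _ hux⟩
      · exact ⟨hy, hcen _ huy⟩
    have h3 : ({1, x, y} : Set G).ncard = 3 :=
      Set.ncard_eq_three.2 ⟨1, x, y, fun h => hx1 h.symm, fun h => hy1 h.symm, hxy, rfl⟩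
    have h4 : 3 ≤ Nat.card ↥(E ⊓ Subgroup.centralizer ({u} : Set G)) := by
      rw [← SetLike.coe_sort_coe, Nat.card_coe_set_eq, ← h3]
      exact Set.ncard_le_ncard hsub (Set.toFinite _)
    omega
  obtain ⟨u1, hu1U, hu11⟩ : ∃ u1 ∈ U, u1 ≠ 1 := by
    by_contra hc
    push Not at hc
    have := hsmall U 1 (fun x hx => Or.inl (hc x hx))
    omega
  obtain ⟨u2, hu2U, hu21, hu2u1⟩ : ∃ u2 ∈ U, u2 ≠ 1 ∧ u2 ≠ u1 := by
    by_contra hc
    push Not at hc
    have := hsmall U u1 (fun x hx => by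
      by_cases h1 : x = 1
      · exact Or.inl h1
      · exact Or.inr (hc x hx h1))
    omega
  obtain ⟨e0, he0E, he01⟩ : ∃ e0 ∈ E, e0 ≠ 1 := by
    by_contra hc
    push Not at hc
    have := hsmall E 1 (fun x hx => Or.inl (hc x hx))
    omega
  have hconjfix : ∀ u ∈ U, ∀ e ∈ E, u * (e * (u * e * u⁻¹)) * u⁻¹ = e * (u * e * u⁻¹) := by
    intro u hu e he
    have h1 : u * (e * (u * e * u⁻¹)) * u⁻¹ = (u * e * u⁻¹) * (u * u * e * (u * u)⁻¹) := by group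
    rw [h1, hsq u hu, one_mul, inv_one, mul_one]
    exact hE.1 _ ((hnorm u hu e).mp he) _ he
  have hne1 : ∀ u ∈ U, ∀ e ∈ E, u * e * u⁻¹ ≠ e → e * (u * e * u⁻¹) ≠ 1 := by
    intro u hu e he hne h1
    apply hne
    have he2 : e * e = 1 := by
      have := hE.2 e he
      rwa [pow_two] at this
    have : e * (u * e * u⁻¹) = e * e := by rw [h1, he2]
    exact mul_left_cancel this
  obtain ⟨c1, hc1E, hc11, hc1u1⟩ : ∃ c1 ∈ E, c1 ≠ 1 ∧ u1 * c1 * u1⁻¹ = c1 := by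
    by_cases h0 : u1 * e0 * u1⁻¹ = e0
    · exact ⟨e0, he0E, he01, h0⟩
    · exact ⟨e0 * (u1 * e0 * u1⁻¹), E.mul_mem he0E ((hnorm u1 hu1U e0).mp he0E),
        hne1 u1 hu1U e0 he0E h0, hconjfix u1 hu1U e0 he0E⟩
  have hc1u2 : u2 * c1 * u2⁻¹ = c1 := by
    apply hfix u1 hu1U hu11 _ ((hnorm u2 hu2U c1).mp hc1E) _ hc1E _ hc1u1 _ hc11
    · have h1 : u1 * (u2 * c1 * u2⁻¹) * u1⁻¹ = (u1 * u2) * c1 * (u1 * u2)⁻¹ := by group
      have h2 : (u2 * u1) * c1 * (u2 * u1)⁻¹ = u2 * (u1 * c1 * u1⁻¹) * u2⁻¹ := by group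
      rw [h1, hUc u1 hu1U u2 hu2U, h2, hc1u1]
    · intro h1
      apply hc11
      have : c1 = u2⁻¹ * (u2 * c1 * u2⁻¹) * u2 := by group
      rw [this, h1]
      group
  obtain ⟨e, heE, he1, hec1⟩ : ∃ e ∈ E, e ≠ 1 ∧ e ≠ c1 := by
    by_contra hc
    push Not at hc
    have := hsmall E c1 (fun x hx => by
      by_cases h1 : x = 1
      · exact Or.inl h1
      · exact Or.inr (hc x hx h1))
    omega
  have hmove : ∀ u ∈ U, u ≠ 1 → u * c1 * u⁻¹ = c1 → e * (u * e * u⁻¹) = c1 := by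
    intro u hu hu1 hfc
    have hne : u * e * u⁻¹ ≠ e := by
      intro h0
      exact hec1 (hfix u hu hu1 e heE c1 hc1E h0 hfc he1 hc11)
    exact hfix u hu hu1 _ (E.mul_mem heE ((hnorm u hu e).mp heE)) c1 hc1E
      (hconjfix u hu e heE) hfc (hne1 u hu e heE hne) hc11
  have h1 := hmove u1 hu1U hu11 hc1u1
  have h2 := hmove u2 hu2U hu21 hc1u2
  have h12 : u1 * e * u1⁻¹ = u2 * e * u2⁻¹ := mul_left_cancel (h1.trans h2.symm)
  have hu3U : u2⁻¹ * u1 ∈ U := U.mul_mem (U.inv_mem hu2U) hu1U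
  have hu31 : u2⁻¹ * u1 ≠ 1 := by
    intro h0
    have h3 : u1 = u2 * (u2⁻¹ * u1) := by group
    rw [h0, mul_one] at h3
    exact hu2u1 h3.symm
  have hu3e : (u2⁻¹ * u1) * e * (u2⁻¹ * u1)⁻¹ = e := by
    have h3 : (u2⁻¹ * u1) * e * (u2⁻¹ * u1)⁻¹ = u2⁻¹ * (u1 * e * u1⁻¹) * u2 := by group
    rw [h3, h12]
    group
  have hu3c : (u2⁻¹ * u1) * c1 * (u2⁻¹ * u1)⁻¹ = c1 := by
    have h3 : (u2⁻¹ * u1) * c1 * (u2⁻¹ * u1)⁻¹ = u2⁻¹ * (u1 * c1 * u1⁻¹) * u2 := by group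
    have h4 : u2⁻¹ * c1 * u2 = u2⁻¹ * (u2 * c1 * u2⁻¹) * u2 := by rw [hc1u2]
    rw [h3, hc1u1, h4]
    group
  exact hec1 (hfix _ hu3U hu31 e heE c1 hc1E hu3e hu3c he1 hc11)

end Cfsg.Agent.Lib.helper42.FG
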