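import Mathlib
import Cfsg.Agent.Lib.helper3.Class2
import Cfsg.Agent.Lib.helper59.UniqueOrderP
import Cfsg.Agent.Lib.helper1.Coprime
import Cfsg.Agent.Lib.helper13.Count

/-!
# A Frobenius group acting on a `p`-group with cyclic centralizers

`frob_fixed` : the Frobenius fixed point lemma (abelian module, multiplicative form).
`le_of_frob_mod` : the same modulo a central subgroup `P`.
`frob_cyclic` : if `K R` (with `R` acting fixed-point-freely on `K`) acts on a `p`-group `T`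
(`p` odd) centralizing a central subgroup `P` of order `p`, and `C_T(K)`, `C_T(R)` are cyclic,
then `T` is cyclic.
`frob_sylow_cyclic` : the Sylow form for a group `Y` acted on coprimely.
-/

set_option autoImplicit false
set_option linter.style.haveILetI false

namespace Cfsg.Agent.Lib.helper28.FrobCyc

open scoped commutatorElement

/-- Conjugation by elements of the normalizer, as endomorphisms of the subgroup. -/
def conjEnd {Q : Type*} [Group Q] (V : Subgroup Q) :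
    ↥(Subgroup.normalizer (V : Set Q)) →* Monoid.End ↥V where
  toFun g :=
    { toFun := fun v => ⟨(g : Q) * v * (g : Q)⁻¹, (Subgroup.mem_normalizer_iff.mp g.2 v).mp v.2⟩
      map_one' := by ext; simp
      map_mul' := fun a b => by ext; simp [mul_assoc] }
  map_one' := by
    apply MonoidHom.ext; intro v; apply Subtype.ext
    show (1 : Q) * (v : Q) * (1 : Q)⁻¹ = (v : Q)
    simp
  map_mul' g h := by
    apply MonoidHom.ext; intro v; apply Subtype.ext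
    show ((g : Q) * h) * v * ((g : Q) * h)⁻¹ = (g : Q) * ((h : Q) * v * (h : Q)⁻¹) * (g : Q)⁻¹
    group

theorem conjEnd_coe {Q : Type*} [Group Q] (V : Subgroup Q)
    (g : ↥(Subgroup.normalizer (V : Set Q))) (v : ↥V) :
    ((conjEnd V g v : ↥V) : Q) = (g : Q) * v * (g : Q)⁻¹ := rfl

/-- **Frobenius fixed point lemma.** -/
theorem frob_fixed {Q : Type*} [Group Q] [Finite Q] (V K R : Subgroup Q)
    (hVab : ∀ a ∈ V, ∀ b ∈ V, a * b = b * a)
    (hKV : K ≤ Subgroup.normalizer (V : Set Q)) (hRV : R ≤ Subgroup.normalizer (V : Set Q))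
    (hRK : R ≤ Subgroup.normalizer (K : Set Q))
    (hfpf : ∀ ρ ∈ R, ρ ≠ 1 → ∀ k ∈ K, k * ρ = ρ * k → k = 1)
    (hcop : (Nat.card K).Coprime (Nat.card V))
    (hCK : ∀ v ∈ V, (∀ k ∈ K, k * v = v * k) → v = 1)
    (hCR : ∀ v ∈ V, (∀ ρ ∈ R, ρ * v = v * ρ) → v = 1) : V = ⊥ := by
  classical
  letI : CommGroup ↥V := { (inferInstance : Group ↥V) with
    mul_comm := fun a b => Subtype.ext (hVab a a.2 b b.2) }
  haveI : Fintype ↥K := Fintype.ofFinite _
  haveI : Fintype ↥R := Fintype.ofFinite _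
  let ψ := conjEnd V
  let iK : ↥K → ↥(Subgroup.normalizer (V : Set Q)) := fun k => ⟨k, hKV k.2⟩
  let iR : ↥R → ↥(Subgroup.normalizer (V : Set Q)) := fun ρ => ⟨ρ, hRV ρ.2⟩
  have hiKmul : ∀ a b : ↥K, iK (a * b) = iK a * iK b := fun a b => rfl
  have hiRmul : ∀ a b : ↥R, iR (a * b) = iR a * iR b := fun a b => rfl
  have hcomm_of_fix : ∀ (g : ↥(Subgroup.normalizer (V : Set Q))) (X : ↥V), ψ g X = X →
      (g : Q) * (X : Q) = (X : Q) * (g : Q) := by
    intro g X h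
    have h2 : (g : Q) * X * (g : Q)⁻¹ = X := congrArg (fun z : ↥V => (z : Q)) h
    calc (g : Q) * (X : Q) = ((g : Q) * X * (g : Q)⁻¹) * g := by group
      _ = X * g := by rw [h2]
  -- norms vanish
  have hNK : ∀ w : ↥V, ∏ k : ↥K, ψ (iK k) w = 1 := by
    intro w
    have hfix : ∀ k' : ↥K, ψ (iK k') (∏ k : ↥K, ψ (iK k) w) = ∏ k : ↥K, ψ (iK k) w := by
      intro k'
      rw [map_prod]
      apply Fintype.prod_equiv (Equiv.mulLeft k')
      intro k
      rw [Equiv.coe_mulLeft, hiKmul, map_mul]; rfl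
    have h1 := hCK ((∏ k : ↥K, ψ (iK k) w : ↥V) : Q) (Subtype.prop _) (by
      intro k hk
      exact hcomm_of_fix (iK ⟨k, hk⟩) _ (hfix ⟨k, hk⟩))
    exact Subtype.ext h1
  have hNR : ∀ w : ↥V, ∏ ρ : ↥R, ψ (iR ρ) w = 1 := by
    intro w
    have hfix : ∀ ρ' : ↥R, ψ (iR ρ') (∏ ρ : ↥R, ψ (iR ρ) w) = ∏ ρ : ↥R, ψ (iR ρ) w := by
      intro ρ'
      rw [map_prod]
      apply Fintype.prod_equiv (Equiv.mulLeft ρ')
      intro ρ
      rw [Equiv.coe_mulLeft, hiRmul, map_mul]; rfl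
    have h1 := hCR ((∏ ρ : ↥R, ψ (iR ρ) w : ↥V) : Q) (Subtype.prop _) (by
      intro ρ hρ
      exact hcomm_of_fix (iR ⟨ρ, hρ⟩) _ (hfix ⟨ρ, hρ⟩))
    exact Subtype.ext h1
  have hv : ∀ v : ↥V, v = 1 := by
    intro v
    -- the double product, computed in two ways
    have h1 : ∏ ρ : ↥R, ∏ k : ↥K, ψ (iK k * iR ρ * (iK k)⁻¹) v = 1 := by
      rw [Finset.prod_comm]
      apply Finset.prod_eq_one
      intro k _
      have : ∀ ρ : ↥R, ψ (iK k * iR ρ * (iK k)⁻¹) v = ψ (iK k) (ψ (iR ρ) (ψ ((iK k)⁻¹) v)) := by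
        intro ρ; rw [map_mul, map_mul]; rfl
      simp_rw [this]
      rw [← map_prod, hNR, map_one]
    have h2 : ∏ ρ : ↥R, ∏ k : ↥K, ψ (iK k * iR ρ * (iK k)⁻¹) v = v ^ Fintype.card ↥K := by
      rw [Finset.prod_eq_single (1 : ↥R)]
      · have h1R : iR 1 = 1 := rfl
        simp [h1R]
      · intro ρ _ hρ
        -- bijection k ↦ k ρ k⁻¹ ρ⁻¹
        have hmem : ∀ k : ↥K, (k : Q) * ρ * (k : Q)⁻¹ * (ρ : Q)⁻¹ ∈ K := by
          intro k
          have h3 : (ρ : Q) * (k : Q)⁻¹ * (ρ : Q)⁻¹ ∈ K :=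
            (Subgroup.mem_normalizer_iff.mp (hRK ρ.2) _).mp (K.inv_mem k.2)
          have : (k : Q) * ρ * (k : Q)⁻¹ * (ρ : Q)⁻¹ = k * (ρ * (k : Q)⁻¹ * (ρ : Q)⁻¹) := by group
          rw [this]; exact K.mul_mem k.2 h3
        let β : ↥K → ↥K := fun k => ⟨(k : Q) * ρ * (k : Q)⁻¹ * (ρ : Q)⁻¹, hmem k⟩
        have hβinj : Function.Injective β := by
          intro a b hab
          have h3 : (a : Q) * ρ * (a : Q)⁻¹ * (ρ : Q)⁻¹ = (b : Q) * ρ * (b : Q)⁻¹ * (ρ : Q)⁻¹ :=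
            congrArg (fun z : ↥K => (z : Q)) hab
          have h4 : ((b : Q)⁻¹ * a) * ρ = ρ * ((b : Q)⁻¹ * a) := by
            have h5 : (a : Q) * ρ * (a : Q)⁻¹ = (b : Q) * ρ * (b : Q)⁻¹ := by
              simpa using h3
            calc ((b : Q)⁻¹ * a) * ρ = (b : Q)⁻¹ * ((a : Q) * ρ * (a : Q)⁻¹) * a := by group
              _ = (b : Q)⁻¹ * ((b : Q) * ρ * (b : Q)⁻¹) * a := by rw [h5]
              _ = ρ * ((b : Q)⁻¹ * a) := by group
          have hρ1 : (ρ : Q) ≠ 1 := fun h => hρ (Subtype.ext h)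
          have h6 := hfpf ρ ρ.2 hρ1 ((b : Q)⁻¹ * a) (K.mul_mem (K.inv_mem b.2) a.2) h4
          apply Subtype.ext
          have : (a : Q) = b * ((b : Q)⁻¹ * a) := by group
          rw [this, h6, mul_one]
        have hβbij : Function.Bijective β := Finite.injective_iff_bijective.mp hβinj
        have h7 : ∀ k : ↥K, ψ (iK k * iR ρ * (iK k)⁻¹) v = ψ (iK (β k)) (ψ (iR ρ) v) := by
          intro k
          have : iK k * iR ρ * (iK k)⁻¹ = iK (β k) * iR ρ := by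
            apply Subtype.ext
            show (k : Q) * ρ * (k : Q)⁻¹ = (k : Q) * ρ * (k : Q)⁻¹ * (ρ : Q)⁻¹ * ρ
            group
          rw [this, map_mul]; rfl
        simp_rw [h7]
        rw [Fintype.prod_bijective β hβbij (fun k => ψ (iK (β k)) (ψ (iR ρ) v))
          (fun k' => ψ (iK k') (ψ (iR ρ) v)) (fun k => rfl)]
        exact hNK _
      · intro h; exact absurd (Finset.mem_univ _) h
    have h3 : v ^ Fintype.card ↥K = 1 := by rw [← h2, h1]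
    have h4 : orderOf v ∣ Nat.card ↥K := by
      rw [Nat.card_eq_fintype_card]; exact orderOf_dvd_of_pow_eq_one h3
    have h5 : orderOf v ∣ Nat.card ↥V := orderOf_dvd_natCard v
    have h6 : orderOf v = 1 := Nat.eq_one_of_dvd_coprimes hcop h4 h5
    exact orderOf_eq_one_iff.mp h6
  rw [Subgroup.eq_bot_iff_forall]
  intro x hx
  exact congrArg (fun z : ↥V => (z : Q)) (hv ⟨x, hx⟩)

/-- An element normalizing `A` and `B` normalizes `A ⊓ C(B)`. -/
theorem normalizer_inf_centralizer {Q : Type*} [Group Q] (A B : Subgroup Q) {g : Q}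
    (hA : g ∈ Subgroup.normalizer (A : Set Q)) (hB : g ∈ Subgroup.normalizer (B : Set Q)) :
    g ∈ Subgroup.normalizer ((A ⊓ Subgroup.centralizer (B : Set Q) : Subgroup Q) : Set Q) := by
  have key : ∀ g : Q, g ∈ Subgroup.normalizer (A : Set Q) → g ∈ Subgroup.normalizer (B : Set Q) →
      ∀ h, h ∈ A ⊓ Subgroup.centralizer (B : Set Q) →
        g * h * g⁻¹ ∈ A ⊓ Subgroup.centralizer (B : Set Q) := by
    intro g hA hB h hh
    refine Subgroup.mem_inf.mpr ⟨(Subgroup.mem_normalizer_iff.mp hA h).mp hh.1, ?_⟩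
    rw [Subgroup.mem_centralizer_iff]
    intro b hb
    have h1 : g⁻¹ * b * g ∈ B := (Subgroup.mem_normalizer_iff''.mp hB b).mp hb
    have h2 := Subgroup.mem_centralizer_iff.mp hh.2 _ h1
    calc b * (g * h * g⁻¹) = g * ((g⁻¹ * b * g) * h) * g⁻¹ := by group
      _ = g * (h * (g⁻¹ * b * g)) * g⁻¹ := by rw [h2]
      _ = g * h * g⁻¹ * b := by group
  rw [Subgroup.mem_normalizer_iff]
  intro h
  constructor
  · exact key g hA hB h
  · intro hh
    have h3 := key g⁻¹ (Subgroup.inv_mem _ hA) (Subgroup.inv_mem _ hB) _ hh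
    have e : g⁻¹ * (g * h * g⁻¹) * g⁻¹⁻¹ = h := by group
    rwa [e] at h3

/-- The Frobenius fixed point lemma modulo a central subgroup `P`. -/
theorem le_of_frob_mod {G : Type*} [Group G] [Finite G] {p : ℕ} [hp : Fact p.Prime]
    (Ω K R P : Subgroup G) (hΩ : IsPGroup p Ω) (hPΩ : P ≤ Ω)
    (hΩP : Ω ≤ Subgroup.centralizer (P : Set G))
    (hKΩ : K ≤ Subgroup.normalizer (Ω : Set G)) (hRΩ : R ≤ Subgroup.normalizer (Ω : Set G))
    (hKP : K ≤ Subgroup.centralizer (P : Set G)) (hRP : R ≤ Subgroup.centralizer (P : Set G))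
    (hRK : R ≤ Subgroup.normalizer (K : Set G))
    (hfpf : ∀ ρ ∈ R, ρ ≠ 1 → ∀ k ∈ K, k * ρ = ρ * k → k = 1)
    (hcK : (Nat.card K).Coprime p) (hcR : (Nat.card R).Coprime p)
    (hCK : Ω ⊓ Subgroup.centralizer (K : Set G) ≤ P)
    (hCR : Ω ⊓ Subgroup.centralizer (R : Set G) ≤ P) : Ω ≤ P := by
  classical
  by_contra hnot
  obtain ⟨u, huΩ, huP⟩ := SetLike.not_le_iff_exists.mp hnot
  have hcn : Subgroup.centralizer (P : Set G) ≤ Subgroup.normalizer (P : Set G) :=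
    Subgroup.centralizer_le_normalizer _
  have hΩN : Ω ≤ Subgroup.normalizer (P : Set G) := hΩP.trans hcn
  have hKN : K ≤ Subgroup.normalizer (P : Set G) := hKP.trans hcn
  have hRN : R ≤ Subgroup.normalizer (P : Set G) := hRP.trans hcn
  have hPp : IsPGroup p P := hΩ.to_le hPΩ
  obtain ⟨m, hm⟩ := IsPGroup.iff_card.mp hPp
  haveI : Group.IsNilpotent ↥P := hPp.isNilpotent
  have hPsolv : Group.IsSolvable ↥P := inferInstance
  -- the quotient
  let N : Subgroup G := Subgroup.normalizer (P : Set G)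
  let P' : Subgroup ↥N := P.subgroupOf N
  haveI : P'.Normal := Subgroup.normal_in_normalizer
  let π : ↥N →* ↥N ⧸ P' := QuotientGroup.mk' P'
  have hπ1 : ∀ (x : G) (hx : x ∈ N), π ⟨x, hx⟩ = 1 ↔ x ∈ P := by
    intro x hx
    rw [QuotientGroup.mk'_apply, QuotientGroup.eq_one_iff]; exact Subgroup.mem_subgroupOf
  let img : Subgroup G → Subgroup (↥N ⧸ P') := fun X => (X.subgroupOf N).map π
  have himg : ∀ (X : Subgroup G) (y : ↥N ⧸ P'),
      y ∈ img X ↔ ∃ x, ∃ hx : x ∈ N, x ∈ X ∧ π ⟨x, hx⟩ = y := by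
    intro X y
    constructor
    · rintro ⟨z, hz, rfl⟩
      exact ⟨z.1, z.2, Subgroup.mem_subgroupOf.mp hz, rfl⟩
    · rintro ⟨x, hx, hxX, rfl⟩
      exact ⟨⟨x, hx⟩, Subgroup.mem_subgroupOf.mpr hxX, rfl⟩
  have hnorm : ∀ X W : Subgroup G, X ≤ N → X ≤ Subgroup.normalizer (W : Set G) →
      img X ≤ Subgroup.normalizer ((img W : Subgroup (↥N ⧸ P')) : Set (↥N ⧸ P')) := by
    intro X W _ hXW
    rw [Subgroup.le_normalizer_iff]
    intro y hy w hw
    obtain ⟨x, hxN, hxX, rfl⟩ := (himg X y).mp hy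
    obtain ⟨w0, hwN, hwW, rfl⟩ := (himg W w).mp hw
    refine (himg W _).mpr ⟨x * w0 * x⁻¹, N.mul_mem (N.mul_mem hxN hwN) (N.inv_mem hxN),
      (Subgroup.mem_normalizer_iff.mp (hXW hxX) w0).mp hwW, ?_⟩
    rw [← map_inv, ← map_mul, ← map_mul]; rfl
  have hKP1 : ∀ x ∈ K, x ∈ P → x = 1 := by
    intro x hxK hxP
    obtain ⟨j, hj⟩ := hPp ⟨x, hxP⟩
    have h1 : x ^ p ^ j = 1 := by simpa using congrArg Subtype.val hj
    have h2 : orderOf x ∣ p ^ j := orderOf_dvd_of_pow_eq_one h1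
    have h3 : orderOf x ∣ Nat.card K := by
      have := orderOf_dvd_natCard (⟨x, hxK⟩ : ↥K)
      rwa [Subgroup.orderOf_mk] at this
    exact orderOf_eq_one_iff.mp (Nat.eq_one_of_dvd_coprimes (hcK.pow_right j) h3 h2)
  let V : Subgroup (↥N ⧸ P') := img Ω ⊓ Subgroup.centralizer ((img Ω : Subgroup (↥N ⧸ P')) : Set (↥N ⧸ P'))
  have hΩb : IsPGroup p ↥(img Ω) := (hΩ.comap_subtype).map π
  have hVbot : V = ⊥ := by
    apply frob_fixed V (img K) (img R)
    · intro a ha b hb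
      exact (Subgroup.mem_centralizer_iff.mp (Subgroup.mem_inf.mp ha).2 b (Subgroup.mem_inf.mp hb).1).symm
    · intro y hy
      have h1 := hnorm K Ω hKN hKΩ hy
      exact normalizer_inf_centralizer _ _ h1 h1
    · intro y hy
      have h1 := hnorm R Ω hRN hRΩ hy
      exact normalizer_inf_centralizer _ _ h1 h1
    · exact hnorm R K hRN hRK
    · intro ρb hρb hρ1 kb hkb hcomm
      obtain ⟨ρ, hρN, hρR, rfl⟩ := (himg R ρb).mp hρb
      obtain ⟨k, hkN, hkK, rfl⟩ := (himg K kb).mp hkb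
      have hmemN : k * ρ * k⁻¹ * ρ⁻¹ ∈ N :=
        N.mul_mem (N.mul_mem (N.mul_mem hkN hρN) (N.inv_mem hkN)) (N.inv_mem hρN)
      have h2 : π ⟨k * ρ * k⁻¹ * ρ⁻¹, hmemN⟩ = 1 := by
        have : (⟨k * ρ * k⁻¹ * ρ⁻¹, hmemN⟩ : ↥N)
            = ⟨k, hkN⟩ * ⟨ρ, hρN⟩ * ⟨k, hkN⟩⁻¹ * ⟨ρ, hρN⟩⁻¹ := rfl
        rw [this, map_mul, map_mul, map_mul, map_inv, map_inv, hcomm]; group
      have h3 : k * ρ * k⁻¹ * ρ⁻¹ ∈ P := (hπ1 _ _).mp h2
      have h4 : k * ρ * k⁻¹ * ρ⁻¹ ∈ K := by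
        have h5 : ρ * k⁻¹ * ρ⁻¹ ∈ K :=
          (Subgroup.mem_normalizer_iff.mp (hRK hρR) _).mp (K.inv_mem hkK)
        have : k * ρ * k⁻¹ * ρ⁻¹ = k * (ρ * k⁻¹ * ρ⁻¹) := by group
        rw [this]; exact K.mul_mem hkK h5
      have h6 := hKP1 _ h4 h3
      have h7 : k * ρ = ρ * k := by
        calc k * ρ = (k * ρ * k⁻¹ * ρ⁻¹) * (ρ * k) := by group
          _ = ρ * k := by rw [h6, one_mul]
      have hρ1' : ρ ≠ 1 := by
        rintro rfl
        exact hρ1 (map_one π)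
      have hk1 := hfpf ρ hρR hρ1' k hkK h7
      subst hk1
      exact map_one π
    · obtain ⟨n, hn⟩ := IsPGroup.iff_card.mp (hΩb.to_le (inf_le_left : V ≤ img Ω))
      rw [hn]
      apply Nat.Coprime.pow_right
      have h1 : Nat.card ↥(img K) ∣ Nat.card ↥(K.subgroupOf N) :=
        Subgroup.card_dvd_of_surjective (π.subgroupMap (K.subgroupOf N))
          (MonoidHom.subgroupMap_surjective π _)
      have h2 : Nat.card ↥(K.subgroupOf N) = Nat.card ↥K :=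
        Nat.card_congr (Subgroup.subgroupOfEquivOfLe hKN).toEquiv
      rw [h2] at h1
      exact Nat.Coprime.coprime_dvd_left h1 hcK
    · intro v hvV hvK
      obtain ⟨x, hxN, hxΩ, rfl⟩ := (himg Ω v).mp (Subgroup.mem_inf.mp hvV).1
      have hg : ∀ a ∈ K, a * x * a⁻¹ * x⁻¹ ∈ P := by
        intro a ha
        have h1 := hvK (π ⟨a, hKN ha⟩) ((himg K _).mpr ⟨a, hKN ha, ha, rfl⟩)
        have hmemN : a * x * a⁻¹ * x⁻¹ ∈ N :=
          N.mul_mem (N.mul_mem (N.mul_mem (hKN ha) hxN) (N.inv_mem (hKN ha))) (N.inv_mem hxN)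
        have h2 : π ⟨a * x * a⁻¹ * x⁻¹, hmemN⟩ = 1 := by
          have : (⟨a * x * a⁻¹ * x⁻¹, hmemN⟩ : ↥N)
              = ⟨a, hKN ha⟩ * ⟨x, hxN⟩ * ⟨a, hKN ha⟩⁻¹ * ⟨x, hxN⟩⁻¹ := rfl
          rw [this, map_mul, map_mul, map_mul, map_inv, map_inv, h1]; group
        exact (hπ1 _ _).mp h2
      obtain ⟨c, hcK', hcx⟩ := Cfsg.Agent.Lib.helper1.coset_fixed K P hKN
        (by rw [hm]; exact hcK.pow_right m) (Or.inr hPsolv) x hg
      have hcΩ : c ∈ Ω := by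
        have : c = (c * x⁻¹) * x := by group
        rw [this]; exact Ω.mul_mem (hPΩ hcx) hxΩ
      have hcP : c ∈ P := hCK (Subgroup.mem_inf.mpr ⟨hcΩ, hcK'⟩)
      have hxP : x ∈ P := by
        have : x = (c * x⁻¹)⁻¹ * c := by group
        rw [this]; exact P.mul_mem (P.inv_mem hcx) hcP
      exact (hπ1 x hxN).mpr hxP
    · intro v hvV hvR
      obtain ⟨x, hxN, hxΩ, rfl⟩ := (himg Ω v).mp (Subgroup.mem_inf.mp hvV).1
      have hg : ∀ a ∈ R, a * x * a⁻¹ * x⁻¹ ∈ P := by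
        intro a ha
        have h1 := hvR (π ⟨a, hRN ha⟩) ((himg R _).mpr ⟨a, hRN ha, ha, rfl⟩)
        have hmemN : a * x * a⁻¹ * x⁻¹ ∈ N :=
          N.mul_mem (N.mul_mem (N.mul_mem (hRN ha) hxN) (N.inv_mem (hRN ha))) (N.inv_mem hxN)
        have h2 : π ⟨a * x * a⁻¹ * x⁻¹, hmemN⟩ = 1 := by
          have : (⟨a * x * a⁻¹ * x⁻¹, hmemN⟩ : ↥N)
              = ⟨a, hRN ha⟩ * ⟨x, hxN⟩ * ⟨a, hRN ha⟩⁻¹ * ⟨x, hxN⟩⁻¹ := rfl
          rw [this, map_mul, map_mul, map_mul, map_inv, map_inv, h1]; group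
        exact (hπ1 _ _).mp h2
      obtain ⟨c, hcR', hcx⟩ := Cfsg.Agent.Lib.helper1.coset_fixed R P hRN
        (by rw [hm]; exact hcR.pow_right m) (Or.inr hPsolv) x hg
      have hcΩ : c ∈ Ω := by
        have : c = (c * x⁻¹) * x := by group
        rw [this]; exact Ω.mul_mem (hPΩ hcx) hxΩ
      have hcP : c ∈ P := hCR (Subgroup.mem_inf.mpr ⟨hcΩ, hcR'⟩)
      have hxP : x ∈ P := by
        have : x = (c * x⁻¹)⁻¹ * c := by group
        rw [this]; exact P.mul_mem (P.inv_mem hcx) hcP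
      exact (hπ1 x hxN).mpr hxP
  -- but the centre of the image of Ω is nontrivial
  have hub : π ⟨u, hΩN huΩ⟩ ∈ img Ω := (himg Ω _).mpr ⟨u, hΩN huΩ, huΩ, rfl⟩
  have hub1 : π ⟨u, hΩN huΩ⟩ ≠ 1 := fun h => huP ((hπ1 u _).mp h)
  haveI : Nontrivial ↥(img Ω) :=
    ⟨⟨⟨_, hub⟩, 1, fun h => hub1 (congrArg Subtype.val h)⟩⟩
  haveI := hΩb.center_nontrivial
  obtain ⟨z, hz1⟩ := exists_ne (1 : Subgroup.center ↥(img Ω))
  have hzV : ((z : ↥(img Ω)) : ↥N ⧸ P') ∈ V := by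
    refine Subgroup.mem_inf.mpr ⟨(z : ↥(img Ω)).2, ?_⟩
    rw [Subgroup.mem_centralizer_iff]
    intro w hw
    have h1 := Subgroup.mem_center_iff.mp z.2 ⟨w, hw⟩
    exact congrArg Subtype.val h1
  rw [hVbot, Subgroup.mem_bot] at hzV
  apply hz1
  apply Subtype.ext; apply Subtype.ext
  exact hzV

/-- A `p`-subgroup (`p` odd) all of whose elements of order dividing `p` lie in a subgroup of
order `p` is cyclic. -/
theorem isCyclic_of_omega_le' {G : Type*} [Group G] [Finite G] (p : ℕ) [Fact p.Prime]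
    (hp : p ≠ 2) (H Z : Subgroup G) (hH : IsPGroup p H) (hZ : Nat.card Z = p)
    (hHZ : ∀ x ∈ H, x ^ p = 1 → x ∈ Z) : IsCyclic ↥H := by
  apply Cfsg.Agent.Lib.helper59.isCyclic_of_odd_of_uniqueOrderP hp (Nat.card H) H rfl hH
  intro L K hL hK
  have himg : ∀ L : Subgroup ↥H, Nat.card L = p → L.map H.subtype = Z := by
    intro L hL
    apply Subgroup.eq_of_le_of_card_ge
    · rintro _ ⟨x, hx, rfl⟩
      apply hHZ _ x.2
      have h1 : (⟨x, hx⟩ : L) ^ p = 1 := by rw [← hL]; exact pow_card_eq_one'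
      have h2 := congrArg (fun z : L => ((z : ↥H) : G)) h1
      simpa using h2
    · rw [Subgroup.card_map_of_injective H.subtype_injective, hL, hZ]
  exact Subgroup.map_injective H.subtype_injective ((himg L hL).trans (himg K hK).symm)

theorem isCyclic_of_le {G : Type*} [Group G] {A B : Subgroup G} (h : A ≤ B) (hB : IsCyclic ↥B) :
    IsCyclic ↥A :=
  isCyclic_of_injective (Subgroup.inclusion h) (Subgroup.inclusion_injective h)

/-- The elements of `A` of order dividing `p`, when they form a subgroup. -/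
def omegaSub {G : Type*} [Group G] (p : ℕ) (A : Subgroup G)
    (hmul : ∀ a ∈ A, ∀ b ∈ A, a ^ p = 1 → b ^ p = 1 → (a * b) ^ p = 1) : Subgroup G where
  carrier := {x | x ∈ A ∧ x ^ p = 1}
  one_mem' := ⟨A.one_mem, one_pow p⟩
  mul_mem' := fun {a b} ha hb => ⟨A.mul_mem ha.1 hb.1, hmul a ha.1 b hb.1 ha.2 hb.2⟩
  inv_mem' := fun {a} ha => ⟨A.inv_mem ha.1, by rw [inv_pow, ha.2, inv_one]⟩

theorem omegaSub_normalizer {G : Type*} [Group G] (p : ℕ) (A : Subgroup G)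
    (hmul : ∀ a ∈ A, ∀ b ∈ A, a ^ p = 1 → b ^ p = 1 → (a * b) ^ p = 1) {g : G}
    (hg : g ∈ Subgroup.normalizer (A : Set G)) :
    g ∈ Subgroup.normalizer ((omegaSub p A hmul : Subgroup G) : Set G) := by
  rw [Subgroup.mem_normalizer_iff]
  intro x
  constructor
  · rintro ⟨hxA, hxp⟩
    exact ⟨(Subgroup.mem_normalizer_iff.mp hg x).mp hxA, by rw [conj_pow, hxp]; group⟩
  · rintro ⟨hxA, hxp⟩
    refine ⟨(Subgroup.mem_normalizer_iff.mp hg x).mpr hxA, ?_⟩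
    rw [conj_pow] at hxp
    have : x ^ p = g⁻¹ * (g * x ^ p * g⁻¹) * g := by group
    rw [this, hxp]; group

/-- The elements of `T` whose commutators with `T` lie in the central subgroup `P`. -/
def commSub {G : Type*} [Group G] (T P : Subgroup G)
    (hTP : T ≤ Subgroup.centralizer (P : Set G)) : Subgroup G where
  carrier := {x | x ∈ T ∧ ∀ t ∈ T, x * t * x⁻¹ * t⁻¹ ∈ P}
  one_mem' := ⟨T.one_mem, fun t _ => by
    have : (1 : G) * t * 1⁻¹ * t⁻¹ = 1 := by group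
    rw [this]; exact P.one_mem⟩
  mul_mem' := by
    rintro a b ⟨haT, ha⟩ ⟨hbT, hb⟩
    refine ⟨T.mul_mem haT hbT, fun t ht => ?_⟩
    have h1 := hb t ht
    have h2 : a * (b * t * b⁻¹ * t⁻¹) = (b * t * b⁻¹ * t⁻¹) * a :=
      (Subgroup.mem_centralizer_iff.mp (hTP haT) _ h1).symm
    have h3 : a * b * t * (a * b)⁻¹ * t⁻¹
        = (a * (b * t * b⁻¹ * t⁻¹)) * a⁻¹ * (a * t * a⁻¹ * t⁻¹) := by group
    rw [h3, h2]
    have h4 : b * t * b⁻¹ * t⁻¹ * a * a⁻¹ * (a * t * a⁻¹ * t⁻¹)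
        = (b * t * b⁻¹ * t⁻¹) * (a * t * a⁻¹ * t⁻¹) := by group
    rw [h4]; exact P.mul_mem h1 (ha t ht)
  inv_mem' := by
    rintro a ⟨haT, ha⟩
    refine ⟨T.inv_mem haT, fun t ht => ?_⟩
    have h1 := ha t ht
    have h2 : a * (a * t * a⁻¹ * t⁻¹) = (a * t * a⁻¹ * t⁻¹) * a :=
      (Subgroup.mem_centralizer_iff.mp (hTP haT) _ h1).symm
    have h3 : a⁻¹ * t * a⁻¹⁻¹ * t⁻¹ = a⁻¹ * ((a * t * a⁻¹ * t⁻¹)⁻¹ * a) := by group
    have h5 : (a * t * a⁻¹ * t⁻¹)⁻¹ * a = a * (a * t * a⁻¹ * t⁻¹)⁻¹ := by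
      calc (a * t * a⁻¹ * t⁻¹)⁻¹ * a
          = (a * t * a⁻¹ * t⁻¹)⁻¹ * (a * (a * t * a⁻¹ * t⁻¹)) * (a * t * a⁻¹ * t⁻¹)⁻¹ := by group
        _ = (a * t * a⁻¹ * t⁻¹)⁻¹ * ((a * t * a⁻¹ * t⁻¹) * a) * (a * t * a⁻¹ * t⁻¹)⁻¹ := by
          rw [h2]
        _ = a * (a * t * a⁻¹ * t⁻¹)⁻¹ := by group
    rw [h3, h5]
    have h6 : a⁻¹ * (a * (a * t * a⁻¹ * t⁻¹)⁻¹) = (a * t * a⁻¹ * t⁻¹)⁻¹ := by group
    rw [h6]; exact P.inv_mem h1

theorem commSub_normalizer {G : Type*} [Group G] (T P : Subgroup G)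
    (hTP : T ≤ Subgroup.centralizer (P : Set G)) {g : G}
    (hgT : g ∈ Subgroup.normalizer (T : Set G)) (hgP : g ∈ Subgroup.centralizer (P : Set G)) :
    g ∈ Subgroup.normalizer ((commSub T P hTP : Subgroup G) : Set G) := by
  have key : ∀ g : G, g ∈ Subgroup.normalizer (T : Set G) →
      g ∈ Subgroup.centralizer (P : Set G) → ∀ x ∈ commSub T P hTP,
        g * x * g⁻¹ ∈ commSub T P hTP := by
    rintro g hgT hgP x ⟨hxT, hx⟩
    refine ⟨(Subgroup.mem_normalizer_iff.mp hgT x).mp hxT, fun t ht => ?_⟩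
    have h1 : g⁻¹ * t * g ∈ T := (Subgroup.mem_normalizer_iff''.mp hgT t).mp ht
    have h2 := hx _ h1
    have h3 := Subgroup.mem_centralizer_iff.mp hgP _ h2
    have h4 : g * x * g⁻¹ * t * (g * x * g⁻¹)⁻¹ * t⁻¹
        = g * (x * (g⁻¹ * t * g) * x⁻¹ * (g⁻¹ * t * g)⁻¹) * g⁻¹ := by group
    rw [h4, ← h3]
    have h5 : x * (g⁻¹ * t * g) * x⁻¹ * (g⁻¹ * t * g)⁻¹ * g * g⁻¹
        = x * (g⁻¹ * t * g) * x⁻¹ * (g⁻¹ * t * g)⁻¹ := by group
    rw [h5]; exact h2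
  rw [Subgroup.mem_normalizer_iff]
  intro h
  constructor
  · exact key g hgT hgP h
  · intro hh
    have h3 := key g⁻¹ (Subgroup.inv_mem _ hgT) (Subgroup.inv_mem _ hgP) _ hh
    have e : g⁻¹ * (g * h * g⁻¹) * g⁻¹⁻¹ = h := by group
    rwa [e] at h3

theorem conj_pow_of_comm {G : Type*} [Group G] {x t ζ : G} (h : x * t * x⁻¹ = ζ * t)
    (hζ : x * ζ = ζ * x) (m : ℕ) : x ^ m * t * (x ^ m)⁻¹ = ζ ^ m * t := by
  induction m with
  | zero => simp
  | succ m ih =>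
    have hc : x * ζ ^ m = ζ ^ m * x := (show Commute x ζ from hζ).pow_right m
    calc x ^ (m + 1) * t * (x ^ (m + 1))⁻¹ = x * (x ^ m * t * (x ^ m)⁻¹) * x⁻¹ := by
          rw [pow_succ']; group
      _ = x * (ζ ^ m * t) * x⁻¹ := by rw [ih]
      _ = (x * ζ ^ m) * (t * x⁻¹) := by group
      _ = ζ ^ m * x * (t * x⁻¹) := by rw [hc]
      _ = ζ ^ m * (x * t * x⁻¹) := by group
      _ = ζ ^ (m + 1) * t := by rw [h, pow_succ]; group

/-- A nonabelian `p`-group has a noncentral element whose commutators are central. -/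
theorem exists_second_center {G : Type*} [Group G] [Finite G] {p : ℕ} [Fact p.Prime]
    (T : Subgroup G) (hT : IsPGroup p T) (hnab : ¬ ∀ a ∈ T, ∀ b ∈ T, a * b = b * a) :
    ∃ x ∈ T, (∃ t ∈ T, x * t ≠ t * x) ∧
      ∀ t ∈ T, ∀ s ∈ T, (x * t * x⁻¹ * t⁻¹) * s = s * (x * t * x⁻¹ * t⁻¹) := by
  classical
  haveI : Nontrivial (↥T ⧸ Subgroup.center ↥T) := by
    by_contra h
    rw [not_nontrivial_iff_subsingleton] at h
    apply hnab
    intro a ha b hb
    have h1 : (⟨a, ha⟩ : ↥T) ∈ Subgroup.center ↥T := by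
      rw [← QuotientGroup.eq_one_iff]; exact Subsingleton.elim _ _
    have h2 := Subgroup.mem_center_iff.mp h1 ⟨b, hb⟩
    exact (congrArg Subtype.val h2).symm
  have hq : IsPGroup p (↥T ⧸ Subgroup.center ↥T) := hT.to_quotient _
  haveI := hq.center_nontrivial
  obtain ⟨zb, hzb⟩ := exists_ne (1 : Subgroup.center (↥T ⧸ Subgroup.center ↥T))
  obtain ⟨x, hx⟩ := QuotientGroup.mk_surjective (zb : ↥T ⧸ Subgroup.center ↥T)
  refine ⟨x.1, x.2, ?_, ?_⟩
  · by_contra hall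
    push Not at hall
    apply hzb
    apply Subtype.ext
    rw [← hx]
    show ((x : ↥T) : ↥T ⧸ Subgroup.center ↥T) = 1
    rw [QuotientGroup.eq_one_iff, Subgroup.mem_center_iff]
    intro g
    exact Subtype.ext (hall g.1 g.2).symm
  · intro t ht s hs
    have hmem : x.1 * t * x.1⁻¹ * t⁻¹ ∈ T :=
      T.mul_mem (T.mul_mem (T.mul_mem x.2 ht) (T.inv_mem x.2)) (T.inv_mem ht)
    have h1 : (⟨x.1 * t * x.1⁻¹ * t⁻¹, hmem⟩ : ↥T) ∈ Subgroup.center ↥T := by
      rw [← QuotientGroup.eq_one_iff]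
      have e : (⟨x.1 * t * x.1⁻¹ * t⁻¹, hmem⟩ : ↥T) = x * ⟨t, ht⟩ * x⁻¹ * ⟨t, ht⟩⁻¹ := rfl
      rw [e, QuotientGroup.mk_mul, QuotientGroup.mk_mul, QuotientGroup.mk_mul,
        QuotientGroup.mk_inv, QuotientGroup.mk_inv, hx]
      have hc := Subgroup.mem_center_iff.mp zb.2
        (QuotientGroup.mk (⟨t, ht⟩ : ↥T) : ↥T ⧸ Subgroup.center ↥T)
      rw [← hc]; group
    have h2 := Subgroup.mem_center_iff.mp h1 ⟨s, hs⟩
    exact (congrArg Subtype.val h2).symm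

/-- Lifting the exponent: `j ^ p ≡ 1 mod p ^ m` forces `j ≡ 1 mod p ^ (m - 1)` for odd `p`. -/
theorem modEq_one_of_pow_prime {p : ℕ} (hp : p.Prime) (hp2 : p ≠ 2) {j m : ℕ} (hm : 1 ≤ m)
    (h : j ^ p ≡ 1 [MOD p ^ m]) : j ≡ 1 [MOD p ^ (m - 1)] := by
  haveI : Fact p.Prime := ⟨hp⟩
  have hodd : Odd p := hp.odd_of_ne_two hp2
  have h0 : j ^ p ≡ 1 [MOD p] := Nat.ModEq.of_dvd (dvd_pow_self p (by omega)) h
  have hj1 : (j : ZMod p) = 1 := by
    have h1 := (ZMod.natCast_eq_natCast_iff _ _ _).mpr h0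
    push_cast at h1
    rwa [ZMod.pow_card] at h1
  have hj1' : j ≡ 1 [MOD p] := by
    apply (ZMod.natCast_eq_natCast_iff _ _ _).mp
    rw [hj1]; simp
  have hxy : (p : ℤ) ∣ (j : ℤ) - 1 := by
    have := (Nat.modEq_iff_dvd.mp hj1'.symm)
    simpa using this
  have hx : ¬ (p : ℤ) ∣ (j : ℤ) := by
    intro hd
    have h1 : (p : ℤ) ∣ 1 := by
      have := dvd_sub hd hxy
      simpa using this
    have h2 : p ∣ 1 := by exact_mod_cast h1
    exact hp.one_lt.ne' (Nat.dvd_one.mp h2)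
  have hlte := Int.emultiplicity_pow_sub_pow hp hodd hxy hx p
  rw [one_pow, hp.emultiplicity_self] at hlte
  have hdvd : (p : ℤ) ^ m ∣ (j : ℤ) ^ p - 1 := by
    have := (Nat.modEq_iff_dvd.mp h.symm)
    simpa using this
  have hle : (m : ℕ∞) ≤ emultiplicity (p : ℤ) ((j : ℤ) - 1) + 1 := by
    rw [← hlte]; exact le_emultiplicity_of_pow_dvd hdvd
  have hle' : ((m - 1 : ℕ) : ℕ∞) ≤ emultiplicity (p : ℤ) ((j : ℤ) - 1) := by
    by_cases htop : emultiplicity (p : ℤ) ((j : ℤ) - 1) = ⊤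
    · rw [htop]; exact le_top
    · obtain ⟨e, he⟩ := ENat.ne_top_iff_exists.mp htop
      rw [← he] at hle ⊢
      have h4 : m ≤ e + 1 := by exact_mod_cast hle
      have h5 : m - 1 ≤ e := by omega
      exact_mod_cast h5
  have hd2 : (p : ℤ) ^ (m - 1) ∣ (j : ℤ) - 1 := pow_dvd_of_le_emultiplicity hle'
  apply Nat.ModEq.symm
  apply (Nat.modEq_iff_dvd).mpr
  simpa using hd2

/-- The key claim: an invariant subgroup of exponent `p` containing `P` equals `P`. -/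
theorem omega_le {G : Type*} [Group G] [Finite G] {p : ℕ} [hp : Fact p.Prime]
    (K R P : Subgroup G)
    (hRK : R ≤ Subgroup.normalizer (K : Set G))
    (hfpf : ∀ ρ ∈ R, ρ ≠ 1 → ∀ k ∈ K, k * ρ = ρ * k → k = 1)
    (hcK : (Nat.card K).Coprime p) (hcR : (Nat.card R).Coprime p)
    (hPc : Nat.card P = p)
    (hKP : K ≤ Subgroup.centralizer (P : Set G)) (hRP : R ≤ Subgroup.centralizer (P : Set G))
    (T : Subgroup G) (hT : IsPGroup p T) (hTP : T ≤ Subgroup.centralizer (P : Set G))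
    (hCK : IsCyclic ↥(T ⊓ Subgroup.centralizer (K : Set G)))
    (hCR : IsCyclic ↥(T ⊓ Subgroup.centralizer (R : Set G)))
    (Ω : Subgroup G) (hΩT : Ω ≤ T) (hPΩ : P ≤ Ω)
    (hKΩ : K ≤ Subgroup.normalizer (Ω : Set G)) (hRΩ : R ≤ Subgroup.normalizer (Ω : Set G))
    (hexp : ∀ x ∈ Ω, x ^ p = 1) : Ω ≤ P := by
  have aux : ∀ X : Subgroup G, IsCyclic ↥(T ⊓ Subgroup.centralizer (X : Set G)) →
      X ≤ Subgroup.centralizer (P : Set G) → Ω ⊓ Subgroup.centralizer (X : Set G) ≤ P := by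
    intro X hcyc hXP
    have hAle : Ω ⊓ Subgroup.centralizer (X : Set G) ≤ T ⊓ Subgroup.centralizer (X : Set G) :=
      inf_le_inf_right _ hΩT
    haveI : IsCyclic ↥(Ω ⊓ Subgroup.centralizer (X : Set G)) := isCyclic_of_le hAle hcyc
    have hcard : Nat.card ↥(Ω ⊓ Subgroup.centralizer (X : Set G)) ≤ p := by
      obtain ⟨g, hg⟩ := IsCyclic.exists_generator (α := ↥(Ω ⊓ Subgroup.centralizer (X : Set G)))
      rw [← orderOf_eq_card_of_forall_mem_zpowers hg]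
      apply Nat.le_of_dvd hp.out.pos
      apply orderOf_dvd_of_pow_eq_one
      exact Subtype.ext (hexp g.1 (Subgroup.mem_inf.mp g.2).1)
    have hPA : P ≤ Ω ⊓ Subgroup.centralizer (X : Set G) :=
      le_inf hPΩ (Subgroup.le_centralizer_iff.mp hXP)
    have heq : P = Ω ⊓ Subgroup.centralizer (X : Set G) :=
      Subgroup.eq_of_le_of_card_ge hPA (by rw [hPc]; exact hcard)
    exact heq ▸ le_rfl
  exact le_of_frob_mod Ω K R P (hT.to_le hΩT) hPΩ (hΩT.trans hTP) hKΩ hRΩ hKP hRP hRK hfpf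
    hcK hcR (aux K hCK hKP) (aux R hCR hRP)

/-- **Lemma P.** A group `K R` (`R` acting fixed-point-freely on `K`) acting on a `p`-group `T`,
`p` odd, with a fixed central subgroup `P` of order `p` and cyclic centralizers `C_T(K)`,
`C_T(R)`: then `T` is cyclic. -/
theorem frob_cyclic {G : Type*} [Group G] [Finite G] {p : ℕ} [hp : Fact p.Prime] (hp2 : p ≠ 2)
    (K R P : Subgroup G)
    (hRK : R ≤ Subgroup.normalizer (K : Set G))
    (hfpf : ∀ ρ ∈ R, ρ ≠ 1 → ∀ k ∈ K, k * ρ = ρ * k → k = 1)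
    (hcK : (Nat.card K).Coprime p) (hcR : (Nat.card R).Coprime p)
    (hPc : Nat.card P = p)
    (hKP : K ≤ Subgroup.centralizer (P : Set G)) (hRP : R ≤ Subgroup.centralizer (P : Set G)) :
    ∀ (n : ℕ) (T : Subgroup G), Nat.card T = n → IsPGroup p T →
      K ≤ Subgroup.normalizer (T : Set G) → R ≤ Subgroup.normalizer (T : Set G) →
      P ≤ T → T ≤ Subgroup.centralizer (P : Set G) →
      IsCyclic ↥(T ⊓ Subgroup.centralizer (K : Set G)) →
      IsCyclic ↥(T ⊓ Subgroup.centralizer (R : Set G)) → IsCyclic ↥T := by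
  intro n
  induction n using Nat.strong_induction_on with
  | _ n ih =>
  intro T hTn hT hKT hRT hPT hTP hCK hCR
  classical
  have keyK : ∀ Ω : Subgroup G, Ω ≤ T → P ≤ Ω → K ≤ Subgroup.normalizer (Ω : Set G) →
      R ≤ Subgroup.normalizer (Ω : Set G) → (∀ x ∈ Ω, x ^ p = 1) → Ω ≤ P :=
    fun Ω h1 h2 h3 h4 h5 =>
      omega_le K R P hRK hfpf hcK hcR hPc hKP hRP T hT hTP hCK hCR Ω h1 h2 h3 h4 h5
  have hPexp : ∀ x ∈ P, x ^ p = 1 := by
    intro x hx
    have h1 : (⟨x, hx⟩ : ↥P) ^ Nat.card ↥P = 1 := pow_card_eq_one'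
    rw [hPc] at h1
    simpa using congrArg Subtype.val h1
  have hcommTP : ∀ t ∈ T, ∀ z ∈ P, t * z = z * t :=
    fun t ht z hz => (Subgroup.mem_centralizer_iff.mp (hTP ht) z hz).symm
  have hPcT : P ≤ Subgroup.centralizer (T : Set G) := Subgroup.le_centralizer_iff.mp hTP
  by_cases hab : ∀ a ∈ T, ∀ b ∈ T, a * b = b * a
  · -- abelian case
    have hmul : ∀ a ∈ T, ∀ b ∈ T, a ^ p = 1 → b ^ p = 1 → (a * b) ^ p = 1 :=
      fun a ha b hb h1 h2 => by
        rw [(show Commute a b from hab a ha b hb).mul_pow, h1, h2, one_mul]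
    have hΩP : omegaSub p T hmul ≤ P :=
      keyK (omegaSub p T hmul) (fun x hx => hx.1) (fun x hx => ⟨hPT hx, hPexp x hx⟩)
        (fun k hk => omegaSub_normalizer p T hmul (hKT hk))
        (fun k hk => omegaSub_normalizer p T hmul (hRT hk)) (fun x hx => hx.2)
    exact isCyclic_of_omega_le' p hp2 T P hT hPc (fun x hx hxp => hΩP ⟨hx, hxp⟩)
  · exfalso
    -- central elements of order p lie in P
    have hZab : ∀ a ∈ T ⊓ Subgroup.centralizer (T : Set G),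
        ∀ b ∈ T ⊓ Subgroup.centralizer (T : Set G), a * b = b * a :=
      fun a ha b hb => (Subgroup.mem_centralizer_iff.mp ha.2 b hb.1).symm
    have hmulZ : ∀ a ∈ T ⊓ Subgroup.centralizer (T : Set G),
        ∀ b ∈ T ⊓ Subgroup.centralizer (T : Set G), a ^ p = 1 → b ^ p = 1 → (a * b) ^ p = 1 :=
      fun a ha b hb h1 h2 => by
        rw [(show Commute a b from hZab a ha b hb).mul_pow, h1, h2, one_mul]
    have hZP : ∀ z ∈ T, (∀ t ∈ T, t * z = z * t) → z ^ p = 1 → z ∈ P := by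
      intro z hz hzc hzp
      exact keyK (omegaSub p _ hmulZ) (fun x hx => hx.1.1)
        (fun x hx => ⟨Subgroup.mem_inf.mpr ⟨hPT hx, hPcT hx⟩, hPexp x hx⟩)
        (fun k hk => omegaSub_normalizer p _ hmulZ
          (normalizer_inf_centralizer T T (hKT hk) (hKT hk)))
        (fun k hk => omegaSub_normalizer p _ hmulZ
          (normalizer_inf_centralizer T T (hRT hk) (hRT hk)))
        (fun x hx => hx.2)
        ⟨Subgroup.mem_inf.mpr ⟨hz, Subgroup.mem_centralizer_iff.mpr hzc⟩, hzp⟩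
    -- the subgroup Y
    have hYT : commSub T P hTP ≤ T := fun x hx => hx.1
    have hPY : P ≤ commSub T P hTP := fun x hx => ⟨hPT hx, fun t ht => by
      have h1 := hcommTP t ht x hx
      have e : x * t * x⁻¹ * t⁻¹ = 1 := by rw [← h1]; group
      rw [e]; exact P.one_mem⟩
    have hYK : K ≤ Subgroup.normalizer ((commSub T P hTP : Subgroup G) : Set G) :=
      fun k hk => commSub_normalizer T P hTP (hKT hk) (hKP hk)
    have hYR : R ≤ Subgroup.normalizer ((commSub T P hTP : Subgroup G) : Set G) :=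
      fun k hk => commSub_normalizer T P hTP (hRT hk) (hRP hk)
    have hccY : Cfsg.Agent.Lib.helper3.CommCentral ↥(commSub T P hTP) := by
      intro x y z
      apply Subtype.ext
      have h1 : ((⁅x, y⁆ : ↥(commSub T P hTP)) : G) ∈ P := by
        have h2 := x.2.2 (y : G) (hYT y.2)
        simpa [commutatorElement_def] using h2
      exact (hcommTP z (hYT z.2) _ h1).symm
    have hmulY : ∀ a ∈ commSub T P hTP, ∀ b ∈ commSub T P hTP,
        a ^ p = 1 → b ^ p = 1 → (a * b) ^ p = 1 := by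
      intro a ha b hb h1 h2
      have h3 := Cfsg.Agent.Lib.helper3.mul_pow_prime_eq_one_class2 hccY hp.out hp2
        (⟨a, ha⟩ : ↥(commSub T P hTP)) ⟨b, hb⟩ (Subtype.ext h1) (Subtype.ext h2)
      simpa using congrArg Subtype.val h3
    have hΩYP : ∀ x ∈ commSub T P hTP, x ^ p = 1 → x ∈ P := fun x hx hxp =>
      keyK (omegaSub p _ hmulY) (fun x hx => hYT hx.1) (fun x hx => ⟨hPY hx, hPexp x hx⟩)
        (fun k hk => omegaSub_normalizer p _ hmulY (hYK hk))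
        (fun k hk => omegaSub_normalizer p _ hmulY (hYR hk)) (fun x hx => hx.2) ⟨hx, hxp⟩
    have hYcyc : IsCyclic ↥(commSub T P hTP) :=
      isCyclic_of_omega_le' p hp2 _ P (hT.to_le hYT) hPc hΩYP
    have hYab : ∀ a ∈ commSub T P hTP, ∀ b ∈ commSub T P hTP, a * b = b * a :=
      Cfsg.Agent.Lib.helper59.comm_of_isCyclic_subgroup _ hYcyc
    -- a noncentral element of Y
    obtain ⟨x₀, hx₀T, ⟨t₁, ht₁T, hx₀t₁⟩, hx₀c⟩ := exists_second_center T hT hab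
    have hfin : ∃ i : ℕ, ∀ t ∈ T, x₀ ^ (p ^ i) * t = t * x₀ ^ (p ^ i) := by
      obtain ⟨k, hk⟩ := hT ⟨x₀, hx₀T⟩
      refine ⟨k, fun t _ => ?_⟩
      have h1 : x₀ ^ p ^ k = 1 := by simpa using congrArg Subtype.val hk
      rw [h1]; simp
    have h0 : Nat.find hfin ≠ 0 := by
      intro h
      have h1 := Nat.find_spec hfin
      rw [h] at h1
      simp only [pow_zero, pow_one] at h1
      exact hx₀t₁ (h1 t₁ ht₁T)
    obtain ⟨i, hi⟩ := Nat.exists_eq_succ_of_ne_zero h0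
    have hi1 : ¬ ∀ t ∈ T, x₀ ^ (p ^ i) * t = t * x₀ ^ (p ^ i) :=
      Nat.find_min hfin (by omega)
    have hi2 : ∀ t ∈ T, x₀ ^ (p ^ (i + 1)) * t = t * x₀ ^ (p ^ (i + 1)) := by
      have h1 := Nat.find_spec hfin
      rw [hi] at h1
      exact h1
    have hx'T : x₀ ^ (p ^ i) ∈ T := T.pow_mem hx₀T _
    have hx'Y : x₀ ^ (p ^ i) ∈ commSub T P hTP := by
      refine ⟨hx'T, fun t ht => ?_⟩
      have hζT : x₀ * t * x₀⁻¹ * t⁻¹ ∈ T :=
        T.mul_mem (T.mul_mem (T.mul_mem hx₀T ht) (T.inv_mem hx₀T)) (T.inv_mem ht)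
      have hζc : ∀ s ∈ T, (x₀ * t * x₀⁻¹ * t⁻¹) * s = s * (x₀ * t * x₀⁻¹ * t⁻¹) :=
        fun s hs => hx₀c t ht s hs
      have hconj : x₀ * t * x₀⁻¹ = (x₀ * t * x₀⁻¹ * t⁻¹) * t := by group
      have hxζ : x₀ * (x₀ * t * x₀⁻¹ * t⁻¹) = (x₀ * t * x₀⁻¹ * t⁻¹) * x₀ := (hζc x₀ hx₀T).symm
      have h1 := conj_pow_of_comm hconj hxζ (p ^ i)
      have h2 := conj_pow_of_comm hconj hxζ (p ^ (i + 1))
      have h3 : (x₀ * t * x₀⁻¹ * t⁻¹) ^ (p ^ (i + 1)) = 1 := by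
        have h4 := hi2 t ht
        have h5 : x₀ ^ (p ^ (i + 1)) * t * (x₀ ^ (p ^ (i + 1)))⁻¹ = t := by rw [h4]; group
        rw [h5] at h2
        have h6 : (1 : G) * t = (x₀ * t * x₀⁻¹ * t⁻¹) ^ (p ^ (i + 1)) * t := by rw [one_mul]; exact h2
        exact (mul_right_cancel h6).symm
      have h5 : x₀ ^ (p ^ i) * t * (x₀ ^ (p ^ i))⁻¹ * t⁻¹ = (x₀ * t * x₀⁻¹ * t⁻¹) ^ (p ^ i) := by
        rw [h1]; group
      rw [h5]
      apply hZP
      · exact T.pow_mem hζT _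
      · intro s hs
        exact ((show Commute s (x₀ * t * x₀⁻¹ * t⁻¹) from (hζc s hs).symm).pow_right _)
      · rw [← pow_mul, ← pow_succ]; exact h3
    push Not at hi1
    obtain ⟨t₀, ht₀T, hx't₀⟩ := hi1
    -- the centralizer of Y in T
    have ht₀ : t₀ ∉ T ⊓ Subgroup.centralizer ((commSub T P hTP : Subgroup G) : Set G) :=
      fun h => hx't₀ (Subgroup.mem_centralizer_iff.mp (Subgroup.mem_inf.mp h).2 _ hx'Y)
    have hT₂lt : Nat.card ↥(T ⊓ Subgroup.centralizer ((commSub T P hTP : Subgroup G) : Set G))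
        < n := by
      rw [← hTn]
      by_contra h
      have h1 : T ⊓ Subgroup.centralizer ((commSub T P hTP : Subgroup G) : Set G) = T :=
        Subgroup.eq_of_le_of_card_ge inf_le_left (not_lt.mp h)
      have h2 : t₀ ∈ T ⊓ Subgroup.centralizer ((commSub T P hTP : Subgroup G) : Set G) := by
        rw [h1]; exact ht₀T
      exact ht₀ h2
    have hPT₂ : P ≤ T ⊓ Subgroup.centralizer ((commSub T P hTP : Subgroup G) : Set G) :=
      le_inf hPT (Subgroup.le_centralizer_iff.mp (hYT.trans hTP))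
    have hT₂cyc : IsCyclic ↥(T ⊓ Subgroup.centralizer ((commSub T P hTP : Subgroup G) : Set G)) :=
      ih _ hT₂lt _ rfl (hT.to_le inf_le_left)
        (fun k hk => normalizer_inf_centralizer T _ (hKT hk) (hYK hk))
        (fun k hk => normalizer_inf_centralizer T _ (hRT hk) (hYR hk))
        hPT₂ (inf_le_left.trans hTP)
        (isCyclic_of_le (inf_le_inf_right _ inf_le_left) hCK)
        (isCyclic_of_le (inf_le_inf_right _ inf_le_left) hCR)
    have hYT₂ : commSub T P hTP ≤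
        T ⊓ Subgroup.centralizer ((commSub T P hTP : Subgroup G) : Set G) :=
      fun x hx => Subgroup.mem_inf.mpr ⟨hYT hx,
        Subgroup.mem_centralizer_iff.mpr (fun h hh => hYab h hh x hx)⟩
    have hT₂ab := Cfsg.Agent.Lib.helper59.comm_of_isCyclic_subgroup _ hT₂cyc
    -- generators
    obtain ⟨y, hyY, hy⟩ : ∃ y ∈ commSub T P hTP, ∀ x ∈ commSub T P hTP,
        x ∈ Subgroup.zpowers y := by
      obtain ⟨g, hg⟩ := hYcyc.exists_generator
      refine ⟨g.1, g.2, fun x hx => ?_⟩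
      obtain ⟨i, hi⟩ := Subgroup.mem_zpowers_iff.mp (hg ⟨x, hx⟩)
      exact Subgroup.mem_zpowers_iff.mpr ⟨i, by simpa using congrArg Subtype.val hi⟩
    obtain ⟨c, hcT₂, hc⟩ : ∃ c ∈ T ⊓ Subgroup.centralizer ((commSub T P hTP : Subgroup G) : Set G),
        ∀ x ∈ T ⊓ Subgroup.centralizer ((commSub T P hTP : Subgroup G) : Set G),
          x ∈ Subgroup.zpowers c := by
      obtain ⟨g, hg⟩ := hT₂cyc.exists_generator
      refine ⟨g.1, g.2, fun x hx => ?_⟩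
      obtain ⟨i, hi⟩ := Subgroup.mem_zpowers_iff.mp (hg ⟨x, hx⟩)
      exact Subgroup.mem_zpowers_iff.mpr ⟨i, by simpa using congrArg Subtype.val hi⟩
    -- the homomorphism s ↦ [y, s]
    have hψmem : ∀ s ∈ T, y * s * y⁻¹ * s⁻¹ ∈ P := fun s hs => hyY.2 s hs
    have hψmul : ∀ s ∈ T, ∀ s' ∈ T, y * (s * s') * y⁻¹ * (s * s')⁻¹
        = (y * s * y⁻¹ * s⁻¹) * (y * s' * y⁻¹ * s'⁻¹) := by
      intro s hs s' hs'
      have h1 := hcommTP s hs _ (hψmem s' hs')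
      calc y * (s * s') * y⁻¹ * (s * s')⁻¹
          = (y * s * y⁻¹ * s⁻¹) * (s * (y * s' * y⁻¹ * s'⁻¹)) * s⁻¹ := by group
        _ = (y * s * y⁻¹ * s⁻¹) * ((y * s' * y⁻¹ * s'⁻¹) * s) * s⁻¹ := by rw [h1]
        _ = (y * s * y⁻¹ * s⁻¹) * (y * s' * y⁻¹ * s'⁻¹) := by group
    have hψker : ∀ s ∈ T, y * s * y⁻¹ * s⁻¹ = 1 →
        s ∈ T ⊓ Subgroup.centralizer ((commSub T P hTP : Subgroup G) : Set G) := by
      intro s hs h
      have hys : y * s = s * y := by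
        calc y * s = (y * s * y⁻¹ * s⁻¹) * (s * y) := by group
          _ = s * y := by rw [h, one_mul]
      refine Subgroup.mem_inf.mpr ⟨hs, Subgroup.mem_centralizer_iff.mpr (fun x hx => ?_)⟩
      obtain ⟨i, rfl⟩ := Subgroup.mem_zpowers_iff.mp (hy x hx)
      exact ((show Commute y s from hys).zpow_left i)
    have hψt : y * t₀ * y⁻¹ * t₀⁻¹ ≠ 1 := fun h => ht₀ (hψker t₀ ht₀T h)
    have hw₀P : y * t₀ * y⁻¹ * t₀⁻¹ ∈ P := hψmem t₀ ht₀T
    have hPgen : ∀ z ∈ P, ∃ l : ℕ, z = (y * t₀ * y⁻¹ * t₀⁻¹) ^ l := by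
      intro z hz
      have h1 : Subgroup.zpowers (⟨y * t₀ * y⁻¹ * t₀⁻¹, hw₀P⟩ : ↥P) = ⊤ :=
        zpowers_eq_top_of_prime_card hPc (fun h => hψt (congrArg Subtype.val h))
      have h2 : (⟨z, hz⟩ : ↥P) ∈ Subgroup.zpowers (⟨y * t₀ * y⁻¹ * t₀⁻¹, hw₀P⟩ : ↥P) :=
        h1 ▸ Subgroup.mem_top _
      obtain ⟨l, hl⟩ := mem_powers_iff_mem_zpowers.mpr h2
      exact ⟨l, by simpa using (congrArg Subtype.val hl).symm⟩
    have hψpow : ∀ l : ℕ, y * t₀ ^ l * y⁻¹ * (t₀ ^ l)⁻¹ = (y * t₀ * y⁻¹ * t₀⁻¹) ^ l := by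
      intro l
      induction l with
      | zero => simp
      | succ l ihl =>
        rw [pow_succ, hψmul _ (T.pow_mem ht₀T l) _ ht₀T, ihl, pow_succ]
    have hdec : ∀ s ∈ T, ∃ l : ℕ, s * (t₀ ^ l)⁻¹ ∈
        T ⊓ Subgroup.centralizer ((commSub T P hTP : Subgroup G) : Set G) := by
      intro s hs
      obtain ⟨l, hl⟩ := hPgen _ (hψmem s hs)
      refine ⟨l, hψker _ (T.mul_mem hs (T.inv_mem (T.pow_mem ht₀T l))) ?_⟩
      have h1 := hψmul s hs _ (T.inv_mem (T.pow_mem ht₀T l))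
      have h2 := hψmul (t₀ ^ l) (T.pow_mem ht₀T l) _ (T.inv_mem (T.pow_mem ht₀T l))
      rw [mul_inv_cancel, hψpow l] at h2
      have h3 : y * (t₀ ^ l)⁻¹ * y⁻¹ * ((t₀ ^ l)⁻¹)⁻¹ = ((y * t₀ * y⁻¹ * t₀⁻¹) ^ l)⁻¹ := by
        have h4 : (y * t₀ * y⁻¹ * t₀⁻¹) ^ l * (y * (t₀ ^ l)⁻¹ * y⁻¹ * ((t₀ ^ l)⁻¹)⁻¹) = 1 := by
          rw [← h2]; group
        exact eq_inv_of_mul_eq_one_right h4
      rw [h1, h3, hl, mul_inv_cancel]
    have htp : t₀ ^ p ∈ T ⊓ Subgroup.centralizer ((commSub T P hTP : Subgroup G) : Set G) := by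
      apply hψker _ (T.pow_mem ht₀T p)
      rw [hψpow p]; exact hPexp _ hw₀P
    have hTnT₂ : ∀ s ∈ T, ∀ x ∈ T ⊓ Subgroup.centralizer ((commSub T P hTP : Subgroup G) : Set G),
        s * x * s⁻¹ ∈ T ⊓ Subgroup.centralizer ((commSub T P hTP : Subgroup G) : Set G) := by
      intro s hs x hx
      have h1 : s ∈ Subgroup.normalizer
          ((T ⊓ Subgroup.centralizer ((commSub T P hTP : Subgroup G) : Set G) : Subgroup G) : Set G) :=
        normalizer_inf_centralizer T _ (Subgroup.le_normalizer hs)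
          (commSub_normalizer T P hTP (Subgroup.le_normalizer hs) (hTP hs))
      exact (Subgroup.mem_normalizer_iff.mp h1 x).mp hx
    obtain ⟨j, hj⟩ : ∃ j : ℕ, t₀ * c * t₀⁻¹ = c ^ j := by
      have h1 := hc _ (hTnT₂ t₀ ht₀T c hcT₂)
      obtain ⟨j, hj⟩ := mem_powers_iff_mem_zpowers.mpr h1
      exact ⟨j, hj.symm⟩
    have hjn : ∀ n : ℕ, t₀ ^ n * c * (t₀ ^ n)⁻¹ = c ^ (j ^ n) := by
      intro n
      induction n with
      | zero => simp
      | succ n ihn =>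
        calc t₀ ^ (n + 1) * c * (t₀ ^ (n + 1))⁻¹ = t₀ * (t₀ ^ n * c * (t₀ ^ n)⁻¹) * t₀⁻¹ := by
              rw [pow_succ']; group
          _ = t₀ * c ^ (j ^ n) * t₀⁻¹ := by rw [ihn]
          _ = (t₀ * c * t₀⁻¹) ^ (j ^ n) := by rw [conj_pow]
          _ = c ^ (j ^ (n + 1)) := by rw [hj, ← pow_mul, pow_succ']
    have h8 : c ^ (j ^ p) = c ^ 1 := by
      rw [← hjn p, pow_one]
      have h := hT₂ab _ htp c hcT₂
      rw [h]; group
    have h9 : j ^ p ≡ 1 [MOD orderOf c] := pow_eq_pow_iff_modEq.mp h8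
    have hordc : orderOf c =
        Nat.card ↥(T ⊓ Subgroup.centralizer ((commSub T P hTP : Subgroup G) : Set G)) := by
      have h : Subgroup.zpowers c =
          T ⊓ Subgroup.centralizer ((commSub T P hTP : Subgroup G) : Set G) :=
        le_antisymm (Subgroup.zpowers_le.mpr hcT₂) hc
      rw [← h, Nat.card_zpowers]
    obtain ⟨m, hm⟩ := IsPGroup.iff_card.mp
      (hT.to_le (inf_le_left :
        T ⊓ Subgroup.centralizer ((commSub T P hTP : Subgroup G) : Set G) ≤ T))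
    have hm1 : 1 ≤ m := by
      by_contra h
      have hm0 : m = 0 := by omega
      subst hm0
      have h1 : Nat.card ↥P ≤
          Nat.card ↥(T ⊓ Subgroup.centralizer ((commSub T P hTP : Subgroup G) : Set G)) :=
        Subgroup.card_le_of_le hPT₂
      rw [hPc, hm, pow_zero] at h1
      have := hp.out.two_le
      omega
    rw [hordc, hm] at h9
    have h10 := modEq_one_of_pow_prime hp.out hp2 hm1 h9
    have hw : (t₀ * c * t₀⁻¹ * c⁻¹) ^ p = 1 := by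
      rw [hj]
      have hcomm : Commute (c ^ j) c⁻¹ := ((Commute.refl c).pow_left j).inv_right
      rw [hcomm.mul_pow, ← pow_mul, inv_pow]
      have h11 : j * p ≡ 1 * p [MOD p ^ (m - 1) * p] := Nat.ModEq.mul_right' p h10
      have h12 : p ^ (m - 1) * p = p ^ m := by
        rw [← pow_succ]; congr 1; omega
      rw [h12, one_mul] at h11
      have h13 : c ^ (j * p) = c ^ p := pow_eq_pow_iff_modEq.mpr (by rw [hordc, hm]; exact h11)
      rw [h13, mul_inv_cancel]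
    have hwT₂ : t₀ * c * t₀⁻¹ * c⁻¹ ∈
        T ⊓ Subgroup.centralizer ((commSub T P hTP : Subgroup G) : Set G) :=
      Subgroup.mul_mem _ (hTnT₂ t₀ ht₀T c hcT₂) (Subgroup.inv_mem _ hcT₂)
    have hmulT₂ : ∀ a ∈ T ⊓ Subgroup.centralizer ((commSub T P hTP : Subgroup G) : Set G),
        ∀ b ∈ T ⊓ Subgroup.centralizer ((commSub T P hTP : Subgroup G) : Set G),
          a ^ p = 1 → b ^ p = 1 → (a * b) ^ p = 1 :=
      fun a ha b hb h1 h2 => by
        rw [(show Commute a b from hT₂ab a ha b hb).mul_pow, h1, h2, one_mul]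
    have hwP : t₀ * c * t₀⁻¹ * c⁻¹ ∈ P :=
      keyK (omegaSub p _ hmulT₂) (fun x hx => (Subgroup.mem_inf.mp hx.1).1)
        (fun x hx => ⟨hPT₂ hx, hPexp x hx⟩)
        (fun k hk => omegaSub_normalizer p _ hmulT₂
          (normalizer_inf_centralizer T _ (hKT hk) (hYK hk)))
        (fun k hk => omegaSub_normalizer p _ hmulT₂
          (normalizer_inf_centralizer T _ (hRT hk) (hYR hk)))
        (fun x hx => hx.2) ⟨hwT₂, hw⟩
    have hall : ∀ x ∈ T ⊓ Subgroup.centralizer ((commSub T P hTP : Subgroup G) : Set G),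
        t₀ * x * t₀⁻¹ * x⁻¹ ∈ P := by
      intro x hx
      obtain ⟨i, rfl⟩ := Subgroup.mem_zpowers_iff.mp (hc x hx)
      have h1 : t₀ * c * t₀⁻¹ = (t₀ * c * t₀⁻¹ * c⁻¹) * c := by group
      have hwc : Commute (t₀ * c * t₀⁻¹ * c⁻¹) c :=
        (hcommTP c (Subgroup.mem_inf.mp hcT₂).1 _ hwP).symm
      have h2 : t₀ * c ^ i * t₀⁻¹ = (t₀ * c * t₀⁻¹ * c⁻¹) ^ i * c ^ i := by
        calc t₀ * c ^ i * t₀⁻¹ = (t₀ * c * t₀⁻¹) ^ i := conj_zpow.symm
          _ = ((t₀ * c * t₀⁻¹ * c⁻¹) * c) ^ i := congrArg (· ^ i) h1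
          _ = (t₀ * c * t₀⁻¹ * c⁻¹) ^ i * c ^ i := hwc.mul_zpow i
      have h3 : t₀ * c ^ i * t₀⁻¹ * (c ^ i)⁻¹ = (t₀ * c * t₀⁻¹ * c⁻¹) ^ i := by
        rw [h2]; group
      rw [h3]; exact P.zpow_mem hwP i
    have ht₀Y : t₀ ∈ commSub T P hTP := by
      refine ⟨ht₀T, fun s hs => ?_⟩
      obtain ⟨l, hl⟩ := hdec s hs
      have hu : (t₀ ^ l)⁻¹ * t₀⁻¹ * t₀ ^ l = t₀⁻¹ := by
        have hcm : Commute (t₀ ^ l) t₀ := (Commute.refl t₀).pow_left l
        calc (t₀ ^ l)⁻¹ * t₀⁻¹ * t₀ ^ l = (t₀ * t₀ ^ l)⁻¹ * t₀ ^ l := by group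
          _ = (t₀ ^ l * t₀)⁻¹ * t₀ ^ l := by rw [hcm.eq]
          _ = t₀⁻¹ := by group
      have h1 : t₀ * s * t₀⁻¹ * s⁻¹
          = t₀ * (s * (t₀ ^ l)⁻¹) * t₀⁻¹ * (s * (t₀ ^ l)⁻¹)⁻¹ := by
        calc t₀ * s * t₀⁻¹ * s⁻¹ = t₀ * s * ((t₀ ^ l)⁻¹ * t₀⁻¹ * t₀ ^ l) * s⁻¹ := by rw [hu]
          _ = t₀ * (s * (t₀ ^ l)⁻¹) * t₀⁻¹ * (s * (t₀ ^ l)⁻¹)⁻¹ := by group
      rw [h1]; exact hall _ hl
    exact ht₀ (hYT₂ ht₀Y)

/-- **Corollary P′ (Sylow form of Lemma P).** Let `K R` (`R` acting fixed-point-freely on `K`)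
act coprimely on a solvable group `Y`, centralizing a subgroup `P` of order `p` (`p` odd) which
is central in `Y`.  If the `p`-subgroups of `C_Y(K)` and of `C_Y(R)` are cyclic, then so are all
`p`-subgroups of `Y`. -/
theorem frob_sylow_cyclic {G : Type*} [Group G] [Finite G] {p : ℕ} [hp : Fact p.Prime]
    (hp2 : p ≠ 2) (Y K R P : Subgroup G)
    (hKY : K ≤ Subgroup.normalizer (Y : Set G)) (hRY : R ≤ Subgroup.normalizer (Y : Set G))
    (hRK : R ≤ Subgroup.normalizer (K : Set G))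
    (hfpf : ∀ ρ ∈ R, ρ ≠ 1 → ∀ k ∈ K, k * ρ = ρ * k → k = 1)
    (hcK : (Nat.card K).Coprime (Nat.card Y)) (hcR : (Nat.card R).Coprime (Nat.card Y))
    (hsolv : Group.IsSolvable ↥Y)
    (hPY : P ≤ Y) (hPc : Nat.card P = p) (hYP : Y ≤ Subgroup.centralizer (P : Set G))
    (hKP : K ≤ Subgroup.centralizer (P : Set G)) (hRP : R ≤ Subgroup.centralizer (P : Set G))
    (hCK : ∀ S : Subgroup G, S ≤ Y ⊓ Subgroup.centralizer (K : Set G) → IsPGroup p S →
      IsCyclic ↥S)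
    (hCR : ∀ S : Subgroup G, S ≤ Y ⊓ Subgroup.centralizer (R : Set G) → IsPGroup p S →
      IsCyclic ↥S) :
    ∀ S : Subgroup G, S ≤ Y → IsPGroup p S → IsCyclic ↥S := by
  have hAY : R ⊔ K ≤ Subgroup.normalizer (Y : Set G) := sup_le hRY hKY
  have hcard : Nat.card ↥(R ⊔ K) ∣ Nat.card R * Nat.card K :=
    Dvd.intro _ (helper13.card_sup_mul_card_inf R K hRK)
  have hcop : (Nat.card ↥(R ⊔ K)).Coprime (Nat.card Y) :=
    Nat.Coprime.coprime_dvd_left hcard (Nat.Coprime.mul_left hcR hcK)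
  have hPp : IsPGroup p P := IsPGroup.of_card (n := 1) (by rw [hPc, pow_one])
  have hAP : R ⊔ K ≤ Subgroup.normalizer (P : Set G) :=
    (sup_le hRP hKP).trans (Subgroup.centralizer_le_normalizer _)
  obtain ⟨P₀, hPP₀, hAP₀⟩ := helper1.exists_invariant_sylow_ge (p := p) (R ⊔ K) Y hAY hcop
    (Or.inr hsolv) P hPY hPp hAP
  have hTY : (P₀ : Subgroup Y).map Y.subtype ≤ Y := Subgroup.map_subtype_le _
  have hTp : IsPGroup p ↥((P₀ : Subgroup Y).map Y.subtype) := P₀.isPGroup'.map _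
  have hpY : p ∣ Nat.card Y := hPc ▸ Subgroup.card_dvd_of_le hPY
  have hTcyc : IsCyclic ↥((P₀ : Subgroup Y).map Y.subtype) :=
    frob_cyclic hp2 K R P hRK hfpf (Nat.Coprime.coprime_dvd_right hpY hcK)
      (Nat.Coprime.coprime_dvd_right hpY hcR) hPc hKP hRP _ _ rfl hTp
      (le_sup_right.trans hAP₀) (le_sup_left.trans hAP₀) hPP₀ (hTY.trans hYP)
      (hCK _ (inf_le_inf_right _ hTY) (hTp.to_le inf_le_left))
      (hCR _ (inf_le_inf_right _ hTY) (hTp.to_le inf_le_left))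
  have hP₀cyc : IsCyclic ↥(P₀ : Subgroup Y) :=
    isCyclic_of_injective
      ((Subgroup.equivMapOfInjective (P₀ : Subgroup Y) Y.subtype Y.subtype_injective).toMonoidHom)
      (Subgroup.equivMapOfInjective (P₀ : Subgroup Y) Y.subtype Y.subtype_injective).injective
  intro S hSY hSp
  have hS' : IsPGroup p ↥(S.subgroupOf Y) :=
    hSp.of_equiv (Subgroup.subgroupOfEquivOfLe hSY).symm
  obtain ⟨Q, hQ⟩ := hS'.exists_le_sylow
  have hQcyc : IsCyclic ↥(Q : Subgroup Y) :=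
    isCyclic_of_injective (Sylow.equiv Q P₀).toMonoidHom (Sylow.equiv Q P₀).injective
  have h1 : IsCyclic ↥(S.subgroupOf Y) := isCyclic_of_le hQ hQcyc
  exact isCyclic_of_injective (Subgroup.subgroupOfEquivOfLe hSY).symm.toMonoidHom
    (Subgroup.subgroupOfEquivOfLe hSY).symm.injective

end Cfsg.Agent.Lib.helper28.FrobCyc
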