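import Mathlib
import Cfsg.Prelude.Def_OddOrderLocal
import Cfsg.Agent.Lib.helper69.CoprimeAut

set_option autoImplicit false

namespace Cfsg.Agent.Lib.helper28

/-- In a group `R` with a cyclic normal subgroup `N` and cyclic quotient, every subgroup `Q` has
two elements `x`, `y` such that each of its elements is `y ^ k * x ^ j`. -/
theorem exists_two_gen_of_cyclic_ext {R : Type*} [Group R] (N : Subgroup R) [N.Normal]
    [IsCyclic ↥N] [IsCyclic (R ⧸ N)] (Q : Subgroup R) :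
    ∃ x ∈ Q, ∃ y ∈ Q, ∀ q ∈ Q, ∃ j k : ℤ, q = y ^ k * x ^ j := by
  haveI h1 : IsCyclic ↥(Q.subgroupOf N) := Subgroup.isCyclic _
  obtain ⟨g, hg⟩ := IsCyclic.exists_generator (α := ↥(Q.subgroupOf N))
  haveI h2 : IsCyclic ↥(Q.map (QuotientGroup.mk' N)) := Subgroup.isCyclic _
  obtain ⟨g', hg'⟩ := IsCyclic.exists_generator (α := ↥(Q.map (QuotientGroup.mk' N)))
  obtain ⟨y, hyQ, hy⟩ := Subgroup.mem_map.mp g'.2
  refine ⟨((g : ↥N) : R), Subgroup.mem_subgroupOf.mp g.2, y, hyQ, ?_⟩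
  intro q hq
  have hq' : QuotientGroup.mk' N q ∈ Q.map (QuotientGroup.mk' N) := Subgroup.mem_map_of_mem _ hq
  obtain ⟨k, hk⟩ := Subgroup.mem_zpowers_iff.mp (hg' ⟨_, hq'⟩)
  have hk' : (QuotientGroup.mk' N y) ^ k = QuotientGroup.mk' N q := by
    have h3 := congrArg Subtype.val hk
    rw [Subgroup.coe_zpow] at h3
    rw [hy]
    exact h3
  have hmem : (y ^ k)⁻¹ * q ∈ N := by
    rw [← QuotientGroup.eq]
    rw [← map_zpow] at hk'
    exact hk'
  have hmemQ : (y ^ k)⁻¹ * q ∈ Q := Q.mul_mem (Q.inv_mem (Q.zpow_mem hyQ k)) hq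
  obtain ⟨j, hj⟩ := Subgroup.mem_zpowers_iff.mp
    (hg ⟨⟨_, hmem⟩, Subgroup.mem_subgroupOf.mpr hmemQ⟩)
  refine ⟨j, k, ?_⟩
  have hj' : ((g : ↥N) : R) ^ j = (y ^ k)⁻¹ * q := by
    have h4 := congrArg (fun z : ↥(Q.subgroupOf N) => ((z : ↥N) : R)) hj
    simpa using h4
  rw [hj']
  group

/-- Every subgroup of a metacyclic subgroup `S` of `G` is generated by two elements, in normal
form. -/
theorem exists_two_gen_of_le_metacyclic {G : Type*} [Group G] (S : Subgroup G)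
    (hS : Cfsg.IsMetacyclic ↥S) (Q : Subgroup G) (hQS : Q ≤ S) :
    ∃ x ∈ Q, ∃ y ∈ Q, ∀ q ∈ Q, ∃ j k : ℤ, q = y ^ k * x ^ j := by
  obtain ⟨N, hN, hNc, hQc⟩ := hS
  haveI := hN
  haveI := hNc
  haveI := hQc
  obtain ⟨x, hx, y, hy, h⟩ := exists_two_gen_of_cyclic_ext N (Q.subgroupOf S)
  refine ⟨x, Subgroup.mem_subgroupOf.mp hx, y, Subgroup.mem_subgroupOf.mp hy, ?_⟩
  intro q hq
  obtain ⟨j, k, hjk⟩ := h ⟨q, hQS hq⟩ (Subgroup.mem_subgroupOf.mpr hq)
  refine ⟨j, k, ?_⟩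
  have h5 := congrArg Subtype.val hjk
  simpa using h5

/-- A `p`-subgroup generated by two elements (in normal form) has Frattini quotient of order
dividing `p ^ 2`. -/
theorem index_frattini_dvd_sq_of_two_gen {G : Type*} [Group G] [Finite G] {p : ℕ}
    [Fact p.Prime] (Q : Subgroup G) (hQ : IsPGroup p ↥Q) (x y : G) (hx : x ∈ Q) (hy : y ∈ Q)
    (h : ∀ q ∈ Q, ∃ j k : ℤ, q = y ^ k * x ^ j) : (frattini ↥Q).index ∣ p ^ 2 := by
  classical
  have hcl : Subgroup.closure ((({⟨x, hx⟩, ⟨y, hy⟩} : Finset ↥Q)) : Set ↥Q) = ⊤ := by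
    rw [eq_top_iff]
    rintro ⟨q, hq⟩ -
    obtain ⟨j, k, hjk⟩ := h q hq
    have h6 : (⟨q, hq⟩ : ↥Q) = (⟨y, hy⟩ : ↥Q) ^ k * (⟨x, hx⟩ : ↥Q) ^ j :=
      Subtype.ext (by simpa using hjk)
    rw [h6]
    exact Subgroup.mul_mem _
      (Subgroup.zpow_mem _ (Subgroup.subset_closure (by simp)) k)
      (Subgroup.zpow_mem _ (Subgroup.subset_closure (by simp)) j)
  have h1 := Cfsg.Agent.Lib.helper69.index_frattini_dvd_pow hQ _ hcl
  exact h1.trans (pow_dvd_pow p Finset.card_le_two)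

/-- A `p'`-element normalizing a subgroup `Q` of a metacyclic `p`-subgroup centralizes `Q` as
soon as one of its powers `g ^ m`, with `m` prime to `p ^ 2 - 1`, centralizes `Q`. -/
theorem mem_centralizer_of_le_metacyclic {G : Type*} [Group G] [Finite G] {p : ℕ}
    [Fact p.Prime] (S : Subgroup G) (hSp : IsPGroup p ↥S) (hS : Cfsg.IsMetacyclic ↥S)
    (Q : Subgroup G) (hQS : Q ≤ S) (g : G) (hg : g ∈ Subgroup.normalizer (Q : Set G))
    (hgp : (orderOf g).Coprime p) (m : ℕ) (hm : m.Coprime (p ^ 2 - 1))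
    (hgm : g ^ m ∈ Subgroup.centralizer (Q : Set G)) :
    g ∈ Subgroup.centralizer (Q : Set G) := by
  classical
  have hQp : IsPGroup p ↥Q := hSp.to_le hQS
  obtain ⟨x, hx, y, hy, hxy⟩ := exists_two_gen_of_le_metacyclic S hS Q hQS
  have hd : (frattini ↥Q).index ∣ p ^ 2 := index_frattini_dvd_sq_of_two_gen Q hQp x y hx hy hxy
  let g' : Subgroup.normalizer (Q : Set G) := ⟨g, hg⟩
  let β : MulAut ↥Q := Q.normalizerMonoidHom g'
  have hdvd : orderOf β ∣ orderOf g := by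
    have h3 : orderOf β ∣ orderOf g' := orderOf_map_dvd _ g'
    have h4 : orderOf g' = orderOf g := by
      rw [← Subgroup.orderOf_coe]
    rwa [h4] at h3
  have hβm : β ^ m = 1 := by
    have h5 : g' ^ m ∈ Q.normalizerMonoidHom.ker := by
      rw [Subgroup.normalizerMonoidHom_ker]
      exact hgm
    have h6 : Q.normalizerMonoidHom (g' ^ m) = 1 := h5
    rw [map_pow] at h6
    exact h6
  have hdvd2 : orderOf β ∣ m := orderOf_dvd_of_pow_eq_one hβm
  have hc1 : (orderOf β).Coprime (p ^ 2 - 1) := Nat.Coprime.coprime_dvd_left hdvd2 hm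
  have hprod : ∏ i ∈ Finset.Icc 1 2, (p ^ i - 1) = (p - 1) * (p ^ 2 - 1) := by
    rw [show (2 : ℕ) = 1 + 1 from rfl, Finset.prod_Icc_succ_top (by norm_num), Finset.Icc_self,
      Finset.prod_singleton, pow_one]
  have hp1 : (p - 1) ∣ (p ^ 2 - 1) := by
    have hpos : 1 ≤ p := (Fact.out : p.Prime).one_lt.le
    obtain ⟨k, rfl⟩ : ∃ k, p = k + 1 := ⟨p - 1, by omega⟩
    have h7 : (k + 1) ^ 2 = k * (k + 2) + 1 := by ring
    rw [h7, Nat.add_sub_cancel, Nat.add_sub_cancel]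
    exact Dvd.intro _ rfl
  have hc2 : (orderOf β).Coprime (∏ i ∈ Finset.Icc 1 2, (p ^ i - 1)) := by
    rw [hprod]
    exact Nat.Coprime.mul_right (Nat.Coprime.coprime_dvd_right hp1 hc1) hc1
  have hβ : β = 1 :=
    Cfsg.Agent.Lib.helper69.mulAut_eq_one_of_coprime hQp 2 hd β
      (Nat.Coprime.coprime_dvd_left hdvd hgp) hc2
  have hker : g' ∈ Q.normalizerMonoidHom.ker := hβ
  rw [Subgroup.normalizerMonoidHom_ker] at hker
  exact hker

end Cfsg.Agent.Lib.helper28
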