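import Mathlib
import Cfsg.Agent.Lib.helper28.PConn
import Cfsg.Agent.Lib.helper28.Layer
import Cfsg.Agent.Lib.helper3.Class2
import Cfsg.Agent.Lib.helper66.OddAction
import Cfsg.Agent.S0100

set_option autoImplicit false
set_option linter.style.haveILetI false
set_option linter.unusedSectionVars false

/-!
# Normal elementary abelian subgroups of order `p ^ 4` (`p` odd)

`exists_normal_elementaryAbelian_four`: for an odd prime `p`, a finite `p`-group containing an
elementary abelian subgroup of order greater than `p ^ 3` has a normal elementary abelian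
subgroup of order `p ^ 4`.

Proof.  Take a normal elementary abelian `V` of order `p ^ 3`.  If some element of order `p` of
`C(V)` lies outside `V`, extend `V`.  Otherwise take `U ≤ V` normal of order `p ^ 2`; then
`|P : C(U)| ≤ p` and `|C(U) : C(V)| ≤ p ^ 2`, so an elementary abelian `A` with
`U ≤ A ≤ C(U)` and `|A| > p ^ 3` has order exactly `p ^ 4`, and for a conjugate `B ≠ A`
normalizing `A` and normalized by `A` the group `AB` has exponent `p` and order `p ^ 5`, contains
`V`, and `A ∩ B` centralizes `V`: a contradiction.  So `A` is normal.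
-/

namespace Cfsg.Agent.Lib.helper28

open Cfsg
open scoped commutatorElement

/-- For an odd prime `p`, a finite `p`-group containing an elementary abelian subgroup of order
greater than `p ^ 3` has a normal elementary abelian subgroup of order `p ^ 4`. -/
theorem exists_normal_elementaryAbelian_four {P : Type*} [Group P] [Finite P] {p : ℕ}
    [Fact p.Prime] (hp2 : p ≠ 2) (hP : IsPGroup p P) (A₁ : Subgroup P)
    (hA₁ : IsElementaryAbelian p A₁) (hA₁card : p ^ 3 < Nat.card A₁) :
    ∃ A : Subgroup P, A.Normal ∧ IsElementaryAbelian p A ∧ Nat.card A = p ^ 4 := by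
  have hp : p.Prime := Fact.out
  have hppos : 0 < p := hp.pos
  -- orders of subgroups are powers of `p`
  have hpow : ∀ (S : Subgroup P) (j : ℕ), p ^ j < Nat.card S → p ^ (j + 1) ≤ Nat.card S := by
    intro S j h
    obtain ⟨n, hn⟩ := (hP.to_subgroup S).exists_card_eq
    rw [hn] at h ⊢
    exact Nat.pow_le_pow_right hppos ((Nat.pow_lt_pow_iff_right hp.one_lt).1 h)
  have hpow2 : ∀ S : Subgroup P, p ^ 2 < Nat.card S → p ^ 3 ≤ Nat.card S :=
    fun S h => hpow S 2 h
  have hpow3 : ∀ S : Subgroup P, p ^ 3 < Nat.card S → p ^ 4 ≤ Nat.card S :=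
    fun S h => hpow S 3 h
  have hpow4 : ∀ S : Subgroup P, p ^ 4 < Nat.card S → p ^ 5 ≤ Nat.card S :=
    fun S h => hpow S 4 h
  -- a normal elementary abelian subgroup of order `p ^ 3`
  obtain ⟨V, hVn, hVc, hVe, hVcard⟩ : ∃ V : Subgroup P, V.Normal ∧ IsMulCommutative V ∧
      (∀ a ∈ V, a ^ p = 1) ∧ Nat.card V = p ^ 3 := by
    by_contra hcon
    push Not at hcon
    have := Cfsg.Agent.S0100.result hp2 hP
      (fun A hAn hAc hAe => hcon A hAn hAc hAe) A₁ hA₁.1 hA₁.2
    have h23 : p ^ 2 ≤ p ^ 3 := Nat.pow_le_pow_right hppos (by norm_num)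
    omega
  haveI := hVn
  have hV : IsElementaryAbelian p V := ⟨hVc, hVe⟩
  have hVab := ((isElementaryAbelian_iff' p V).1 hV).1
  by_cases hex : ∃ t ∈ Subgroup.centralizer (V : Set P), t ^ p = 1 ∧ t ∉ V
  · obtain ⟨t, ht, htp, htV⟩ := hex
    obtain ⟨A, hAn, hAe, -, hAcard⟩ := Cfsg.Agent.Lib.helper3.exists_normal_extension
      hp2 hP V hV t htV htp
      (fun e he => (Subgroup.mem_centralizer_iff.1 ht e he).symm)
    exact ⟨A, hAn, hAe, by rw [hAcard, hVcard]; ring⟩
  push Not at hex
  have hΩ : ∀ t ∈ Subgroup.centralizer (V : Set P), t ^ p = 1 → t ∈ V := hex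
  -- a normal subgroup `U` of order `p ^ 2` inside `V`
  obtain ⟨U, hUn, hUV, hUcard⟩ := exists_normal_sq_le hP V hV
    (by rw [hVcard]; exact Nat.pow_le_pow_right hppos (by norm_num))
  haveI := hUn
  have hU : IsElementaryAbelian p U := isElementaryAbelian_of_le' hUV hV
  have hUab := ((isElementaryAbelian_iff' p U).1 hU).1
  have hDidx : (Subgroup.centralizer (U : Set P)).index ≤ p :=
    Cfsg.Agent.Lib.helper3.index_centralizer_le hP U hUcard
  have h23lt : p ^ 2 < p ^ 3 := Nat.pow_lt_pow_right hp.one_lt (by norm_num)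
  have hUltV : U < V := lt_of_le_of_ne hUV (fun h => by
    rw [h, hVcard] at hUcard
    omega)
  obtain ⟨v, hvV, hvU, -, hvc⟩ :=
    Cfsg.Agent.Lib.helper3.exists_mem_not_mem_of_normal_lt hP U V hUltV
  have hvp : v ^ p = 1 := hV.2 v hvV
  have hVeq : U ⊔ Subgroup.zpowers v = V := by
    refine Subgroup.eq_of_le_of_card_ge (sup_le hUV (Subgroup.zpowers_le.2 hvV)) ?_
    rw [Cfsg.Agent.Lib.helper3.card_sup_zpowers U v hvU hvp
      (fun e he => hVab v hvV e (hUV he)), hUcard, hVcard]
    exact le_of_eq (by ring)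
  have hcommU : ∀ l : P, l * v * l⁻¹ * v⁻¹ ∈ U := by
    intro l
    have h2 : l * v * l⁻¹ * v⁻¹ = ⁅v, l⁆⁻¹ := by rw [commutatorElement_def]; group
    rw [h2]
    exact U.inv_mem (hvc l)
  -- an element of `C(U)` commuting with `v` centralizes `V`
  have hCv : ∀ l ∈ Subgroup.centralizer (U : Set P), l * v = v * l →
      l ∈ Subgroup.centralizer (V : Set P) := by
    intro l hl hlv
    have : V ≤ Subgroup.centralizer ({l} : Set P) := by
      rw [← hVeq]
      refine sup_le (fun u hu => ?_) ((Subgroup.zpowers_le).2 ?_)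
      · exact Subgroup.mem_centralizer_iff.2 (fun h hh => by
          rw [Set.mem_singleton_iff.1 hh]
          exact (Subgroup.mem_centralizer_iff.1 hl u hu).symm)
      · exact Subgroup.mem_centralizer_iff.2
          (fun h hh => by rw [Set.mem_singleton_iff.1 hh]; exact hlv)
    exact Subgroup.mem_centralizer_iff.2
      (fun h hh => (Subgroup.mem_centralizer_iff.1 (this hh) l rfl).symm)
  -- `|L| ≤ p² |L ∩ C(V)|` for `L ≤ C(U)`
  have hLDC : ∀ L : Subgroup P, L ≤ Subgroup.centralizer (U : Set P) →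
      Nat.card L ≤ Nat.card (L ⊓ Subgroup.centralizer (V : Set P) : Subgroup P) * p ^ 2 := by
    intro L hLD
    let ψ : L →* U :=
      { toFun := fun l => ⟨(l : P) * v * (l : P)⁻¹ * v⁻¹, hcommU l⟩
        map_one' := by
          apply Subtype.ext
          show (1 : P) * v * (1 : P)⁻¹ * v⁻¹ = 1
          group
        map_mul' := fun a b => by
          apply Subtype.ext
          show ((a : P) * b) * v * ((a : P) * b)⁻¹ * v⁻¹ =
            ((a : P) * v * (a : P)⁻¹ * v⁻¹) * ((b : P) * v * (b : P)⁻¹ * v⁻¹)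
          have h1 : (a : P) * ((b : P) * v * (b : P)⁻¹ * v⁻¹) =
              ((b : P) * v * (b : P)⁻¹ * v⁻¹) * a :=
            (Subgroup.mem_centralizer_iff.1 (hLD a.2) _ (hcommU b)).symm
          have h2 := hUab _ (hcommU (b : P)) _ (hcommU (a : P))
          calc ((a : P) * b) * v * ((a : P) * b)⁻¹ * v⁻¹
              = ((a : P) * ((b : P) * v * (b : P)⁻¹ * v⁻¹)) * v * (a : P)⁻¹ * v⁻¹ := by group
            _ = ((b : P) * v * (b : P)⁻¹ * v⁻¹) * a * v * (a : P)⁻¹ * v⁻¹ := by rw [h1]
            _ = ((b : P) * v * (b : P)⁻¹ * v⁻¹) * ((a : P) * v * (a : P)⁻¹ * v⁻¹) := by group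
            _ = _ := h2 }
    have h1 : Nat.card L = Nat.card ψ.ker * Nat.card ψ.range := by
      rw [← Subgroup.index_ker, Subgroup.card_mul_index]
    have h2 : Nat.card ψ.range ≤ p ^ 2 := by
      have := Subgroup.card_le_card_group ψ.range
      rwa [hUcard] at this
    have h3 : Nat.card ψ.ker ≤
        Nat.card (L ⊓ Subgroup.centralizer (V : Set P) : Subgroup P) := by
      refine Nat.card_le_card_of_injective (fun l =>
        (⟨l.1.1, l.1.2, ?_⟩ : (L ⊓ Subgroup.centralizer (V : Set P) : Subgroup P))) ?_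
      · apply hCv _ (hLD l.1.2)
        have h' : (l.1 : P) * v * (l.1 : P)⁻¹ * v⁻¹ = 1 :=
          congrArg Subtype.val (MonoidHom.mem_ker.1 l.2)
        calc (l.1 : P) * v = ((l.1 : P) * v * (l.1 : P)⁻¹ * v⁻¹) * v * l.1 := by group
          _ = v * l.1 := by rw [h']; group
      · intro a b hab
        have : a.1.1 = b.1.1 := congrArg
          (Subtype.val : (L ⊓ Subgroup.centralizer (V : Set P) : Subgroup P) → P) hab
        exact Subtype.ext (Subtype.ext this)
    rw [h1]
    exact Nat.mul_le_mul h3 h2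
  have hUD : U ≤ Subgroup.centralizer (U : Set P) :=
    fun a ha => Subgroup.mem_centralizer_iff.2 (fun h hh => hUab h hh a ha)
  -- an elementary abelian subgroup `A` of order more than `p ^ 3` with `U ≤ A ≤ C(U)`
  obtain ⟨A, hA, hUA, hAD, hAcard⟩ : ∃ A : Subgroup P, IsElementaryAbelian p A ∧ U ≤ A ∧
      A ≤ Subgroup.centralizer (U : Set P) ∧ p ^ 3 < Nat.card A := by
    have hA₁ab := ((isElementaryAbelian_iff' p A₁).1 hA₁).1
    by_cases hUA₁ : U ≤ A₁
    · exact ⟨A₁, hA₁, hUA₁, fun a ha => Subgroup.mem_centralizer_iff.2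
        (fun h hh => hA₁ab h (hUA₁ hh) a ha), hA₁card⟩
    · have h1 := card_inf_mul_relIndex (Subgroup.centralizer (U : Set P)) A₁
      have h2 : (Subgroup.centralizer (U : Set P)).relIndex A₁ ≤ p := by
        have h4 := Subgroup.relIndex_le_of_le_right (H := Subgroup.centralizer (U : Set P))
          (le_top : A₁ ≤ ⊤)
          (by rw [Subgroup.relIndex_top_right]; exact Subgroup.index_ne_zero_of_finite)
        rw [Subgroup.relIndex_top_right] at h4
        exact h4.trans hDidx
      have hA₂ : IsElementaryAbelian p (Subgroup.centralizer (U : Set P) ⊓ A₁) :=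
        isElementaryAbelian_of_le' inf_le_right hA₁
      have hA₂card : p ^ 2 < Nat.card (Subgroup.centralizer (U : Set P) ⊓ A₁ : Subgroup P) := by
        by_contra hcon
        push Not at hcon
        have h5 : Nat.card A₁ ≤ p ^ 2 * p := by rw [← h1]; exact Nat.mul_le_mul hcon h2
        have h6 : p ^ 2 * p = p ^ 3 := by ring
        omega
      have hA₂card' := hpow2 _ hA₂card
      refine ⟨Subgroup.centralizer (U : Set P) ⊓ A₁ ⊔ U, isElementaryAbelian_sup' hA₂ hU
        (fun a ha b hb => (Subgroup.mem_centralizer_iff.1 ha.1 b hb).symm), le_sup_right,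
        sup_le inf_le_left hUD, ?_⟩
      by_contra hcon
      push Not at hcon
      have heq : Subgroup.centralizer (U : Set P) ⊓ A₁ =
          Subgroup.centralizer (U : Set P) ⊓ A₁ ⊔ U :=
        Subgroup.eq_of_le_of_card_ge le_sup_left (hcon.trans hA₂card')
      have h3 : U ≤ Subgroup.centralizer (U : Set P) ⊓ A₁ ⊔ U := le_sup_right
      rw [← heq] at h3
      exact hUA₁ (h3.trans inf_le_right)
  have hAab := ((isElementaryAbelian_iff' p A).1 hA).1
  have hAC : ∀ S : Subgroup P, (∀ s ∈ S, s ^ p = 1) →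
      S ⊓ Subgroup.centralizer (V : Set P) ≤ V := fun S hS t ht => hΩ t ht.2 (hS t ht.1)
  have hACcard : Nat.card (A ⊓ Subgroup.centralizer (V : Set P) : Subgroup P) ≤ p ^ 2 := by
    by_contra hcon
    push Not at hcon
    have h27 := hpow2 _ hcon
    have hle : A ⊓ Subgroup.centralizer (V : Set P) ≤ V := hAC A hA.2
    have heq : A ⊓ Subgroup.centralizer (V : Set P) = V :=
      Subgroup.eq_of_le_of_card_ge hle (by rw [hVcard]; exact h27)
    have hVA : V ≤ A := heq ▸ inf_le_left
    have hAV : A ≤ V := by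
      intro a ha
      exact hΩ a (Subgroup.mem_centralizer_iff.2 (fun h hh => hAab h (hVA hh) a ha))
        (hA.2 a ha)
    have := Subgroup.card_le_of_le hAV
    rw [hVcard] at this
    omega
  have hA4 : Nat.card A = p ^ 4 := by
    have h1 := hLDC A hAD
    have h2 := hpow3 A hAcard
    have h3 : Nat.card A ≤ p ^ 2 * p ^ 2 := h1.trans (Nat.mul_le_mul_right _ hACcard)
    have h4 : p ^ 2 * p ^ 2 = p ^ 4 := by ring
    omega
  have h45 : p ^ 4 * p = p ^ 5 := by ring
  have hp4pos : 0 < p ^ 4 := pow_pos hppos 4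
  -- `A` is the only elementary abelian subgroup of order `p ^ 4` in a subgroup `A ⊔ B ≥ V`
  -- of order at most `p ^ 5`
  have hUniq : ∀ B : Subgroup P, IsElementaryAbelian p B → Nat.card B = p ^ 4 → V ≤ A ⊔ B →
      Nat.card (A ⊔ B : Subgroup P) ≤ p ^ 5 → False := by
    intro B hBe hBcard hVAB hABcard
    have hBab := ((isElementaryAbelian_iff' p B).1 hBe).1
    have h1 : A ⊓ B ≤ A ⊓ Subgroup.centralizer (V : Set P) := by
      intro t ht
      refine ⟨ht.1, ?_⟩
      have h2 : A ⊔ B ≤ Subgroup.centralizer ({t} : Set P) := by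
        refine sup_le (fun a ha => ?_) (fun b hb => ?_)
        · exact Subgroup.mem_centralizer_iff.2
            (fun h hh => by rw [Set.mem_singleton_iff.1 hh]; exact hAab t ht.1 a ha)
        · exact Subgroup.mem_centralizer_iff.2
            (fun h hh => by rw [Set.mem_singleton_iff.1 hh]; exact hBab t ht.2 b hb)
      exact Subgroup.mem_centralizer_iff.2
        (fun h hh => (Subgroup.mem_centralizer_iff.1 (h2 (hVAB hh)) t rfl).symm)
    have h3 : Nat.card (A ⊓ B : Subgroup P) ≤ p ^ 2 :=
      (Subgroup.card_le_of_le h1).trans hACcard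
    have h4 := card_inf_mul_relIndex A B
    have h5 := card_inf_mul_relIndex A (A ⊔ B)
    rw [inf_of_le_left (le_sup_left : A ≤ A ⊔ B), hA4] at h5
    have h6 : A.relIndex (A ⊔ B) ≤ p := by
      refine Nat.le_of_mul_le_mul_left ?_ hp4pos
      rw [h5, h45]
      exact hABcard
    have h7 : A.relIndex B ≤ A.relIndex (A ⊔ B) :=
      Subgroup.relIndex_le_of_le_right le_sup_right (by
        intro h0
        rw [h0] at h5
        have := Nat.card_pos (α := (A ⊔ B : Subgroup P))
        omega)
    rw [hBcard] at h4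
    have h8 : p ^ 4 ≤ p ^ 2 * p := by rw [← h4]; exact Nat.mul_le_mul h3 (h7.trans h6)
    have h9 : p ^ 2 * p = p ^ 3 := by ring
    have h10 : p ^ 3 < p ^ 4 := Nat.pow_lt_pow_right hp.one_lt (by norm_num)
    omega
  -- `A` is normal
  have hAnorm : Subgroup.normalizer (A : Set P) = ⊤ := by
    by_contra hQ
    haveI : Group.IsNilpotent P := hP.isNilpotent
    have hQlt : Subgroup.normalizer (A : Set P) < ⊤ := lt_top_iff_ne_top.2 hQ
    have hNC := Group.normalizerCondition_of_isNilpotent (G := P) _ hQlt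
    obtain ⟨g, hgN, hgQ⟩ := SetLike.exists_of_lt hNC
    have hBA : A.map (MulAut.conj g).toMonoidHom ≠ A :=
      fun h => hgQ ((map_conj_eq_self_iff_mem_normalizer g A).1 h)
    have hQB : Subgroup.normalizer ((A.map (MulAut.conj g).toMonoidHom : Subgroup P) : Set P) =
        Subgroup.normalizer (A : Set P) := by
      rw [← Subgroup.map_equiv_normalizer_eq A (MulAut.conj g)]
      exact (map_conj_eq_self_iff_mem_normalizer g _).2 hgN
    have hAB : A ≤ Subgroup.normalizer
        ((A.map (MulAut.conj g).toMonoidHom : Subgroup P) : Set P) :=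
      hQB ▸ Subgroup.le_normalizer
    have hBAn : A.map (MulAut.conj g).toMonoidHom ≤ Subgroup.normalizer (A : Set P) :=
      hQB ▸ Subgroup.le_normalizer
    have hBcard : Nat.card (A.map (MulAut.conj g).toMonoidHom) = p ^ 4 := by
      rw [Subgroup.card_map_of_injective (MulAut.conj g).injective, hA4]
    have hBe : IsElementaryAbelian p (A.map (MulAut.conj g).toMonoidHom) := by
      rw [isElementaryAbelian_iff']
      constructor
      · rintro _ ⟨a, ha, rfl⟩ _ ⟨b, hb, rfl⟩
        rw [← map_mul, hAab a ha b hb, map_mul]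
      · rintro _ ⟨a, ha, rfl⟩
        rw [← map_pow, hA.2 a ha, map_one]
    have hBab := ((isElementaryAbelian_iff' p _).1 hBe).1
    have hUB : U ≤ A.map (MulAut.conj g).toMonoidHom := by
      intro u hu
      refine ⟨g⁻¹ * u * g, hUA ?_, ?_⟩
      · have := hUn.conj_mem u hu g⁻¹
        simpa using this
      · show g * (g⁻¹ * u * g) * g⁻¹ = u
        group
    have hBD : A.map (MulAut.conj g).toMonoidHom ≤ Subgroup.centralizer (U : Set P) :=
      fun b hb => Subgroup.mem_centralizer_iff.2 (fun h hh => hBab h (hUB hh) b hb)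
    have hexp : ∀ t ∈ A ⊔ A.map (MulAut.conj g).toMonoidHom, t ^ p = 1 := by
      intro t ht
      obtain ⟨a, ha, b, hb, rfl⟩ := exists_mul_of_mem_sup_of_le_normalizer hAB ht
      have hkA : b * a * b⁻¹ * a⁻¹ ∈ A := by
        refine A.mul_mem ?_ (A.inv_mem ha)
        exact (Subgroup.mem_normalizer_iff.1 (hBAn hb) a).1 ha
      have hkB : b * a * b⁻¹ * a⁻¹ ∈ A.map (MulAut.conj g).toMonoidHom := by
        have h1 := (Subgroup.mem_normalizer_iff.1 (hAB ha) b⁻¹).1 (Subgroup.inv_mem _ hb)
        have h2 : b * a * b⁻¹ * a⁻¹ = b * (a * b⁻¹ * a⁻¹) := by group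
        rw [h2]
        exact Subgroup.mul_mem _ hb h1
      have hform := Cfsg.Agent.Lib.helper66.mul_pow_of_central_comm
        (a := a) (b := b) (c := b * a * b⁻¹ * a⁻¹) (by group)
        (hAab _ hkA a ha) (hBab _ hkB b hb) p
      obtain ⟨j, hj⟩ := Cfsg.Agent.Lib.helper3.prime_dvd_choose_two hp hp2
      rw [hform, hA.2 a ha, hBe.2 b hb, hj, pow_mul, hA.2 _ hkA, one_pow, one_mul, one_mul]
    have hLC : (A ⊔ A.map (MulAut.conj g).toMonoidHom) ⊓ Subgroup.centralizer (V : Set P) ≤ V :=
      hAC _ hexp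
    have hL1 := hLDC (A ⊔ A.map (MulAut.conj g).toMonoidHom) (sup_le hAD hBD)
    have hLCcard : Nat.card ((A ⊔ A.map (MulAut.conj g).toMonoidHom) ⊓
        Subgroup.centralizer (V : Set P) : Subgroup P) ≤ p ^ 3 := by
      have := Subgroup.card_le_of_le hLC
      rwa [hVcard] at this
    have h325 : p ^ 3 * p ^ 2 = p ^ 5 := by ring
    have hLcard : Nat.card (A ⊔ A.map (MulAut.conj g).toMonoidHom : Subgroup P) ≤ p ^ 5 :=
      h325 ▸ hL1.trans (Nat.mul_le_mul_right _ hLCcard)
    have hLge : p ^ 5 ≤ Nat.card (A ⊔ A.map (MulAut.conj g).toMonoidHom : Subgroup P) := by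
      by_contra hcon
      push Not at hcon
      have h81 : Nat.card (A ⊔ A.map (MulAut.conj g).toMonoidHom : Subgroup P) ≤ p ^ 4 := by
        by_contra h
        push Not at h
        have := hpow4 _ h
        omega
      have hAeq : A = A ⊔ A.map (MulAut.conj g).toMonoidHom :=
        Subgroup.eq_of_le_of_card_ge le_sup_left (by rw [hA4]; exact h81)
      have hBle : A.map (MulAut.conj g).toMonoidHom ≤ A := by
        have h3 : A.map (MulAut.conj g).toMonoidHom ≤ A ⊔ A.map (MulAut.conj g).toMonoidHom :=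
          le_sup_right
        rw [← hAeq] at h3
        exact h3
      exact hBA (Subgroup.eq_of_le_of_card_ge hBle (by rw [hBcard, hA4]))
    have hVL : V ≤ A ⊔ A.map (MulAut.conj g).toMonoidHom := by
      have h27 : p ^ 3 ≤ Nat.card ((A ⊔ A.map (MulAut.conj g).toMonoidHom) ⊓
          Subgroup.centralizer (V : Set P) : Subgroup P) := by
        by_contra hcon
        push Not at hcon
        have hle2 : Nat.card ((A ⊔ A.map (MulAut.conj g).toMonoidHom) ⊓
            Subgroup.centralizer (V : Set P) : Subgroup P) ≤ p ^ 2 := by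
          by_contra h
          push Not at h
          have := hpow2 _ h
          omega
        have h5 := hL1.trans (Nat.mul_le_mul_right _ hle2)
        have h6 : p ^ 2 * p ^ 2 = p ^ 4 := by ring
        have h7 : p ^ 4 < p ^ 5 := Nat.pow_lt_pow_right hp.one_lt (by norm_num)
        omega
      have heq : (A ⊔ A.map (MulAut.conj g).toMonoidHom) ⊓ Subgroup.centralizer (V : Set P) = V :=
        Subgroup.eq_of_le_of_card_ge hLC (by rw [hVcard]; exact h27)
      exact heq ▸ inf_le_left
    exact hUniq _ hBe hBcard hVL hLcard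
  exact ⟨A, Subgroup.normalizer_eq_top_iff.1 hAnorm, hA, hA4⟩

end Cfsg.Agent.Lib.helper28
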