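/-
(O-c) of S1430, fact (N1) of the paper proof: in the setting `Setting M E R H r`, every prime
divisor of `|C_{M_σ}(R)|` lies in `τ₁(H) ∪ τ₃(H)`.
-/
import Mathlib
import Cfsg.Agent.S1417
import Cfsg.Agent.S1418
import Cfsg.Agent.S1424
import Cfsg.Agent.Lib.helper87.BGOC
import Cfsg.Agent.Lib.helper97.BGSeven1
import Cfsg.Agent.Lib.helper60.BGCentU
import Cfsg.Agent.Lib.helper55.BGSigmaGen
import Cfsg.Agent.Lib.helper8.BGTen1
import Cfsg.Agent.Lib.helper8.BGTen6
import Cfsg.Agent.Lib.helper13.BG11a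
import Cfsg.Agent.Lib.helper12.BGEleven
import Cfsg.Agent.Lib.helper71.BGTwelveAux
import Cfsg.Agent.Lib.helper71.BGTwelveFour

set_option autoImplicit false
open Cfsg

namespace Cfsg.Agent.Lib.helper28.OC

variable {G : Type*} [Group G]

/-- **(N1)** every prime divisor of `|C_{M_σ}(R)|` lies in `τ₁(H) ∪ τ₃(H)`. -/
theorem oc_N1 [Finite G] (hG : IsMinSimpleOddOrder G) {M E R H : Subgroup G} {r : ℕ}
    (S : Cfsg.Agent.Lib.helper87.BGOC.Setting M E R H r)
    (hne : H ≠ M) (hRs : R ≤ sigmaCore H)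
    (hCs : ∀ q : ℕ, q.Prime →
      q ∣ Nat.card ↥(sigmaCore M ⊓ Subgroup.centralizer (R : Set G)) → q ∉ sigma H) :
    ∀ q : ℕ, q.Prime →
      q ∣ Nat.card ↥(sigmaCore M ⊓ Subgroup.centralizer (R : Set G)) →
        q ∈ tau1 H ∨ q ∈ tau3 H := by
  intro q hq hqC
  have : Fact q.Prime := ⟨hq⟩
  set C : Subgroup G := sigmaCore M ⊓ Subgroup.centralizer (R : Set G) with hCdef
  have hqσ : q ∉ sigma H := hCs q hq hqC
  have hCH : C ≤ H := fun x hx =>
    S.hNR (Subgroup.centralizer_le_normalizer _ hx.2)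
  have hqH : q ∣ Nat.card H := hqC.trans (Subgroup.card_dvd_of_le hCH)
  by_cases h1 : PRankLE q 1 H
  · by_cases hd : q ∣ Nat.card ↥⁅H, H⁆
    · right; exact ⟨hq, hqσ, hd, h1⟩
    · left; exact ⟨hq, hqσ, hqH, hd, h1⟩
  · exfalso
    have h2 : PRankLE q 2 H := by
      by_contra h2
      exact hqσ (Cfsg.Agent.Lib.helper8.bg_alpha_sub_sigma hG
        (Cfsg.Agent.Lib.helper13.bgx_uniq hG) H S.hH ⟨hq, h2⟩)
    have hτ2 : q ∈ tau2 H := ⟨hq, hqσ, h2, h1⟩
    have hrp : r.Prime := S.hr.1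
    have hR1 : R ≠ ⊥ := by
      intro h
      have := S.hR
      rw [h, Subgroup.card_bot] at this
      exact hrp.ne_one this.symm
    -- `Y ≤ C` of order `q`
    obtain ⟨y, hy⟩ := exists_prime_orderOf_dvd_card' q hqC
    set Y : Subgroup G := Subgroup.zpowers (y : G) with hYdef
    have hYcard : Nat.card Y = q := by rw [Nat.card_zpowers, Subgroup.orderOf_coe, hy]
    have hYC : Y ≤ C := (Subgroup.zpowers_le).mpr y.2
    have hY1 : Y ≠ ⊥ := by
      intro h
      rw [h, Subgroup.card_bot] at hYcard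
      exact hq.ne_one hYcard.symm
    have hYp : IsPGroup q Y := IsPGroup.of_card (n := 1) (by rw [hYcard, pow_one])
    have hYtop : Y ≠ ⊤ := by
      intro h
      apply Cfsg.Agent.Lib.helper8.bg_not_pgroup_top hG q
      rw [h] at hYp
      exact IsPGroup.of_equiv hYp Subgroup.topEquiv
    -- a complement of `H_σ` over `C`
    obtain ⟨EH, hEH, hCEH⟩ := Cfsg.Agent.Lib.helper60.BGCentU.exists_compl_ge hG H S.hH C hCH
      (fun p hp hpC => hCs p hp hpC)
    obtain ⟨A, hAE, hA, hAc⟩ := Cfsg.Agent.Lib.helper97.bg7_exists_elemAb_compl H EH hEH q hτ2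
    obtain ⟨⟨-, hsub⟩, -, h18c⟩ :=
      Cfsg.Agent.S1418.result hG H S.hH EH hEH q hτ2 A ⟨hAE, hA, hAc⟩
    have hYA : Y ≤ A := hsub Y (hYC.trans hCEH) hYcard
    have hRY : R ≤ Subgroup.centralizer (Y : Set G) :=
      Subgroup.le_centralizer_iff.mp (hYC.trans inf_le_right)
    have hsing : sigmaCore H ⊓ Subgroup.centralizer (Y : Set G) ≠ ⊥ := by
      intro h
      apply hR1
      rw [eq_bot_iff, ← h]
      exact le_inf hRs hRY
    obtain ⟨-, huniq⟩ := h18c Y hYA hYcard hsing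
    -- `N_G(Y) ≤ H`
    have hNY : Subgroup.normalizer (Y : Set G) ≤ H := by
      obtain ⟨L, hL, hNL⟩ :=
        (eq_top_or_exists_le_coatom (Subgroup.normalizer (Y : Set G))).resolve_left
          (Cfsg.Agent.Lib.helper71.BG12.normalizer_ne_top' hG hY1 hYtop)
      have hLH := huniq L hL ((Subgroup.centralizer_le_normalizer _).trans hNL)
      rw [← hLH]; exact hNL
    have hqM : q ∈ sigma M :=
      Cfsg.Agent.Lib.helper71.BG12.mem_sigma_of_dvd_card_sigmaCore M hq
        (hqC.trans (Subgroup.card_dvd_of_le inf_le_left))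
    have hMsM : sigmaCore M ≤ M := Subgroup.map_subtype_le _
    have hYM : Y ≤ M := hYC.trans (inf_le_left.trans hMsM)
    have hYMH : Y ≤ M ⊓ H := le_inf hYM (hYC.trans hCH)
    -- a Sylow `q`-subgroup of `M ∩ H` over `Y`
    have hYp' : IsPGroup q (Y.subgroupOf (M ⊓ H)) :=
      IsPGroup.of_equiv hYp (Subgroup.subgroupOfEquivOfLe hYMH).symm
    obtain ⟨Sy, hSy⟩ := hYp'.exists_le_sylow
    have hXS : Y ≤ (Sy : Subgroup ↥(M ⊓ H)).map (M ⊓ H).subtype := by
      intro x hx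
      exact ⟨⟨x, hYMH hx⟩, hSy (Subgroup.mem_subgroupOf.mpr hx), rfl⟩
    obtain ⟨-, -, hidx⟩ :=
      Cfsg.Agent.S1424.result hG M S.hM q hqM Y hYp hY1 hYM H S.hH hne hNY Sy hXS
    set D : Subgroup G := (Sy : Subgroup ↥(M ⊓ H)).map (M ⊓ H).subtype with hDdef
    have hDMH : D ≤ M ⊓ H := Subgroup.map_subtype_le _
    have hsolvH : Group.IsSolvable ↥H := hG.2.2.2 H S.hH.1
    obtain ⟨l, hl⟩ := Cfsg.Agent.Lib.helper55.BGJ.exists_conj_le_of_relIndex (L := H) (D := D)
      (Y := A) hsolvH (hAE.trans hEH.1) (by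
        intro p hp hpA hpD
        rw [hAc] at hpA
        have hpq : p = q := (Nat.prime_dvd_prime_iff_eq hp hq).mp (hp.dvd_of_dvd_pow hpA)
        subst hpq
        exact hidx hpD)
    set A' : Subgroup G := A.map (MulAut.conj l⁻¹).toMonoidHom with hA'def
    have hA'D : A' ≤ D := by
      rintro _ ⟨a, ha, rfl⟩
      obtain ⟨d, hd, e⟩ := hl ha
      have e' : a = l * d * l⁻¹ := by simpa using e.symm
      have : (MulAut.conj l⁻¹).toMonoidHom a = d := by
        simp [e']; group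
      rw [this]; exact hd
    have hA'e : IsElementaryAbelian q A' :=
      Cfsg.Agent.Lib.helper12.isElementaryAbelian_map_conj hA l⁻¹
    have hA'c : Nat.card A' = q ^ 2 := by
      rw [hA'def, Subgroup.card_map_of_injective (MulAut.conj l⁻¹).injective, hAc]
    obtain ⟨-, -, -, -, h17e, -⟩ := Cfsg.Agent.S1417.result hG H S.hH q hτ2 A'
      ⟨hA'D.trans (hDMH.trans inf_le_right), hA'e, hA'c⟩
    have hbot := h17e M S.hM (Ne.symm hne) (hA'D.trans (hDMH.trans inf_le_left))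
    apply hR1
    rw [eq_bot_iff, ← hbot]
    exact le_inf hRs (S.hRE.trans S.hE.1)

end Cfsg.Agent.Lib.helper28.OC
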