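import Mathlib
import Cfsg.Agent.Lib.helper49.SPEDefs

/-!
S2333 split, piece CASEH2 (claimed by helper28; canonical name `case_h_count`).
-/

set_option autoImplicit false

namespace Cfsg.Agent.Lib.helper28.SPECASEH2
end Cfsg.Agent.Lib.helper28.SPECASEH2

namespace Cfsg.Agent.Lib.helper49.SPE

open Matrix

/-- CASEH2 (L): counting -/
theorem case_h_count {F : Type*} [Field F] [Fintype F] {n : ℕ} (hn : 2 ≤ n)
    (S : Set ((Fin n → F) → F))
    (hreal : ∀ a b c : F, b ≠ 0 → (a = 0 ∨ ∃ t : F, a * t ^ 2 + b * t + c = 0) →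
      ∀ r s : Fin n → F,
      ∃ Q' ∈ S, Q' (ev F n 0) = a ∧ Q' (ev F n 1) = c ∧ polar Q' (ev F n 0) (ev F n 1) = b ∧
        ∀ j : Fin n, 2 ≤ j.1 →
          polar Q' (ev F n 0) (ev F n j.1) = r j ∧ polar Q' (ev F n 1) (ev F n j.1) = s j) :
    Nat.card {p : F × F × F //
        p.2.1 ≠ 0 ∧ (p.1 = 0 ∨ ∃ t : F, p.1 * t ^ 2 + p.2.1 * t + p.2.2 = 0)} *
      Fintype.card F ^ (n - 2) * Fintype.card F ^ (n - 2) ≤ Nat.card S := by
  classical
  let T := {p : F × F × F //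
    p.2.1 ≠ 0 ∧ (p.1 = 0 ∨ ∃ t : F, p.1 * t ^ 2 + p.2.1 * t + p.2.2 = 0)}
  let ext : (Fin (n - 2) → F) → (Fin n → F) := fun g j =>
    if h : 2 ≤ j.1 then g ⟨j.1 - 2, by omega⟩ else 0
  have hext : ∀ (g : Fin (n - 2) → F) (i : Fin (n - 2)),
      ext g ⟨i.1 + 2, by omega⟩ = g i := by
    intro g i
    simp [ext]
  have hch : ∀ x : T × (Fin (n - 2) → F) × (Fin (n - 2) → F),
      ∃ Q' ∈ S, Q' (ev F n 0) = x.1.1.1 ∧ Q' (ev F n 1) = x.1.1.2.2 ∧
        polar Q' (ev F n 0) (ev F n 1) = x.1.1.2.1 ∧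
        ∀ j : Fin n, 2 ≤ j.1 →
          polar Q' (ev F n 0) (ev F n j.1) = ext x.2.1 j ∧
            polar Q' (ev F n 1) (ev F n j.1) = ext x.2.2 j :=
    fun x => hreal x.1.1.1 x.1.1.2.1 x.1.1.2.2 x.1.2.1 x.1.2.2 (ext x.2.1) (ext x.2.2)
  choose Φ hΦS hΦa hΦc hΦb hΦrs using hch
  let f : T × (Fin (n - 2) → F) × (Fin (n - 2) → F) → S := fun x => ⟨Φ x, hΦS x⟩
  have hf : Function.Injective f := by
    intro x y hxy
    have h : Φ x = Φ y := congrArg Subtype.val hxy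
    have ha : x.1.1.1 = y.1.1.1 := by rw [← hΦa x, ← hΦa y, h]
    have hc : x.1.1.2.2 = y.1.1.2.2 := by rw [← hΦc x, ← hΦc y, h]
    have hb : x.1.1.2.1 = y.1.1.2.1 := by rw [← hΦb x, ← hΦb y, h]
    have hr : x.2.1 = y.2.1 := by
      funext i
      have h1 := (hΦrs x ⟨i.1 + 2, by omega⟩ (by simp)).1
      have h2 := (hΦrs y ⟨i.1 + 2, by omega⟩ (by simp)).1
      rw [hext] at h1 h2
      rw [← h1, ← h2, h]
    have hs : x.2.2 = y.2.2 := by
      funext i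
      have h1 := (hΦrs x ⟨i.1 + 2, by omega⟩ (by simp)).2
      have h2 := (hΦrs y ⟨i.1 + 2, by omega⟩ (by simp)).2
      rw [hext] at h1 h2
      rw [← h1, ← h2, h]
    apply Prod.ext
    · apply Subtype.ext
      exact Prod.ext ha (Prod.ext hb hc)
    · exact Prod.ext hr hs
  have hcard : Nat.card (T × (Fin (n - 2) → F) × (Fin (n - 2) → F)) =
      Nat.card T * Fintype.card F ^ (n - 2) * Fintype.card F ^ (n - 2) := by
    rw [Nat.card_prod, Nat.card_prod, Nat.card_eq_fintype_card (α := Fin (n - 2) → F),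
      Fintype.card_pi_const, mul_assoc]
  have hle := Nat.card_le_card_of_injective f hf
  rw [hcard] at hle
  exact hle

end Cfsg.Agent.Lib.helper49.SPE
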