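import Mathlib
import Cfsg.Agent.Lib.helper49.SPEDefs

/-!
S2333 split, piece THCARD (racer copy by helper28, every declaration prefixed `helper28_`).
-/

set_option autoImplicit false

namespace Cfsg.Agent.Lib.helper28.SPETHCARD
end Cfsg.Agent.Lib.helper28.SPETHCARD

namespace Cfsg.Agent.Lib.helper49.SPE

/-- THCARD (M/L), racer copy: verbatim Skel statement of `card_hyp_triples`. -/
theorem helper28_card_hyp_triples {F : Type*} [Field F] [Fintype F] (h2 : (2 : F) = 0) :
    Fintype.card F * (Fintype.card F - 1) * (Fintype.card F + 1) ≤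
      2 * Nat.card {p : F × F × F //
        p.2.1 ≠ 0 ∧ (p.1 = 0 ∨ ∃ t : F, p.1 * t ^ 2 + p.2.1 * t + p.2.2 = 0)} := by
  classical
  let T := {p : F × F × F //
    p.2.1 ≠ 0 ∧ (p.1 = 0 ∨ ∃ t : F, p.1 * t ^ 2 + p.2.1 * t + p.2.2 = 0)}
  let e : F ≃ Fin (Fintype.card F) := Fintype.equivFin F
  have hneg : ∀ x : F, x + x = 0 := fun x => by rw [← two_mul, h2, zero_mul]
  let J₁ : {a : F // a ≠ 0} × {b : F // b ≠ 0} × F → T × Bool := fun x =>
    (⟨(x.1.1, x.2.1.1, x.1.1 * x.2.2 ^ 2 + x.2.1.1 * x.2.2), x.2.1.2,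
      Or.inr ⟨x.2.2, hneg _⟩⟩, decide (e x.2.2 < e (x.2.2 + x.2.1.1 / x.1.1)))
  let J₂ : Bool × {b : F // b ≠ 0} × F → T × Bool := fun x =>
    (⟨(0, x.2.1.1, x.2.2), x.2.1.2, Or.inl rfl⟩, x.1)
  have hJ₁ : Function.Injective J₁ := by
    rintro ⟨a, b, t⟩ ⟨a', b', t'⟩ h
    have h1 := congrArg (fun z : T × Bool => z.1.1) h
    have hflag := congrArg (fun z : T × Bool => z.2) h
    simp only [J₁, Prod.mk.injEq] at h1
    obtain ⟨ha, hb, hc⟩ := h1
    have ha' : a = a' := Subtype.ext ha
    have hb' : b = b' := Subtype.ext hb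
    subst ha' hb'
    have hfac : (t + t') * (a.1 * (t + t') + b.1) = 0 := by
      have h3 : (t + t') * (a.1 * (t + t') + b.1) =
          (a.1 * t ^ 2 + b.1 * t) + (a.1 * t' ^ 2 + b.1 * t') + a.1 * (t * t' + t * t') := by
        ring
      rw [h3, hc, hneg, hneg, mul_zero, add_zero]
    rcases mul_eq_zero.1 hfac with h0 | h0
    · have htt : t = t' := add_right_cancel (h0.trans (hneg t').symm)
      subst htt
      rfl
    · exfalso
      have ha0 : a.1 ≠ 0 := a.2
      have hba : b.1 / a.1 ≠ 0 := div_ne_zero b.2 ha0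
      have ht' : t' = t + b.1 / a.1 := by
        field_simp
        linear_combination h0 - hneg (a.1 * t) - hneg b.1
      have ht : t' + b.1 / a.1 = t := by
        rw [ht', add_assoc, hneg, add_zero]
      simp only [J₁] at hflag
      rw [ht, ← ht'] at hflag
      have hne : e t ≠ e t' := by
        intro h5
        have := e.injective h5
        rw [ht'] at this
        exact hba (by
          have h6 : t + b.1 / a.1 = t + 0 := by rw [add_zero]; exact this.symm
          exact add_left_cancel h6)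
      rcases lt_or_gt_of_ne hne with h7 | h7
      · have h8 : ¬ e t' < e t := not_lt.2 h7.le
        simp [h7, h8] at hflag
      · have h8 : ¬ e t < e t' := not_lt.2 h7.le
        simp [h7, h8] at hflag
  have hJ₂ : Function.Injective J₂ := by
    rintro ⟨ε, b, c⟩ ⟨ε', b', c'⟩ h
    have h1 := congrArg (fun z : T × Bool => z.1.1) h
    have hflag := congrArg (fun z : T × Bool => z.2) h
    simp only [J₂, Prod.mk.injEq] at h1
    obtain ⟨-, hb, hc⟩ := h1
    have hb' : b = b' := Subtype.ext hb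
    simp only [J₂] at hflag
    subst hb' hc hflag
    rfl
  have hJ₁₂ : ∀ x y, J₁ x ≠ J₂ y := by
    intro x y h
    have h1 := congrArg (fun z : T × Bool => z.1.1.1) h
    simp only [J₁, J₂] at h1
    exact x.1.2 h1
  have hinj : Function.Injective (Sum.elim J₁ J₂) := hJ₁.sumElim hJ₂ hJ₁₂
  have hle := Nat.card_le_card_of_injective _ hinj
  have hq : 1 ≤ Fintype.card F := Fintype.card_pos
  have hc0 : Fintype.card {a : F // a ≠ 0} = Fintype.card F - 1 := by
    rw [Fintype.card_subtype_compl, Fintype.card_subtype_eq]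
  rw [Nat.card_sum, Nat.card_prod, Nat.card_prod, Nat.card_prod, Nat.card_prod, Nat.card_prod,
    Nat.card_eq_fintype_card (α := {a : F // a ≠ 0}), Nat.card_eq_fintype_card (α := F),
    Nat.card_eq_fintype_card (α := Bool), Fintype.card_bool, hc0] at hle
  obtain ⟨k, hk⟩ : ∃ k, Fintype.card F = k + 1 := ⟨Fintype.card F - 1, by omega⟩
  rw [hk] at hle ⊢
  simp only [Nat.add_sub_cancel] at hle ⊢
  calc (k + 1) * k * (k + 1 + 1) = k * (k * (k + 1)) + 2 * (k * (k + 1)) := by ring
    _ ≤ Nat.card T * 2 := hle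
    _ = 2 * Nat.card T := Nat.mul_comm _ _

end Cfsg.Agent.Lib.helper49.SPE
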