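import Mathlib
import Cfsg.Prelude.Def_Classical
import Cfsg.Agent.Lib.helper17.Herm
import Cfsg.Agent.Lib.helper44.SUWDefs
import Cfsg.Agent.Lib.helper75.SUWSLTR

/-!
S2335 split, piece COLZ (racer copy by helper28, every declaration prefixed `helper28_`).
-/

set_option autoImplicit false

namespace Cfsg.Agent.Lib.helper28.SUWCOLZ
end Cfsg.Agent.Lib.helper28.SUWCOLZ

namespace Cfsg.Agent.Lib.helper44.SUW

open Matrix

/-- The block diagonal matrix `diag(α, Γ)` on `Fin (d+1)`. -/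
def helper28_bd {K : Type*} [Field K] {d : ℕ} (α : K) (Γ : Matrix (Fin d) (Fin d) K) :
    Matrix (Fin (d + 1)) (Fin (d + 1)) K :=
  Matrix.of (Fin.cons (Fin.cons α 0) (fun i => Fin.cons 0 (Γ i)))

@[simp] theorem helper28_bd_00 {K : Type*} [Field K] {d : ℕ} (α : K)
    (Γ : Matrix (Fin d) (Fin d) K) : helper28_bd α Γ 0 0 = α := rfl

@[simp] theorem helper28_bd_0s {K : Type*} [Field K] {d : ℕ} (α : K)
    (Γ : Matrix (Fin d) (Fin d) K) (j : Fin d) : helper28_bd α Γ 0 j.succ = 0 := rfl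

@[simp] theorem helper28_bd_s0 {K : Type*} [Field K] {d : ℕ} (α : K)
    (Γ : Matrix (Fin d) (Fin d) K) (i : Fin d) : helper28_bd α Γ i.succ 0 = 0 := rfl

@[simp] theorem helper28_bd_ss {K : Type*} [Field K] {d : ℕ} (α : K)
    (Γ : Matrix (Fin d) (Fin d) K) (i j : Fin d) : helper28_bd α Γ i.succ j.succ = Γ i j := rfl

theorem helper28_bd_det {K : Type*} [Field K] {d : ℕ} (α : K) (Γ : Matrix (Fin d) (Fin d) K) :
    (helper28_bd α Γ).det = α * Γ.det := by
  rw [Matrix.det_succ_column_zero, Fin.sum_univ_succ]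
  have hsub : (helper28_bd α Γ).submatrix (Fin.succAbove 0) Fin.succ = Γ := by
    ext i j
    rfl
  simp only [helper28_bd_s0, mul_zero, zero_mul, Finset.sum_const_zero, add_zero, Fin.val_zero,
    pow_zero, one_mul, helper28_bd_00, hsub]

theorem helper28_bd_col {K : Type*} [Field K] {d : ℕ} (σ : K →+* K) (α : K)
    (Γ : Matrix (Fin d) (Fin d) K) (Y₁ : Matrix (Fin (d + 1)) (Fin (d + 1)) K)
    (h00 : Y₁ 0 0 = 0) (i : Fin (d + 1)) :
    (((helper28_bd α Γ).map σ)ᵀ * Y₁ * helper28_bd α Γ) i 0 =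
      (Fin.cons 0 (fun i' : Fin d => α * ∑ k', σ (Γ k' i') * Y₁ k'.succ 0) :
        Fin (d + 1) → K) i := by
  rw [Matrix.mul_apply, Fin.sum_univ_succ]
  simp only [helper28_bd_s0, mul_zero, Finset.sum_const_zero, add_zero, helper28_bd_00]
  rw [Matrix.mul_apply, Fin.sum_univ_succ, h00, mul_zero, zero_add]
  refine Fin.cases ?_ (fun i' => ?_) i
  · simp
  · simp [mul_comm]

theorem helper28_col_zero_core {K : Type*} [Field K] [Fintype K] [DecidableEq K] {q d : ℕ}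
    (hK : Fintype.card K = q ^ 2) (hd : 1 ≤ d) (σ : K →+* K) (hσ : ∀ x, σ x = x ^ q)
    (S : Set (Matrix (Fin (d + 1)) (Fin (d + 1)) K))
    (hstab : ∀ Y ∈ S, ∀ B : Matrix (Fin (d + 1)) (Fin (d + 1)) K, B.det = 1 →
      (B.map σ)ᵀ * Y * B ∈ S)
    (Y : Matrix (Fin (d + 1)) (Fin (d + 1)) K) (hY : Y ∈ S) (x : Fin (d + 1) → K)
    (hx : hval σ Y x = 0) (hYx : Y *ᵥ x ≠ 0) :
    (q ^ (d + d) - 1) / (q + 1) ≤
      Nat.card {b : Fin (d + 1) → K // b 0 = 0 ∧ b ≠ 0 ∧ ∃ Y' ∈ S, ∀ i, Y' i 0 = b i} := by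
  classical
  have hσσ : ∀ a, σ (σ a) = a := fun a => by
    rw [hσ, hσ]
    exact Cfsg.Agent.Lib.helper17.pow_q_pow_q hK a
  have hq2 : 2 ≤ q := Cfsg.Agent.Lib.helper17.two_le_of_card_eq_sq hK
  have hx0 : x ≠ 0 := by
    rintro rfl
    exact hYx (Matrix.mulVec_zero Y)
  obtain ⟨B₁, hB₁, hB₁x⟩ := sl_trans (by omega : 2 ≤ d + 1) (Pi.single 0 1) x (by simp) hx0
  have hB₁col : ∀ k, B₁ k 0 = x k := by
    intro k
    have := congrFun hB₁x k
    simpa using this
  set Y₁ := (B₁.map σ)ᵀ * Y * B₁ with hY₁def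
  have hY₁ : Y₁ ∈ S := hstab Y hY B₁ hB₁
  have hcol : ∀ i, Y₁ i 0 = ((B₁.map σ)ᵀ *ᵥ (Y *ᵥ x)) i := by
    intro i
    have h1 : Y₁ i 0 = (Y₁ *ᵥ Pi.single 0 1) i := by simp
    rw [h1, hY₁def, ← Matrix.mulVec_mulVec, ← Matrix.mulVec_mulVec, hB₁x]
  have h00 : Y₁ 0 0 = 0 := by
    rw [hcol, ← hx]
    simp only [Matrix.mulVec, dotProduct, Matrix.transpose_apply, Matrix.map_apply, hB₁col, hval,
      Finset.mul_sum, mul_assoc]
  set c : Fin d → K := fun i => Y₁ i.succ 0 with hc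
  have hdetσ : ((B₁.map σ)ᵀ).det ≠ 0 := by
    rw [Matrix.det_transpose, ← RingHom.mapMatrix_apply, ← RingHom.map_det, hB₁, map_one]
    exact one_ne_zero
  have hc0 : c ≠ 0 := by
    intro hc0
    apply hYx
    apply Matrix.eq_zero_of_mulVec_eq_zero hdetσ
    funext i
    rw [← hcol]
    refine Fin.cases ?_ (fun i' => ?_) i
    · exact h00
    · exact congrFun hc0 i'
  have hmem : ∀ (α : K) (Γ : Matrix (Fin d) (Fin d) K), α * Γ.det = 1 → ∀ b' : Fin d → K,
      (∀ i', b' i' = α * ∑ k', σ (Γ k' i') * c k') → b' ≠ 0 →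
      ((Fin.cons 0 b' : Fin (d + 1) → K) 0 = 0 ∧ (Fin.cons 0 b' : Fin (d + 1) → K) ≠ 0 ∧
        ∃ Y' ∈ S, ∀ i, Y' i 0 = (Fin.cons 0 b' : Fin (d + 1) → K) i) := by
    intro α Γ hdet b' hb' hb'0
    refine ⟨rfl, ?_, ((helper28_bd α Γ).map σ)ᵀ * Y₁ * helper28_bd α Γ,
      hstab Y₁ hY₁ _ (by rw [helper28_bd_det, hdet]), fun i => ?_⟩
    · intro h
      apply hb'0
      funext i'
      have := congrFun h i'.succ
      simpa using this
    · rw [helper28_bd_col σ α Γ Y₁ h00 i]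
      congr 1
      funext i'
      exact (hb' i').symm
  rcases Nat.lt_or_ge d 2 with hd1 | hd2
  · -- d = 1
    obtain rfl : d = 1 := by omega
    have hc00 : c 0 ≠ 0 := by
      intro h
      apply hc0
      funext i
      rw [Subsingleton.elim i 0]
      exact h
    let g : K → K := fun α => α * (σ α)⁻¹
    let s : Finset K := Finset.univ.filter (fun α => α ≠ 0)
    let R : Finset K := Finset.univ.filter (fun t => t ^ q = t)
    have hR : R.card ≤ q := by
      have hsub : R ⊆ (Polynomial.X ^ q - Polynomial.X : Polynomial K).roots.toFinset := by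
        intro t ht
        rw [Multiset.mem_toFinset,
          Polynomial.mem_roots (FiniteField.X_pow_card_sub_X_ne_zero K (by omega))]
        simp [Polynomial.IsRoot, (Finset.mem_filter.1 ht).2]
      calc R.card ≤ _ := Finset.card_le_card hsub
        _ ≤ Multiset.card (Polynomial.X ^ q - Polynomial.X : Polynomial K).roots :=
            Multiset.toFinset_card_le _
        _ ≤ (Polynomial.X ^ q - Polynomial.X : Polynomial K).natDegree :=
            Polynomial.card_roots' _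
        _ = q := FiniteField.X_pow_card_sub_X_natDegree_eq K (by omega)
    have hfib : ∀ ζ ∈ s.image g, (s.filter (fun α => g α = ζ)).card ≤ q := by
      intro ζ hζ
      obtain ⟨α₀, hα₀s, hα₀⟩ := Finset.mem_image.1 hζ
      have hα₀0 : α₀ ≠ 0 := (Finset.mem_filter.1 hα₀s).2
      refine le_trans (Finset.card_le_card_of_injOn (fun α => α * α₀⁻¹) ?_ ?_) hR
      · intro α hα
        have hα' := Finset.mem_filter.1 (Finset.mem_coe.1 hα)
        have hα0 : α ≠ 0 := (Finset.mem_filter.1 hα'.1).2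
        have hg : α * (σ α)⁻¹ = α₀ * (σ α₀)⁻¹ := hα'.2.trans hα₀.symm
        have hσα : σ α ≠ 0 := (map_ne_zero σ).2 hα0
        have hσα₀ : σ α₀ ≠ 0 := (map_ne_zero σ).2 hα₀0
        refine Finset.mem_coe.2 (Finset.mem_filter.2 ⟨Finset.mem_univ _, ?_⟩)
        rw [← hσ, map_mul, map_inv₀]
        field_simp
        field_simp at hg
        linear_combination -hg
      · intro a _ b _ hab
        exact mul_right_cancel₀ (inv_ne_zero hα₀0) hab
    have hscard : s.card = q ^ 2 - 1 := by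
      show (Finset.univ.filter (fun α : K => α ≠ 0)).card = q ^ 2 - 1
      rw [Finset.filter_ne', Finset.card_erase_of_mem (Finset.mem_univ _), Finset.card_univ, hK]
    have hI : q ^ 2 - 1 ≤ q * (s.image g).card := by
      rw [← hscard]
      exact Finset.card_le_mul_card_image s q hfib
    have hall : ∀ ζ ∈ s.image g,
        ((Fin.cons 0 (fun _ => ζ * c 0) : Fin (1 + 1) → K) 0 = 0 ∧
          (Fin.cons 0 (fun _ => ζ * c 0) : Fin (1 + 1) → K) ≠ 0 ∧
          ∃ Y' ∈ S, ∀ i, Y' i 0 = (Fin.cons 0 (fun _ => ζ * c 0) : Fin (1 + 1) → K) i) := by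
      intro ζ hζ
      obtain ⟨α, hαs, rfl⟩ := Finset.mem_image.1 hζ
      have hα0 : α ≠ 0 := (Finset.mem_filter.1 hαs).2
      have hσα : σ α ≠ 0 := (map_ne_zero σ).2 hα0
      refine hmem α (Matrix.of fun _ _ => α⁻¹) ?_ _ (fun i' => ?_) ?_
      · rw [Matrix.det_fin_one]
        simp [hα0]
      · simp [g, map_inv₀]
        ring
      · intro h
        have := congrFun h 0
        simp [g, hα0, hc00, hσα] at this
    let f : {ζ // ζ ∈ s.image g} →
        {b : Fin (1 + 1) → K // b 0 = 0 ∧ b ≠ 0 ∧ ∃ Y' ∈ S, ∀ i, Y' i 0 = b i} :=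
      fun ζ => ⟨Fin.cons 0 (fun _ => ζ.1 * c 0), hall ζ.1 ζ.2⟩
    have hf : Function.Injective f := by
      intro a b hab
      apply Subtype.ext
      have h1 : (Fin.cons 0 (fun _ => a.1 * c 0) : Fin (1 + 1) → K) =
          Fin.cons 0 (fun _ => b.1 * c 0) := congrArg Subtype.val hab
      have h2 := congrFun h1 (Fin.succ 0)
      rw [Fin.cons_succ, Fin.cons_succ] at h2
      exact mul_right_cancel₀ hc00 h2
    have hle : (s.image g).card ≤
        Nat.card {b : Fin (1 + 1) → K // b 0 = 0 ∧ b ≠ 0 ∧ ∃ Y' ∈ S, ∀ i, Y' i 0 = b i} := by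
      have h3 : Nat.card {ζ // ζ ∈ s.image g} = (s.image g).card := by
        rw [Nat.card_eq_fintype_card, Fintype.card_coe]
      rw [← h3]
      exact Nat.card_le_card_of_injective f hf
    apply Nat.div_le_of_le_mul
    calc q ^ (1 + 1) - 1 = q ^ 2 - 1 := rfl
      _ ≤ q * (s.image g).card := hI
      _ ≤ (q + 1) * (s.image g).card := Nat.mul_le_mul_right _ (Nat.le_succ q)
      _ ≤ (q + 1) * Nat.card _ := Nat.mul_le_mul_left _ hle
  · -- d ≥ 2
    have hall : ∀ b' : Fin d → K, b' ≠ 0 →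
        ((Fin.cons 0 b' : Fin (d + 1) → K) 0 = 0 ∧ (Fin.cons 0 b' : Fin (d + 1) → K) ≠ 0 ∧
          ∃ Y' ∈ S, ∀ i, Y' i 0 = (Fin.cons 0 b' : Fin (d + 1) → K) i) := by
      intro b' hb'
      obtain ⟨Γ', hΓ', hΓ'c⟩ := sl_trans hd2 c b' hc0 hb'
      refine hmem 1 ((Γ'ᵀ).map σ) ?_ b' (fun i' => ?_) hb'
      · rw [one_mul, ← RingHom.mapMatrix_apply, ← RingHom.map_det, Matrix.det_transpose, hΓ',
          map_one]
      · rw [one_mul, ← hΓ'c]
        simp [Matrix.mulVec, dotProduct, hσσ]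
    let f : {b' : Fin d → K // b' ≠ 0} →
        {b : Fin (d + 1) → K // b 0 = 0 ∧ b ≠ 0 ∧ ∃ Y' ∈ S, ∀ i, Y' i 0 = b i} :=
      fun b' => ⟨Fin.cons 0 b'.1, hall b'.1 b'.2⟩
    have hf : Function.Injective f := by
      intro a b hab
      apply Subtype.ext
      have h1 : (Fin.cons 0 a.1 : Fin (d + 1) → K) = Fin.cons 0 b.1 := congrArg Subtype.val hab
      funext i
      have h2 := congrFun h1 i.succ
      rw [Fin.cons_succ, Fin.cons_succ] at h2
      exact h2
    have hcard : Nat.card {b' : Fin d → K // b' ≠ 0} = q ^ (d + d) - 1 := by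
      rw [Nat.card_eq_fintype_card, Fintype.card_subtype_compl, Fintype.card_subtype_eq,
        Fintype.card_pi_const, hK, ← pow_mul, two_mul]
    calc (q ^ (d + d) - 1) / (q + 1) ≤ q ^ (d + d) - 1 := Nat.div_le_self _ _
      _ = Nat.card {b' : Fin d → K // b' ≠ 0} := hcard.symm
      _ ≤ _ := Nat.card_le_card_of_injective f hf

/-- COLZ (L), racer copy: verbatim Skel statement of `col_zero` under a prefixed name. -/
theorem helper28_col_zero {K : Type*} [Field K] [Fintype K] [DecidableEq K] {q m : ℕ}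
    (hK : Fintype.card K = q ^ 2) (hm : 2 ≤ m) (σ : K →+* K) (hσ : ∀ x, σ x = x ^ q)
    (S : Set (Matrix (Fin m) (Fin m) K)) (hS : ∀ Y ∈ S, Y ∈ skewH σ m)
    (hstab : ∀ Y ∈ S, ∀ B : Matrix (Fin m) (Fin m) K, B.det = 1 → (B.map σ)ᵀ * Y * B ∈ S)
    (Y : Matrix (Fin m) (Fin m) K) (hY : Y ∈ S) (x : Fin m → K) (hx : hval σ Y x = 0)
    (hYx : Y *ᵥ x ≠ 0) :
    (q ^ ((m - 1) + (m - 1)) - 1) / (q + 1) ≤
      Nat.card {b : Fin m → K // b ⟨0, by omega⟩ = 0 ∧ b ≠ 0 ∧ ∃ Y' ∈ S, ∀ i, Y' i ⟨0, by omega⟩ = b i} := by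
  obtain ⟨d, rfl⟩ : ∃ d, m = d + 1 := ⟨m - 1, by omega⟩
  exact helper28_col_zero_core hK (by omega) σ hσ S hstab Y hY x hx hYx

end Cfsg.Agent.Lib.helper44.SUW
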