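import Mathlib

set_option autoImplicit false
set_option linter.style.haveILetI false
set_option linter.unusedSectionVars false

/-!
# Soft subgroups of `p`-groups (Héthelyi)

An abelian subgroup `E` of a finite `p`-group `P` is *soft* when `C_P(E) = E` and
`|N_P(E) : E| = p`.  We prove that the normalizer tower `N₀ = E`, `N_{i+1} = N_P(N_i)` has all
steps of index `p`, that every subgroup containing `E` is a member of the tower, and that the
`i`-th member has nilpotency class `i + 1` as long as it is proper.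

The abstract notion used for the induction is `GT p n M`: a chain `M 0 < ⋯ < M n = ⊤` of
subgroups with `M 0` abelian and self-centralizing, `M (i+1) = N(M i)`, all steps but possibly the
last of index `p`, and `M (n-1) ≠ ⊤`.
-/

namespace Cfsg.Agent.Lib.helper28.Soft

open Subgroup
open scoped commutatorElement

variable {G : Type*} [Group G]

/-- The conjugate `g H g⁻¹`. -/
abbrev cj (g : G) (H : Subgroup G) : Subgroup G := H.map (MulAut.conj g).toMonoidHom

theorem mem_cj {g x : G} {H : Subgroup G} : x ∈ cj g H ↔ g⁻¹ * x * g ∈ H := by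
  rw [cj, Subgroup.mem_map_equiv]
  simp [MulAut.conj_symm_apply]

theorem conj_mem_cj {g x : G} {H : Subgroup G} (hx : x ∈ H) : g * x * g⁻¹ ∈ cj g H := by
  rw [mem_cj]
  simpa [mul_assoc] using hx

theorem card_cj [Finite G] (g : G) (H : Subgroup G) : Nat.card (cj g H) = Nat.card H :=
  Subgroup.card_map_of_injective (MulAut.conj g).injective

theorem cj_eq_self_iff [Finite G] {g : G} {H : Subgroup G} :
    cj g H = H ↔ g ∈ normalizer (H : Set G) := by
  constructor
  · intro h
    rw [Subgroup.mem_normalizer_iff]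
    intro x
    constructor
    · intro hx
      have := conj_mem_cj (g := g) hx
      rwa [h] at this
    · intro hx
      rw [← h, mem_cj] at hx
      simpa [mul_assoc] using hx
  · intro h
    apply Subgroup.eq_of_le_of_card_ge
    · intro x hx
      rw [mem_cj] at hx
      have h2 := (Subgroup.mem_normalizer_iff.mp h (g⁻¹ * x * g)).mp hx
      simpa [mul_assoc] using h2
    · rw [card_cj]

theorem normalizer_cj (g : G) (H : Subgroup G) :
    normalizer (cj g H : Set G) = cj g (normalizer (H : Set G)) :=
  (Subgroup.map_equiv_normalizer_eq H (MulAut.conj g)).symm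

theorem relIndex_cj (g : G) (H K : Subgroup G) : (cj g H).relIndex (cj g K) = H.relIndex K :=
  Subgroup.relIndex_map_map_of_injective H K (MulAut.conj g).injective

theorem cj_mono {g : G} {H K : Subgroup G} (h : H ≤ K) : cj g H ≤ cj g K :=
  Subgroup.map_mono h

theorem card_mul_relIndex {H K : Subgroup G} (h : H ≤ K) :
    Nat.card H * H.relIndex K = Nat.card K := by
  have := Subgroup.relIndex_inf_mul_relIndex (⊥ : Subgroup G) H K
  rwa [Subgroup.relIndex_bot_left, bot_inf_eq, Subgroup.relIndex_bot_left,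
    inf_eq_left.mpr h] at this

/-- No subgroup lies strictly between `H` and `K` when `|K : H|` is prime. -/
theorem eq_of_relIndex_prime {p : ℕ} (hp : p.Prime) {H K' K : Subgroup G} (h1 : H ≤ K')
    (h2 : K' ≤ K) (hidx : H.relIndex K = p) (hne : H ≠ K') : K' = K := by
  have h3 := Subgroup.relIndex_mul_relIndex H K' K h1 h2
  rw [hidx] at h3
  have h4 : H.relIndex K' ≠ 1 := fun h => hne (le_antisymm h1 (Subgroup.relIndex_eq_one.mp h))
  have h5 : K'.relIndex K = 1 := by
    rcases (Nat.dvd_prime hp).mp (Dvd.intro _ h3) with h | h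
    · exact absurd h h4
    · rw [h] at h3
      exact Nat.eq_of_mul_eq_mul_left hp.pos (by rw [h3, mul_one])
  exact le_antisymm h2 (Subgroup.relIndex_eq_one.mp h5)

/-- Normalizers grow in `p`-groups (relative form). -/
theorem exists_mem_normalizer_not_mem {p : ℕ} [Fact p.Prime] [Finite G] (hG : IsPGroup p G)
    {H K : Subgroup G} (h : H < K) : ∃ w ∈ K, w ∈ normalizer (H : Set G) ∧ w ∉ H := by
  haveI : Group.IsNilpotent K := (hG.to_subgroup K).isNilpotent
  have hlt : H.subgroupOf K < ⊤ := by
    rw [lt_top_iff_ne_top, Ne, Subgroup.subgroupOf_eq_top]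
    exact not_le_of_gt h
  have h2 := Group.normalizerCondition_of_isNilpotent (G := K) _ hlt
  obtain ⟨w, hw1, hw2⟩ := SetLike.exists_of_lt h2
  refine ⟨w, w.2, ?_, fun hh => hw2 (Subgroup.mem_subgroupOf.mpr hh)⟩
  rw [← Subgroup.subgroupOf_normalizer_eq h.le] at hw1
  exact Subgroup.mem_subgroupOf.mp hw1

/-- If `H` is normal of prime index in `K` then `K / H` is abelian. -/
theorem comm_mem_of_relIndex_prime {p : ℕ} (hp : p.Prime) {H K : Subgroup G} (hHK : H ≤ K)
    (hn : K ≤ normalizer (H : Set G)) (hidx : H.relIndex K = p) {x y : G} (hx : x ∈ K)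
    (hy : y ∈ K) : x * y * x⁻¹ * y⁻¹ ∈ H := by
  haveI : (H.subgroupOf K).Normal := (Subgroup.normal_subgroupOf_iff_le_normalizer hHK).mpr hn
  haveI : Fact p.Prime := ⟨hp⟩
  have hcard : Nat.card (K ⧸ H.subgroupOf K) = p := by
    rw [← Subgroup.index_eq_card]; exact hidx
  haveI : IsCyclic (K ⧸ H.subgroupOf K) := isCyclic_of_prime_card hcard
  obtain ⟨c, hc⟩ := IsCyclic.exists_generator (α := K ⧸ H.subgroupOf K)
  obtain ⟨i, hi⟩ := Subgroup.mem_zpowers_iff.mp (hc (QuotientGroup.mk ⟨x, hx⟩))
  obtain ⟨j, hj⟩ := Subgroup.mem_zpowers_iff.mp (hc (QuotientGroup.mk ⟨y, hy⟩))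
  have h1 : ((⟨x, hx⟩ * ⟨y, hy⟩ * ⟨x, hx⟩⁻¹ * ⟨y, hy⟩⁻¹ : K) : K ⧸ H.subgroupOf K) = 1 := by
    simp only [QuotientGroup.mk_mul, QuotientGroup.mk_inv, ← hi, ← hj]
    rw [← zpow_add, ← zpow_neg, ← zpow_neg, ← zpow_add, ← zpow_add]
    have : i + j + -i + -j = 0 := by ring
    rw [this, zpow_zero]
  rw [QuotientGroup.eq_one_iff] at h1
  exact Subgroup.mem_subgroupOf.mp h1


theorem cj_comm {g : G} {H : Subgroup G} (hH : ∀ x ∈ H, ∀ y ∈ H, x * y = y * x) :
    ∀ x ∈ cj g H, ∀ y ∈ cj g H, x * y = y * x := by
  intro x hx y hy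
  rw [mem_cj] at hx hy
  have h := hH _ hx _ hy
  have h2 : g⁻¹ * (x * y) * g = g⁻¹ * (y * x) * g := by
    calc g⁻¹ * (x * y) * g = (g⁻¹ * x * g) * (g⁻¹ * y * g) := by group
      _ = (g⁻¹ * y * g) * (g⁻¹ * x * g) := h
      _ = g⁻¹ * (y * x) * g := by group
  exact mul_left_cancel (mul_right_cancel h2)

/-- An element commuting with `A` and with `B` commutes with `A ⊔ B`. -/
theorem comm_sup {z : G} {A B : Subgroup G} (hA : ∀ a ∈ A, a * z = z * a)
    (hB : ∀ b ∈ B, b * z = z * b) : ∀ t ∈ A ⊔ B, t * z = z * t := by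
  have h : A ⊔ B ≤ centralizer ({z} : Set G) := by
    apply sup_le
    · intro a ha
      rw [Subgroup.mem_centralizer_iff]
      intro w hw
      rw [Set.mem_singleton_iff] at hw
      rw [hw]; exact (hA a ha).symm
    · intro b hb
      rw [Subgroup.mem_centralizer_iff]
      intro w hw
      rw [Set.mem_singleton_iff] at hw
      rw [hw]; exact (hB b hb).symm
  intro t ht
  have := Subgroup.mem_centralizer_iff.mp (h ht) z (Set.mem_singleton z)
  exact this.symm

/-- The normalizer of `H` normalizes the centre of `H`. -/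
theorem normalizer_le_normalizer_center (H : Subgroup G) :
    normalizer (H : Set G) ≤ normalizer ((centralizer (H : Set G) ⊓ H : Subgroup G) : Set G) := by
  have key : ∀ a ∈ normalizer (H : Set G), ∀ v ∈ centralizer (H : Set G) ⊓ H,
      a * v * a⁻¹ ∈ centralizer (H : Set G) ⊓ H := by
    intro a ha v hv
    rw [Subgroup.mem_inf] at hv
    refine Subgroup.mem_inf.mpr ⟨?_, (Subgroup.mem_normalizer_iff.mp ha v).mp hv.2⟩
    rw [Subgroup.mem_centralizer_iff]
    intro t ht
    have ht' : a⁻¹ * t * a ∈ H := by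
      have := (Subgroup.mem_normalizer_iff.mp (inv_mem ha) t).mp ht
      simpa using this
    have hc := Subgroup.mem_centralizer_iff.mp hv.1 _ ht'
    calc t * (a * v * a⁻¹) = a * ((a⁻¹ * t * a) * v) * a⁻¹ := by group
      _ = a * (v * (a⁻¹ * t * a)) * a⁻¹ := by rw [hc]
      _ = a * v * a⁻¹ * t := by group
  intro a ha
  rw [Subgroup.mem_normalizer_iff]
  intro v
  refine ⟨key a ha v, fun hv => ?_⟩
  have := key a⁻¹ (inv_mem ha) _ hv
  have h2 : a⁻¹ * (a * v * a⁻¹) * a⁻¹⁻¹ = v := by group
  rwa [h2] at this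

theorem exists_mul_of_mem_sup {H N : Subgroup G} (hLE : H ≤ normalizer (N : Set G)) {x : G}
    (hx : x ∈ H ⊔ N) : ∃ h ∈ H, ∃ n ∈ N, h * n = x := by
  rw [sup_eq_closure_mul] at hx
  refine Subgroup.closure_induction (p := fun x _ => ∃ h ∈ H, ∃ n ∈ N, h * n = x)
    ?_ ?_ ?_ ?_ hx
  · rintro y ⟨h, hh, n, hn, rfl⟩
    exact ⟨h, hh, n, hn, rfl⟩
  · exact ⟨1, one_mem _, 1, one_mem _, mul_one 1⟩
  · rintro y z _ _ ⟨h₁, hh₁, n₁, hn₁, rfl⟩ ⟨h₂, hh₂, n₂, hn₂, rfl⟩
    refine ⟨h₁ * h₂, mul_mem hh₁ hh₂, (h₂⁻¹ * n₁ * h₂) * n₂, mul_mem ?_ hn₂, by group⟩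
    have := (Subgroup.mem_normalizer_iff.mp (hLE (inv_mem hh₂)) n₁).mp hn₁
    simpa using this
  · rintro y _ ⟨h, hh, n, hn, rfl⟩
    refine ⟨h⁻¹, inv_mem hh, h * n⁻¹ * h⁻¹, ?_, by group⟩
    exact (Subgroup.mem_normalizer_iff.mp (hLE hh) n⁻¹).mp (inv_mem hn)

/-- A generalized soft tower of length `n`: `M 0` abelian and self-centralizing,
`M (i+1) = N(M i)` for `i < n`, index `p` for all steps but possibly the last, `M n = ⊤` and
`M (n-1) ≠ ⊤`. -/
structure GT (p n : ℕ) (M : ℕ → Subgroup G) : Prop where
  comm : ∀ x ∈ M 0, ∀ y ∈ M 0, x * y = y * x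
  cent : centralizer (M 0 : Set G) ≤ M 0
  nor : ∀ i, i < n → normalizer (M i : Set G) = M (i + 1)
  idx : ∀ i, i + 1 < n → (M i).relIndex (M (i + 1)) = p
  top : M n = ⊤
  ne : M (n - 1) ≠ ⊤

namespace GT

variable {p n : ℕ} {M : ℕ → Subgroup G}

theorem le_succ (h : GT p n M) {i : ℕ} (hi : i < n) : M i ≤ M (i + 1) := by
  rw [← h.nor i hi]; exact Subgroup.le_normalizer

theorem mono (h : GT p n M) {i j : ℕ} (hij : i ≤ j) (hj : j ≤ n) : M i ≤ M j := by
  induction j, hij using Nat.le_induction with
  | base => exact le_rfl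
  | succ k hk ih => exact (ih (by omega)).trans (h.le_succ (by omega))

theorem ne_succ (h : GT p n M) (hp : p.Prime) {i : ℕ} (hi : i < n) : M i ≠ M (i + 1) := by
  intro heq
  by_cases h1 : i + 1 < n
  · have := h.idx i h1
    rw [← heq, Subgroup.relIndex_self] at this
    exact hp.one_lt.ne this
  · have h3 : i + 1 = n := by omega
    have h2 : n - 1 = i := by omega
    rw [h3, h.top] at heq
    exact h.ne (h2 ▸ heq)

theorem card_succ (h : GT p n M) {i : ℕ} (hi : i + 1 < n) :
    Nat.card (M (i + 1)) = Nat.card (M i) * p := by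
  rw [← card_mul_relIndex (h.le_succ (by omega)), h.idx i hi]

/-- A subgroup containing `M 0` and at least as large as `M j` contains `M j`. -/
theorem le_of_card_le [Finite G] [Fact p.Prime] (h : GT p n M) (hG : IsPGroup p G)
    {K : Subgroup G} (hK : M 0 ≤ K) :
    ∀ j, j < n → Nat.card (M j) ≤ Nat.card K → M j ≤ K := by
  have hp : p.Prime := Fact.out
  intro j
  induction j with
  | zero => intro _ _; exact hK
  | succ j ih =>
    intro hj hc
    have hcs := h.card_succ hj
    have h1 : M j ≤ K := ih (by omega)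
      (by rw [hcs] at hc; exact le_trans (Nat.le_mul_of_pos_right _ hp.pos) hc)
    have h2 : M j ≠ K := by
      intro heq
      rw [hcs, heq] at hc
      have hpos : 0 < Nat.card K := Nat.card_pos
      have := hp.one_lt
      nlinarith
    obtain ⟨w, hwK, hwN, hwM⟩ := exists_mem_normalizer_not_mem hG (lt_of_le_of_ne h1 h2)
    rw [h.nor j (by omega)] at hwN
    have h3 : K ⊓ M (j + 1) = M (j + 1) := by
      apply eq_of_relIndex_prime hp (le_inf h1 (h.le_succ (by omega))) inf_le_right (h.idx j hj)
      intro heq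
      exact hwM (heq.symm ▸ Subgroup.mem_inf.mpr ⟨hwK, hwN⟩)
    exact h3 ▸ inf_le_left

/-- Key lemma: commutators of `M 1` are central in `M m` for every `m ≤ n - 1`. -/
theorem comm_central [Finite G] [Fact p.Prime] (h : GT p n M) (hG : IsPGroup p G) :
    ∀ m, 1 ≤ m → m + 1 ≤ n → ∀ x ∈ M 1, ∀ y ∈ M 1, ∀ t ∈ M m,
      t * (x * y * x⁻¹ * y⁻¹) = (x * y * x⁻¹ * y⁻¹) * t := by
  have hp : p.Prime := Fact.out
  intro m hm
  induction m, hm using Nat.le_induction with
  | base =>
    intro hn x hx y hy
    obtain ⟨g, hg2, hg1⟩ := SetLike.exists_of_lt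
      (lt_of_le_of_ne (h.le_succ (i := 1) (by omega)) (h.ne_succ hp (by omega)))
    have hgN1 : g ∈ normalizer (M 1 : Set G) := by rw [h.nor 1 (by omega)]; exact hg2
    have hgN0 : g ∉ normalizer (M 0 : Set G) := by rw [h.nor 0 (by omega)]; exact hg1
    have hH1 : cj g (M 0) ≤ M 1 := by
      have := cj_mono (g := g) (h.le_succ (i := 0) (by omega))
      rwa [cj_eq_self_iff.mpr hgN1] at this
    have hHne : cj g (M 0) ≠ M 0 := fun hh => hgN0 (cj_eq_self_iff.mp hh)
    have hHidx : (cj g (M 0)).relIndex (M 1) = p := by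
      have := relIndex_cj g (M 0) (M 1)
      rw [cj_eq_self_iff.mpr hgN1, h.idx 0 (by omega)] at this
      exact this
    have hHnor : M 1 ≤ normalizer (cj g (M 0) : Set G) := by
      rw [normalizer_cj, h.nor 0 (by omega), cj_eq_self_iff.mpr hgN1]
    have hz0 : x * y * x⁻¹ * y⁻¹ ∈ M 0 :=
      comm_mem_of_relIndex_prime hp (h.le_succ (by omega)) (by rw [h.nor 0 (by omega)])
        (h.idx 0 (by omega)) hx hy
    have hz1 : x * y * x⁻¹ * y⁻¹ ∈ cj g (M 0) :=
      comm_mem_of_relIndex_prime hp hH1 hHnor hHidx hx hy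
    have hsup : M 0 ⊔ cj g (M 0) = M 1 := by
      apply eq_of_relIndex_prime hp le_sup_left (sup_le (h.le_succ (by omega)) hH1)
        (h.idx 0 (by omega))
      intro heq
      apply hHne
      apply Subgroup.eq_of_le_of_card_ge
      · exact le_of_le_of_eq le_sup_right heq.symm
      · rw [card_cj]
    intro t ht
    rw [← hsup] at ht
    exact comm_sup (fun a ha => h.comm a ha _ hz0)
      (fun b hb => cj_comm h.comm b hb _ hz1) t ht
  | succ m hm ih =>
    intro hn x hx y hy
    have ihz := ih (by omega) x hx y hy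
    set z := x * y * x⁻¹ * y⁻¹ with hz
    have hzM1 : z ∈ M 1 := mul_mem (mul_mem (mul_mem hx hy) (inv_mem hx)) (inv_mem hy)
    have hzMm : z ∈ M m := h.mono hm (by omega) hzM1
    obtain ⟨g, hg2, hg1⟩ := SetLike.exists_of_lt
      (lt_of_le_of_ne (h.le_succ (i := m + 1) (by omega)) (h.ne_succ hp (by omega)))
    have hgN1 : g ∈ normalizer (M (m + 1) : Set G) := by rw [h.nor (m + 1) (by omega)]; exact hg2
    have hgN0 : g ∉ normalizer (M m : Set G) := by rw [h.nor m (by omega)]; exact hg1
    have hH1 : cj g (M m) ≤ M (m + 1) := by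
      have := cj_mono (g := g) (h.le_succ (i := m) (by omega))
      rwa [cj_eq_self_iff.mpr hgN1] at this
    have hHne : cj g (M m) ≠ M m := fun hh => hgN0 (cj_eq_self_iff.mp hh)
    have hHidx : (cj g (M m)).relIndex (M (m + 1)) = p := by
      have := relIndex_cj g (M m) (M (m + 1))
      rw [cj_eq_self_iff.mpr hgN1, h.idx m (by omega)] at this
      exact this
    have hHnor : M (m + 1) ≤ normalizer (cj g (M m) : Set G) := by
      rw [normalizer_cj, h.nor m (by omega), cj_eq_self_iff.mpr hgN1]
    have hsup : M m ⊔ cj g (M m) = M (m + 1) := by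
      apply eq_of_relIndex_prime hp le_sup_left (sup_le (h.le_succ (by omega)) hH1)
        (h.idx m (by omega))
      intro heq
      apply hHne
      apply Subgroup.eq_of_le_of_card_ge
      · exact le_of_le_of_eq le_sup_right heq.symm
      · rw [card_cj]
    by_cases hV : centralizer (cj g (M m) : Set G) ⊓ cj g (M m) ≤ M 0
    · -- the centre of the conjugate lies in `M 0`
      have h0 : ¬ M 0 ≤ cj g (M m) := by
        intro h0
        have h1 := h.le_of_card_le hG h0 m (by omega) (by rw [card_cj])
        exact hHne (Subgroup.eq_of_le_of_card_ge h1 (by rw [card_cj])).symm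
      have hsup2 : M 0 ⊔ cj g (M m) = M (m + 1) := by
        apply eq_of_relIndex_prime hp le_sup_right
          (sup_le (h.mono (Nat.zero_le _) (by omega)) hH1) hHidx
        intro heq
        apply h0
        exact le_of_le_of_eq le_sup_left heq.symm
      have hgz : g * z * g⁻¹ ∈ centralizer (cj g (M m) : Set G) ⊓ cj g (M m) := by
        refine Subgroup.mem_inf.mpr ⟨?_, conj_mem_cj hzMm⟩
        rw [Subgroup.mem_centralizer_iff]
        intro t ht
        have ht' : g⁻¹ * t * g ∈ M m := mem_cj.mp ht
        have hc := ihz _ ht'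
        calc t * (g * z * g⁻¹) = g * ((g⁻¹ * t * g) * z) * g⁻¹ := by group
          _ = g * (z * (g⁻¹ * t * g)) * g⁻¹ := by rw [hc]
          _ = g * z * g⁻¹ * t := by group
      have hcen : ∀ t ∈ M (m + 1), t * (g * z * g⁻¹) = (g * z * g⁻¹) * t := by
        intro t ht
        rw [← hsup2] at ht
        refine comm_sup (fun a ha => h.comm a ha _ (hV hgz)) (fun b hb => ?_) t ht
        exact (Subgroup.mem_centralizer_iff.mp hgz.1 b hb)
      intro t ht
      have ht' : g * t * g⁻¹ ∈ M (m + 1) :=
        (Subgroup.mem_normalizer_iff.mp hgN1 t).mp ht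
      have hc := hcen _ ht'
      have h2 : g * (t * z) * g⁻¹ = g * (z * t) * g⁻¹ := by
        calc g * (t * z) * g⁻¹ = (g * t * g⁻¹) * (g * z * g⁻¹) := by group
          _ = (g * z * g⁻¹) * (g * t * g⁻¹) := hc
          _ = g * (z * t) * g⁻¹ := by group
      exact mul_left_cancel (mul_right_cancel h2)
    · -- the centre of the conjugate is not contained in `M 0`
      set V := centralizer (cj g (M m) : Set G) ⊓ cj g (M m) with hVdef
      have hVnor : M 0 ≤ normalizer (V : Set G) :=
        ((h.mono (Nat.zero_le _) (by omega)).trans hHnor).trans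
          (normalizer_le_normalizer_center _)
      have hlt : M 0 < M 0 ⊔ V := by
        refine lt_of_le_of_ne le_sup_left fun heq => hV ?_
        exact le_of_le_of_eq le_sup_right heq.symm
      obtain ⟨w, hw1, hw2, hw3⟩ := exists_mem_normalizer_not_mem hG hlt
      rw [h.nor 0 (by omega)] at hw2
      have h3 : (M 0 ⊔ V) ⊓ M 1 = M 1 := by
        apply eq_of_relIndex_prime hp (le_inf le_sup_left (h.le_succ (by omega))) inf_le_right
          (h.idx 0 (by omega))
        intro heq
        exact hw3 (heq.symm ▸ Subgroup.mem_inf.mpr ⟨hw1, hw2⟩)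
      have hM1 : M 1 ≤ M 0 ⊔ V := h3 ▸ inf_le_left
      obtain ⟨a, ha, v, hv, hav⟩ := exists_mul_of_mem_sup hVnor (hM1 hx)
      obtain ⟨b, hb, v', hv', hbv⟩ := exists_mul_of_mem_sup hVnor (hM1 hy)
      have hab := h.comm a ha b hb
      have hzV : z ∈ V := by
        have e : z = (a * v * a⁻¹) * (a * b * (v' * v⁻¹) * (a * b)⁻¹) * (b * v'⁻¹ * b⁻¹) := by
          rw [hz, ← hav, ← hbv]
          rw [show (a * b)⁻¹ = a⁻¹ * b⁻¹ by rw [hab, mul_inv_rev]]
          group
        rw [e]
        refine mul_mem (mul_mem ?_ ?_) ?_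
        · exact (Subgroup.mem_normalizer_iff.mp (hVnor ha) v).mp hv
        · exact (Subgroup.mem_normalizer_iff.mp (hVnor (mul_mem ha hb)) _).mp
            (mul_mem hv' (inv_mem hv))
        · exact (Subgroup.mem_normalizer_iff.mp (hVnor hb) _).mp (inv_mem hv')
      intro t ht
      rw [← hsup] at ht
      exact comm_sup (fun a ha => ihz a ha)
        (fun b hb => Subgroup.mem_centralizer_iff.mp hzV.1 b hb) t ht


theorem cj_eq_of_eq {u u₀ : G} {H : Subgroup G} (h : cj u H = cj u₀ H) :
    cj (u₀⁻¹ * u) H = H := by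
  ext y
  rw [mem_cj]
  have h1 : (u₀⁻¹ * u)⁻¹ * y * (u₀⁻¹ * u) = u⁻¹ * (u₀ * y * u₀⁻¹) * u := by group
  rw [h1, ← mem_cj, h, mem_cj]
  have h2 : u₀⁻¹ * (u₀ * y * u₀⁻¹) * u₀ = y := by group
  rw [h2]

theorem card_filter_mem [Fintype G] (H : Subgroup G) [DecidablePred (· ∈ H)] :
    (Finset.univ.filter (· ∈ H)).card = Nat.card H := by
  rw [Nat.card_eq_fintype_card, Fintype.card_subtype]

/-- Base case of the index statement: in a tower of length `2` the top step has index `p`. -/
theorem index_of_two [Finite G] [Fact p.Prime] (h : GT p 2 M) (hG : IsPGroup p G) :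
    (M 1).index = p := by
  classical
  have hp : p.Prime := Fact.out
  haveI := Fintype.ofFinite G
  have hN1 : normalizer (M 1 : Set G) = ⊤ := by rw [h.nor 1 (by omega), h.top]
  have hN0 : normalizer (M 0 : Set G) = M 1 := h.nor 0 (by omega)
  have hidx0 : (M 0).relIndex (M 1) = p := h.idx 0 (by omega)
  have h01 : M 0 ≤ M 1 := h.le_succ (by omega)
  have hne1 : M 1 ≠ ⊤ := h.ne
  set Z : Subgroup G := centralizer (M 1 : Set G) ⊓ M 1 with hZ
  have hZ0 : Z ≤ M 0 := fun v hv =>
    h.cent (Subgroup.centralizer_le (by exact_mod_cast h01) (Subgroup.mem_inf.mp hv).1)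
  have hZ1 : Z ≤ M 1 := inf_le_right
  have hcj1 : ∀ u : G, cj u (M 1) = M 1 := fun u =>
    cj_eq_self_iff.mpr (by rw [hN1]; exact Subgroup.mem_top u)
  have hH1 : ∀ u : G, cj u (M 0) ≤ M 1 := fun u => by
    have := cj_mono (g := u) h01
    rwa [hcj1 u] at this
  have hZH : ∀ u : G, Z ≤ cj u (M 0) := by
    intro u v hv
    rw [mem_cj]
    have hu : u⁻¹ ∈ normalizer (Z : Set G) :=
      normalizer_le_normalizer_center (M 1) (by rw [hN1]; exact Subgroup.mem_top _)
    have := (Subgroup.mem_normalizer_iff.mp hu v).mp hv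
    rw [inv_inv] at this
    exact hZ0 this
  have hHidx : ∀ u : G, (cj u (M 0)).relIndex (M 1) = p := fun u => by
    have := relIndex_cj u (M 0) (M 1)
    rw [hcj1 u, hidx0] at this
    exact this
  have hint : ∀ u u' : G, cj u (M 0) ≠ cj u' (M 0) → ∀ x, x ∈ cj u (M 0) → x ∈ cj u' (M 0) →
      x ∈ Z := by
    intro u u' hne x hx hx'
    have hsup : cj u (M 0) ⊔ cj u' (M 0) = M 1 := by
      apply eq_of_relIndex_prime hp le_sup_left (sup_le (hH1 u) (hH1 u')) (hHidx u)
      intro heq
      apply hne
      symm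
      apply Subgroup.eq_of_le_of_card_ge
      · exact le_of_le_of_eq le_sup_right heq.symm
      · rw [card_cj, card_cj]
    refine Subgroup.mem_inf.mpr ⟨?_, hH1 u hx⟩
    rw [Subgroup.mem_centralizer_iff]
    intro t ht
    have ht' : t ∈ cj u (M 0) ⊔ cj u' (M 0) := by rw [hsup]; exact ht
    exact comm_sup (fun a ha => cj_comm h.comm a ha x hx)
      (fun b hb => cj_comm h.comm b hb x hx') t ht'
  -- `Z` is a proper subgroup of `M 0`
  have hZne : ¬ M 0 ≤ Z := by
    intro hle
    have h10 : M 1 ≤ M 0 := by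
      intro t ht
      apply h.cent
      rw [Subgroup.mem_centralizer_iff]
      intro a ha
      exact (Subgroup.mem_centralizer_iff.mp (Subgroup.mem_inf.mp (hle ha)).1 t ht).symm
    exact h.ne_succ hp (i := 0) (by omega) (le_antisymm h01 h10)
  have hcZ : 2 * Nat.card Z ≤ Nat.card (M 0) := by
    have h1 := card_mul_relIndex hZ0
    have h2 : Z.relIndex (M 0) ≠ 1 := fun h3 => hZne (Subgroup.relIndex_eq_one.mp h3)
    have h3 : Z.relIndex (M 0) ≠ 0 := by
      intro h0
      rw [h0, mul_zero] at h1
      exact (Nat.card_pos (α := M 0)).ne h1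
    have h4 : 2 ≤ Z.relIndex (M 0) := by omega
    calc 2 * Nat.card Z = Nat.card Z * 2 := by ring
      _ ≤ Nat.card Z * Z.relIndex (M 0) := Nat.mul_le_mul_left _ h4
      _ = Nat.card (M 0) := h1
  have hc1 : Nat.card (M 1) = Nat.card (M 0) * p := by
    rw [← card_mul_relIndex h01, hidx0]
  -- the double counting
  let A : Finset G := Finset.univ.filter (fun x => x ∈ M 1 ∧ x ∉ Z)
  let r : G → G → Prop := fun u x => x ∈ cj u (M 0)
  have hAcard : A.card + Nat.card Z = Nat.card (M 1) := by
    rw [← card_filter_mem Z, ← card_filter_mem (M 1), ← Finset.card_union_of_disjoint]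
    · congr 1
      ext x
      simp only [A, Finset.mem_union, Finset.mem_filter, Finset.mem_univ, true_and]
      constructor
      · rintro (⟨h1, _⟩ | h1)
        · exact h1
        · exact hZ1 h1
      · intro h1
        by_cases hxZ : x ∈ Z
        · exact Or.inr hxZ
        · exact Or.inl ⟨h1, hxZ⟩
    · rw [Finset.disjoint_left]
      intro x hx hx'
      simp only [A, Finset.mem_filter, Finset.mem_univ, true_and] at hx hx'
      exact hx.2 hx'
  have hm : ∀ u ∈ (Finset.univ : Finset G),
      Nat.card (M 0) - Nat.card Z ≤ (A.bipartiteAbove r u).card := by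
    intro u _
    have h1 : (A.bipartiteAbove r u).card + Nat.card Z = Nat.card (M 0) := by
      rw [← card_cj u (M 0), ← card_filter_mem Z, ← card_filter_mem (cj u (M 0)),
        ← Finset.card_union_of_disjoint]
      · congr 1
        ext x
        simp only [A, r, Finset.bipartiteAbove, Finset.mem_union, Finset.mem_filter,
          Finset.mem_univ, true_and]
        constructor
        · rintro (⟨_, h1⟩ | h1)
          · exact h1
          · exact hZH u h1
        · intro h1
          by_cases hxZ : x ∈ Z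
          · exact Or.inr hxZ
          · exact Or.inl ⟨⟨hH1 u h1, hxZ⟩, h1⟩
      · rw [Finset.disjoint_left]
        intro x hx hx'
        simp only [A, r, Finset.bipartiteAbove, Finset.mem_filter, Finset.mem_univ,
          true_and] at hx hx'
        exact hx.1.2 hx'
    omega
  have hn : ∀ x ∈ A, ((Finset.univ : Finset G).bipartiteBelow r x).card ≤ Nat.card (M 1) := by
    intro x hxA
    simp only [A, Finset.mem_filter, Finset.mem_univ, true_and] at hxA
    by_cases hemp : (Finset.univ : Finset G).bipartiteBelow r x = ∅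
    · rw [hemp]; simp
    · obtain ⟨u₀, hu₀⟩ := Finset.nonempty_iff_ne_empty.mpr hemp
      simp only [r, Finset.bipartiteBelow, Finset.mem_filter, Finset.mem_univ, true_and] at hu₀
      rw [← card_filter_mem (M 1)]
      apply Finset.card_le_card_of_injOn (fun u => u₀⁻¹ * u)
      · intro u hu
        simp only [r, Finset.bipartiteBelow, Finset.coe_filter, Finset.mem_univ, true_and,
          Set.mem_ofPred_eq] at hu
        simp only [Finset.coe_filter, Finset.mem_univ, true_and, Set.mem_ofPred_eq]
        have heq : cj u (M 0) = cj u₀ (M 0) := by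
          by_contra hne
          exact hxA.2 (hint u u₀ hne x hu hu₀)
        have := cj_eq_self_iff.mp (cj_eq_of_eq heq)
        rwa [hN0] at this
      · intro u _ u' _ huu
        exact mul_left_cancel huu
  have hdc := Finset.card_nsmul_le_card_nsmul r (s := Finset.univ) (t := A) hm hn
  rw [smul_eq_mul, smul_eq_mul, Finset.card_univ, ← Nat.card_eq_fintype_card] at hdc
  -- arithmetic
  have hGc := Subgroup.card_mul_index (M 1)
  obtain ⟨e, he⟩ := hG.index (M 1)
  have hidx1 : (M 1).index ≠ 1 := fun h1 => hne1 (Subgroup.index_eq_one.mp h1)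
  have hm0 : 0 < Nat.card (M 0) := Nat.card_pos
  have hz0 : 0 < Nat.card Z := Nat.card_pos
  have hlt : (M 1).index < 2 * p := by
    set c := (M 1).index
    set m0 := Nat.card (M 0)
    set z := Nat.card Z
    set a := A.card
    obtain ⟨d, hd⟩ : ∃ d, m0 = z + d := ⟨m0 - z, by omega⟩
    have hd1 : m0 - z = d := by omega
    rw [hd1, ← hGc, hc1] at hdc
    rw [hc1] at hAcard
    -- hdc : m0 * p * c * d ≤ a * (m0 * p)
    have h5 : c * d ≤ a := by
      have h6 : (m0 * p) * (c * d) ≤ (m0 * p) * a := by
        calc (m0 * p) * (c * d) = m0 * p * c * d := by ring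
          _ ≤ a * (m0 * p) := hdc
          _ = (m0 * p) * a := by ring
      exact Nat.le_of_mul_le_mul_left h6 (Nat.mul_pos hm0 hp.pos)
    have h7 : a < m0 * p := by omega
    have h8 : m0 ≤ 2 * d := by omega
    have h9 : c * d < (2 * p) * d := by
      calc c * d ≤ a := h5
        _ < m0 * p := h7
        _ ≤ (2 * d) * p := Nat.mul_le_mul_right _ h8
        _ = (2 * p) * d := by ring
    exact Nat.lt_of_mul_lt_mul_right h9
  rw [he] at hlt hidx1 ⊢
  have he1 : e ≠ 0 := by
    intro h0
    rw [h0, pow_zero] at hidx1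
    exact hidx1 rfl
  have he2 : e < 2 := by
    by_contra hge
    have h1 : p ^ 2 ≤ p ^ e := Nat.pow_le_pow_right hp.pos (by omega)
    have h2 : 2 * p ≤ p ^ 2 := by
      rw [pow_two]; exact Nat.mul_le_mul_right _ hp.two_le
    omega
  have he3 : e = 1 := by omega
  rw [he3, pow_one]

end GT

theorem comm_of_comm_eq_one {a b : G} (h : a * b * a⁻¹ * b⁻¹ = 1) : a * b = b * a := by
  have := congrArg (· * (b * a)) h
  simpa [mul_assoc] using this


/-- Main structure theorem for generalized soft towers: the penultimate member `M (n-1)` has a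
central chain of length `n` ending in `M (n-1)`, and (for `n ≥ 2`) index `p`. -/
theorem main.{u} {p : ℕ} [Fact p.Prime] : ∀ (n : ℕ), 1 ≤ n → ∀ (G : Type u) [Group G] [Finite G]
    (_ : IsPGroup p G) (M : ℕ → Subgroup G), GT p n M →
    (∃ Q : ℕ → Subgroup G, Q 0 = ⊥ ∧ Q n = M (n - 1) ∧
      ∀ j, j < n → ∀ x ∈ Q (j + 1), ∀ y ∈ M (n - 1), x * y * x⁻¹ * y⁻¹ ∈ Q j) ∧
    (2 ≤ n → (M (n - 1)).index = p) := by
  intro n hn
  induction n, hn using Nat.le_induction with
  | base =>
    intro G _ _ hG M h
    refine ⟨⟨fun j => if j = 0 then ⊥ else M 0, by simp, by simp, ?_⟩, by omega⟩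
    intro j hj x hx y hy
    have hj0 : j = 0 := by omega
    subst hj0
    simp only [zero_add, one_ne_zero, if_false] at hx
    simp only [if_true]
    rw [Subgroup.mem_bot]
    have hy' : y ∈ M 0 := hy
    rw [h.comm x hx y hy']
    group
  | succ n hn ih =>
    intro G _ _ hG M h
    have hp : p.Prime := Fact.out
    have hnor : normalizer (M n : Set G) = ⊤ := by rw [h.nor n (by omega), h.top]
    haveI hMn : (M n).Normal := Subgroup.normalizer_eq_top_iff.mp hnor
    set Z : Subgroup G := centralizer (M n : Set G) ⊓ M n with hZdef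
    haveI hZn : Z.Normal := by rw [hZdef]; infer_instance
    have h0n : M 0 ≤ M n := h.mono (Nat.zero_le _) (by omega)
    have hZ0 : Z ≤ M 0 := fun v hv =>
      h.cent (Subgroup.centralizer_le (by exact_mod_cast h0n) (Subgroup.mem_inf.mp hv).1)
    set f : G →* G ⧸ Z := QuotientGroup.mk' Z with hfdef
    have hf : Function.Surjective f := QuotientGroup.mk'_surjective Z
    have hker : f.ker = Z := QuotientGroup.ker_mk' Z
    have hZle : ∀ i, i ≤ n + 1 → Z ≤ M i := fun i hi => hZ0.trans (h.mono (Nat.zero_le _) hi)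
    have hcomap : ∀ i, i ≤ n + 1 → comap f (map f (M i)) = M i := fun i hi => by
      rw [Subgroup.comap_map_eq, hker]; exact sup_eq_left.mpr (hZle i hi)
    have hGT : GT p n (fun i => map f (M (i + 1))) := by
      refine ⟨?_, ?_, ?_, ?_, ?_, ?_⟩
      · rintro _ ⟨x, hx, rfl⟩ _ ⟨y, hy, rfl⟩
        have hz : x * y * x⁻¹ * y⁻¹ ∈ Z := by
          refine Subgroup.mem_inf.mpr ⟨?_, ?_⟩
          · rw [Subgroup.mem_centralizer_iff]
            intro t ht
            exact h.comm_central hG n hn le_rfl x hx y hy t ht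
          · exact h.mono (i := 1) (j := n) hn (by omega)
              (mul_mem (mul_mem (mul_mem hx hy) (inv_mem hx)) (inv_mem hy))
        have h1 : f (x * y * x⁻¹ * y⁻¹) = 1 := by
          rw [← MonoidHom.mem_ker, hker]; exact hz
        rw [map_mul, map_mul, map_mul, map_inv, map_inv] at h1
        exact comm_of_comm_eq_one h1
      · intro xb hxb
        obtain ⟨x, rfl⟩ := hf xb
        have key : ∀ x : G, f x ∈ centralizer ((map f (M (0 + 1)) : Subgroup (G ⧸ Z)) : Set (G ⧸ Z)) →
            ∀ y ∈ M 0, x * y * x⁻¹ ∈ M 0 := by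
          intro x hx y hy
          have hy1 : f y ∈ map f (M (0 + 1)) :=
            Subgroup.mem_map_of_mem f (h.le_succ (by omega) hy)
          have hc := Subgroup.mem_centralizer_iff.mp hx (f y) hy1
          have hz : x * y * x⁻¹ * y⁻¹ ∈ Z := by
            rw [← hker, MonoidHom.mem_ker, map_mul, map_mul, map_mul, map_inv, map_inv, ← hc]
            group
          have := mul_mem (hZ0 hz) hy
          simpa [mul_assoc] using this
        have hxN : x ∈ normalizer (M 0 : Set G) := by
          rw [Subgroup.mem_normalizer_iff]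
          intro y
          refine ⟨key x hxb y, fun hy => ?_⟩
          have hx' : f x⁻¹ ∈ centralizer ((map f (M (0 + 1)) : Subgroup (G ⧸ Z)) : Set (G ⧸ Z)) := by
            rw [map_inv]; exact inv_mem hxb
          have := key x⁻¹ hx' _ hy
          simpa [mul_assoc] using this
        rw [h.nor 0 (by omega)] at hxN
        exact Subgroup.mem_map_of_mem f hxN
      · intro i hi
        apply Subgroup.comap_injective hf
        rw [Subgroup.comap_normalizer_eq_of_surjective _ hf, hcomap (i + 1) (by omega),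
          hcomap (i + 1 + 1) (by omega), h.nor (i + 1) (by omega)]
      · intro i hi
        show (map f (M (i + 1))).relIndex (map f (M (i + 1 + 1))) = p
        rw [Subgroup.relIndex_map_map, hker, sup_eq_left.mpr (hZle (i + 1) (by omega)),
          sup_eq_left.mpr (hZle (i + 1 + 1) (by omega)), h.idx (i + 1) (by omega)]
      · show map f (M (n + 1)) = ⊤
        rw [h.top]; exact Subgroup.map_top_of_surjective f hf
      · show map f (M (n - 1 + 1)) ≠ ⊤
        have e : n - 1 + 1 = n := by omega
        rw [e]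
        intro htop
        have h1 := hcomap n (by omega)
        rw [htop, Subgroup.comap_top] at h1
        exact h.ne h1.symm
    obtain ⟨⟨Qb, hQ0, hQn, hQc⟩, hidx⟩ := ih (G ⧸ Z) (hG.to_quotient Z) _ hGT
    have e : n - 1 + 1 = n := by omega
    refine ⟨⟨fun j => if j = 0 then ⊥ else comap f (Qb (j - 1)), by simp, ?_, ?_⟩, ?_⟩
    · show (if n + 1 = 0 then ⊥ else comap f (Qb (n + 1 - 1))) = M (n + 1 - 1)
      rw [if_neg (by omega), Nat.add_sub_cancel, hQn]
      show comap f (map f (M (n - 1 + 1))) = M n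
      rw [e]; exact hcomap n (by omega)
    · intro j hj x hx y hy
      have hy' : y ∈ M n := hy
      rcases Nat.eq_zero_or_pos j with rfl | hjpos
      · have hx' : x ∈ comap f (Qb 0) := by simpa using hx
        rw [hQ0, Subgroup.mem_comap, Subgroup.mem_bot, ← MonoidHom.mem_ker, hker] at hx'
        have hc := Subgroup.mem_centralizer_iff.mp (Subgroup.mem_inf.mp hx').1 y hy'
        show x * y * x⁻¹ * y⁻¹ ∈ (if (0 : ℕ) = 0 then (⊥ : Subgroup G) else comap f (Qb (0 - 1)))
        rw [if_pos rfl, Subgroup.mem_bot, ← hc]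
        group
      · obtain ⟨j', rfl⟩ : ∃ j', j = j' + 1 := ⟨j - 1, by omega⟩
        have hx' : f x ∈ Qb (j' + 1) := by
          have : x ∈ comap f (Qb (j' + 1 + 1 - 1)) := by simpa using hx
          simpa using this
        have hy'' : f y ∈ map f (M (n - 1 + 1)) := by
          rw [e]; exact Subgroup.mem_map_of_mem f hy'
        have := hQc j' (by omega) (f x) hx' (f y) hy''
        show x * y * x⁻¹ * y⁻¹ ∈ (if j' + 1 = 0 then (⊥ : Subgroup G) else comap f (Qb (j' + 1 - 1)))
        rw [if_neg (by omega), Nat.add_sub_cancel, Subgroup.mem_comap]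
        simpa using this
    · intro _
      show (M n).index = p
      by_cases hn2 : 2 ≤ n
      · have h1 := hidx hn2
        have h2 : (map f (M (n - 1 + 1))).index = p := h1
        rw [e, Subgroup.index_map_eq (M n) hf (by rw [hker]; exact hZle n (by omega))] at h2
        exact h2
      · have hn1 : n = 1 := by omega
        subst hn1
        exact h.index_of_two hG


section Tower

variable {P : Type*} [Group P]

/-- The normalizer tower of `E`. -/
def tw (E : Subgroup P) : ℕ → Subgroup P
  | 0 => E
  | (i + 1) => normalizer (tw E i : Set P)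

theorem tw_zero (E : Subgroup P) : tw E 0 = E := rfl

theorem tw_succ (E : Subgroup P) (i : ℕ) : tw E (i + 1) = normalizer (tw E i : Set P) := rfl

theorem tw_le_succ (E : Subgroup P) (i : ℕ) : tw E i ≤ tw E (i + 1) := Subgroup.le_normalizer

theorem tw_mono (E : Subgroup P) {i j : ℕ} (h : i ≤ j) : tw E i ≤ tw E j := by
  induction j, h using Nat.le_induction with
  | base => exact le_rfl
  | succ k hk ih => exact ih.trans (tw_le_succ E k)

theorem tw_eq_top (E : Subgroup P) {i j : ℕ} (h : i ≤ j) (hi : tw E i = ⊤) : tw E j = ⊤ :=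
  top_le_iff.mp (hi ▸ tw_mono E h)

/-- The `(j+1)`-st term of the upper central series of `tw E i` lies in `tw E j`. -/
theorem ucs_le_tw (E : Subgroup P) (hC : centralizer (E : Set P) ≤ E) (i : ℕ) :
    ∀ j, j + 1 ≤ i → ∀ x ∈ Subgroup.upperCentralSeries ↥(tw E i) (j + 1), (x : P) ∈ tw E j := by
  intro j
  induction j with
  | zero =>
    intro _ x hx
    rw [Subgroup.mem_upperCentralSeries_succ_iff] at hx
    apply hC
    rw [Subgroup.mem_centralizer_iff]
    intro e he
    have heK : e ∈ tw E i := tw_mono E (Nat.zero_le _) he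
    have := hx ⟨e, heK⟩
    rw [Subgroup.upperCentralSeries_zero, Subgroup.mem_bot] at this
    have h2 := congrArg Subtype.val this
    simp only [commutatorElement_def, Subgroup.coe_mul, Subgroup.coe_inv, Subgroup.coe_one]
      at h2
    exact (comm_of_comm_eq_one h2).symm
  | succ j ihj =>
    intro hj x hx
    rw [tw_succ, Subgroup.mem_normalizer_iff]
    have key : ∀ x ∈ Subgroup.upperCentralSeries ↥(tw E i) (j + 1 + 1), ∀ h ∈ tw E j,
        (x : P) * h * (x : P)⁻¹ ∈ tw E j := by
      intro x hx h hh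
      have hhK : h ∈ tw E i := tw_mono E (by omega) hh
      have h1 := Subgroup.mem_upperCentralSeries_succ_iff.mp hx ⟨h, hhK⟩
      have h2 := ihj (by omega) _ h1
      simp only [commutatorElement_def, Subgroup.coe_mul, Subgroup.coe_inv] at h2
      have := mul_mem h2 hh
      simpa [mul_assoc] using this
    intro h
    refine ⟨key x hx h, fun hh => ?_⟩
    have := key x⁻¹ (inv_mem hx) _ hh
    simpa [mul_assoc] using this

end Tower

/-- Every proper member of the normalizer tower of a soft subgroup has index `p` in the next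
one, and the `k`-th member (`k ≥ 1`) has nilpotency class at most `k + 1`. -/
theorem tower_step.{u} {P : Type u} [Group P] [Finite P] {p : ℕ} [Fact p.Prime]
    (hP : IsPGroup p P) (E : Subgroup P) (hEab : ∀ x ∈ E, ∀ y ∈ E, x * y = y * x)
    (hC : centralizer (E : Set P) ≤ E) (hN : E.relIndex (normalizer (E : Set P)) = p) :
    ∀ k, tw E k ≠ ⊤ → (tw E k).relIndex (tw E (k + 1)) = p ∧
      (1 ≤ k → Subgroup.upperCentralSeries ↥(tw E k) (k + 1) = ⊤) := by
  intro k
  induction k using Nat.strong_induction_on with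
  | _ k ih =>
    intro hk
    rcases Nat.eq_zero_or_pos k with rfl | hkpos
    · exact ⟨hN, by omega⟩
    · have hlt : ∀ j, j < k → (tw E j).relIndex (tw E (j + 1)) = p := fun j hj =>
        (ih j hj (fun h => hk (tw_eq_top E hj.le h))).1
      haveI : Group.IsNilpotent P := hP.isNilpotent
      have hkltR : tw E k < tw E (k + 1) :=
        Group.normalizerCondition_of_isNilpotent (G := P) _ (lt_top_iff_ne_top.mpr hk)
      have hkR : tw E k ≤ tw E (k + 1) := tw_le_succ E k
      let M : ℕ → Subgroup ↥(tw E (k + 1)) := fun i => (tw E i).subgroupOf (tw E (k + 1))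
      have hGT : GT p (k + 1) M := by
        refine ⟨?_, ?_, ?_, ?_, ?_, ?_⟩
        · intro x hx y hy
          apply Subtype.ext
          exact hEab x hx y hy
        · intro x hx
          show (x : P) ∈ E
          apply hC
          rw [Subgroup.mem_centralizer_iff]
          intro e he
          have heR : e ∈ tw E (k + 1) := tw_mono E (Nat.zero_le _) he
          have := Subgroup.mem_centralizer_iff.mp hx ⟨e, heR⟩ he
          exact congrArg Subtype.val this
        · intro i hi
          show normalizer (((tw E i).subgroupOf (tw E (k + 1)) : Subgroup ↥(tw E (k + 1))) :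
            Set ↥(tw E (k + 1))) = (tw E (i + 1)).subgroupOf (tw E (k + 1))
          rw [tw_succ E i, Subgroup.subgroupOf_normalizer_eq (tw_mono E (by omega))]
        · intro i hi
          show ((tw E i).subgroupOf (tw E (k + 1))).relIndex
            ((tw E (i + 1)).subgroupOf (tw E (k + 1))) = p
          rw [Subgroup.relIndex_subgroupOf (tw_mono E (by omega)), hlt i (by omega)]
        · show (tw E (k + 1)).subgroupOf (tw E (k + 1)) = ⊤
          exact Subgroup.subgroupOf_self _
        · show (tw E (k + 1 - 1)).subgroupOf (tw E (k + 1)) ≠ ⊤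
          rw [Nat.add_sub_cancel, Ne, Subgroup.subgroupOf_eq_top]
          exact not_le_of_gt hkltR
      obtain ⟨⟨Q, hQ0, hQn, hQc⟩, hidx⟩ :=
        main (k + 1) (by omega) ↥(tw E (k + 1)) (hP.to_subgroup _) M hGT
      refine ⟨?_, fun _ => ?_⟩
      · exact hidx (by omega)
      · have key : ∀ j, j ≤ k + 1 → ∀ x : ↥(tw E k),
            (⟨(x : P), hkR x.2⟩ : ↥(tw E (k + 1))) ∈ Q j →
            x ∈ Subgroup.upperCentralSeries ↥(tw E k) j := by
          intro j
          induction j with
          | zero =>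
            intro _ x hx
            rw [hQ0, Subgroup.mem_bot] at hx
            have hx1 : x = 1 := Subtype.ext (by simpa using congrArg Subtype.val hx)
            rw [hx1]; exact one_mem _
          | succ j ihj =>
            intro hj x hx
            rw [Subgroup.mem_upperCentralSeries_succ_iff]
            intro y
            apply ihj (by omega)
            have hy : (⟨(y : P), hkR y.2⟩ : ↥(tw E (k + 1))) ∈ M (k + 1 - 1) := y.2
            have := hQc j (by omega) _ hx _ hy
            have e : (⟨((⁅x, y⁆ : ↥(tw E k)) : P), hkR (⁅x, y⁆ : ↥(tw E k)).2⟩ :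
                ↥(tw E (k + 1))) =
                (⟨(x : P), hkR x.2⟩ : ↥(tw E (k + 1))) * ⟨(y : P), hkR y.2⟩ *
                  (⟨(x : P), hkR x.2⟩ : ↥(tw E (k + 1)))⁻¹ *
                  (⟨(y : P), hkR y.2⟩ : ↥(tw E (k + 1)))⁻¹ := by
              apply Subtype.ext
              simp [commutatorElement_def]
            rw [e]
            exact this
        rw [eq_top_iff]
        intro x _
        apply key (k + 1) le_rfl
        rw [hQn]
        exact x.2

/-- **Héthelyi's theorem on soft subgroups.** -/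
theorem soft.{u} {P : Type u} [Group P] [Finite P] (p : ℕ) [Fact p.Prime] (hP : IsPGroup p P)
    (E : Subgroup P) (hEab : IsMulCommutative ↥E) (hC : centralizer (E : Set P) ≤ E)
    (hN : (E.subgroupOf (normalizer (E : Set P))).index = p) :
    (∀ K L : Subgroup P, E ≤ K → E ≤ L → K ≤ L ∨ L ≤ K) ∧
      (∀ K : Subgroup P, E ≤ K → K ≠ ⊤ →
        (K.subgroupOf (normalizer (K : Set P))).index = p) ∧
      ∀ (i : ℕ) (K : Subgroup P) [Group.IsNilpotent ↥K], E ≤ K → K ≠ ⊤ →
        K.index * p ^ i = E.index → Group.nilpotencyClass ↥K = i + 1 := by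
  have hp : p.Prime := Fact.out
  have hab : ∀ x ∈ E, ∀ y ∈ E, x * y = y * x := fun x hx y hy => setLike_mul_comm hx hy
  have step := tower_step hP E hab hC hN
  have chain : ∀ K : Subgroup P, E ≤ K → ∃ i, K = tw E i := by
    intro K hK
    by_contra hcon
    push Not at hcon
    have h1 : ∀ i, tw E i ≤ K ∧ tw E i ≠ ⊤ := by
      intro i
      induction i with
      | zero => exact ⟨hK, fun h => hcon 0 ((top_le_iff.mp (h ▸ hK)).trans h.symm)⟩
      | succ i ih =>
        obtain ⟨hle, hne⟩ := ih
        have hlt : tw E i < K := lt_of_le_of_ne hle (Ne.symm (hcon i))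
        obtain ⟨w, hwK, hwN, hwn⟩ := exists_mem_normalizer_not_mem hP hlt
        have h3 : K ⊓ tw E (i + 1) = tw E (i + 1) := by
          apply eq_of_relIndex_prime hp (le_inf hle (tw_le_succ E i)) inf_le_right (step i hne).1
          intro heq
          exact hwn (heq.symm ▸ Subgroup.mem_inf.mpr ⟨hwK, hwN⟩)
        have hle' : tw E (i + 1) ≤ K := h3 ▸ inf_le_left
        exact ⟨hle', fun h => hcon (i + 1) ((top_le_iff.mp (h ▸ hle')).trans h.symm)⟩
    have h2 : ∀ i, i < Nat.card (tw E i) := by
      intro i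
      induction i with
      | zero => exact Nat.card_pos
      | succ i ih =>
        have h3 := card_mul_relIndex (tw_le_succ E i)
        rw [(step i (h1 i).2).1] at h3
        have := hp.two_le
        nlinarith
    have h3 := h2 (Nat.card P)
    have h4 : Nat.card (tw E (Nat.card P)) ≤ Nat.card P := Subgroup.card_le_card_group _
    omega
  have hindex : ∀ i, tw E i ≠ ⊤ → (tw E i).index * p ^ i = E.index := by
    intro i
    induction i with
    | zero => intro _; simp [tw_zero]
    | succ i ih =>
      intro hne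
      have hne' : tw E i ≠ ⊤ := fun h => hne (tw_eq_top E (Nat.le_succ i) h)
      have h1 := ih hne'
      have h2 := Subgroup.relIndex_mul_index (tw_le_succ E i)
      rw [(step i hne').1] at h2
      rw [← h1, ← h2, pow_succ]
      ring
  refine ⟨?_, ?_, ?_⟩
  · intro K L hK hL
    obtain ⟨i, rfl⟩ := chain K hK
    obtain ⟨j, rfl⟩ := chain L hL
    rcases le_total i j with h | h
    · exact Or.inl (tw_mono E h)
    · exact Or.inr (tw_mono E h)
  · intro K hK hne
    obtain ⟨i, rfl⟩ := chain K hK
    exact (step i hne).1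
  · intro i K _ hK hne hidx
    obtain ⟨j, rfl⟩ := chain K hK
    have hj := hindex j hne
    have hij : i = j := by
      have h0 : (tw E j).index ≠ 0 := Subgroup.index_ne_zero_of_finite
      have : p ^ i = p ^ j :=
        Nat.eq_of_mul_eq_mul_left (Nat.pos_of_ne_zero h0) (hidx.trans hj.symm)
      exact Nat.pow_right_injective hp.two_le this
    subst hij
    rcases Nat.eq_zero_or_pos i with rfl | hipos
    · apply le_antisymm
      · exact Group.IsNilpotent.nilpotencyClass_le_one_iff.mpr hEab
      · rw [Nat.succ_le_iff, Nat.pos_iff_ne_zero, Ne, Group.nilpotencyClass_zero_iff_subsingleton]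
        intro hsub
        have hbot : E ≤ ⊥ := by
          intro x hx
          have : (⟨x, hx⟩ : ↥(tw E 0)) = 1 := Subsingleton.elim _ _
          rw [Subgroup.mem_bot]
          exact congrArg Subtype.val this
        have htop : (⊤ : Subgroup P) ≤ E := by
          intro x _
          apply hC
          rw [Subgroup.mem_centralizer_iff]
          intro e he
          have he1 : e = 1 := Subgroup.mem_bot.mp (hbot he)
          rw [he1, one_mul, mul_one]
        have h1 : E.relIndex (normalizer (E : Set P)) = 1 :=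
          Subgroup.relIndex_eq_one.mpr (le_top.trans htop)
        have h2 : E.relIndex (normalizer (E : Set P)) = p := hN
        rw [h1] at h2
        exact hp.one_lt.ne h2
    · apply le_antisymm
      · rw [← Subgroup.upperCentralSeries_eq_top_iff_nilpotencyClass_le]
        exact (step i hne).2 hipos
      · by_contra hlt
        have hle : Group.nilpotencyClass ↥(tw E i) ≤ i := by omega
        rw [← Subgroup.upperCentralSeries_eq_top_iff_nilpotencyClass_le] at hle
        obtain ⟨i', rfl⟩ : ∃ i', i = i' + 1 := ⟨i - 1, by omega⟩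
        have hsub : tw E (i' + 1) ≤ tw E i' := by
          intro x hx
          exact ucs_le_tw E hC (i' + 1) i' le_rfl ⟨x, hx⟩ (by rw [hle]; exact Subgroup.mem_top _)
        have hne' : tw E i' ≠ ⊤ := fun h => hne (tw_eq_top E (Nat.le_succ _) h)
        have := (step i' hne').1
        rw [Subgroup.relIndex_eq_one.mpr hsub] at this
        exact hp.one_lt.ne this

end Cfsg.Agent.Lib.helper28.Soft
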