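import Cfsg.Agent.Lib.helper38.TN2

/-!
helper28: piece L of helper38's S4415 split: the Jordan structure of `b` on `E = E₀ ⊕ E₁`.
-/

set_option autoImplicit false

namespace Cfsg.Agent.Lib.helper28

section TNL

variable {S : Type*} [Group S] {E : Type*} [AddCommGroup E] [Module (ZMod 3) E]

private theorem tnl_three_smul (w : E) : w + w + w = 0 := by
  have h3 : (1 + 1 + 1 : ZMod 3) = 0 := by decide
  have h2 : (1 + 1 + 1 : ZMod 3) • w = w + w + w := by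
    rw [add_smul, add_smul, one_smul]
  rw [← h2, h3, zero_smul]

private theorem tnl_nb_add (ρ : Representation (ZMod 3) S E) (b : S) (v w : E) :
    helper38.TN.nb ρ b (v + w) = helper38.TN.nb ρ b v + helper38.TN.nb ρ b w := by
  unfold helper38.TN.nb
  rw [map_add]
  abel

private theorem tnl_nb_smul (ρ : Representation (ZMod 3) S E) (b : S) (c : ZMod 3) (v : E) :
    helper38.TN.nb ρ b (c • v) = c • helper38.TN.nb ρ b v := by
  unfold helper38.TN.nb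
  rw [map_smul, smul_sub]

private theorem tnl_nb_cube (ρ : Representation (ZMod 3) S E) (b : S) (hb3 : b ^ 3 = 1) (v : E) :
    helper38.TN.nb ρ b (helper38.TN.nb ρ b (helper38.TN.nb ρ b v)) = 0 := by
  have h3 : ρ b (ρ b (ρ b v)) = v := by
    have h : ρ (b ^ 3) v = ρ b (ρ b (ρ b v)) := by
      rw [pow_succ, pow_succ, pow_one, map_mul, map_mul]
      rfl
    rw [← h, hb3, map_one]
    rfl
  unfold helper38.TN.nb
  simp only [map_sub]
  rw [h3]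
  have h := tnl_three_smul (ρ b (ρ b v) - ρ b v)
  calc v - ρ b (ρ b v) - (ρ b (ρ b v) - ρ b v) - (ρ b (ρ b v) - ρ b v - (ρ b v - v))
      = -((ρ b (ρ b v) - ρ b v) + (ρ b (ρ b v) - ρ b v) + (ρ b (ρ b v) - ρ b v)) := by abel
    _ = 0 := by rw [h, neg_zero]

theorem jordan_E {S : Type*} [Group S] {E : Type*} [AddCommGroup E] [Module (ZMod 3) E] [Finite E]
    (ρ : Representation (ZMod 3) S E) (b : S) (hb3 : b ^ 3 = 1) (E₀ E₁ : Submodule (ZMod 3) E)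
    (hE01 : E₀ ⊓ E₁ = ⊥) (hE01' : E₀ ⊔ E₁ = ⊤) (hE1 : ∀ v ∈ E₁, ρ b v = v)
    (hE0inv : ∀ v ∈ E₀, ρ b v ∈ E₀) (hE0 : Nat.card ↥E₀ = 27)
    (hind : ∃ v ∈ E₀, ρ b (ρ b v - v) - (ρ b v - v) ≠ 0) :
    (∀ v v' : E, ∃ c c' : ZMod 3, (c ≠ 0 ∨ c' ≠ 0) ∧
        c • helper38.TN.nb ρ b (helper38.TN.nb ρ b v) +
          c' • helper38.TN.nb ρ b (helper38.TN.nb ρ b v') = 0) ∧
    (∀ v₁ v₂ v₃ : E, ∃ α β γ : ZMod 3, (α ≠ 0 ∨ β ≠ 0 ∨ γ ≠ 0) ∧
        α • helper38.TN.nb ρ b v₁ + β • helper38.TN.nb ρ b v₂ + γ • helper38.TN.nb ρ b v₃ = 0) := by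
  obtain ⟨v₀, hv₀, hne⟩ := hind
  obtain ⟨a', ha'⟩ : ∃ a', a' = helper38.TN.nb ρ b v₀ := ⟨_, rfl⟩
  obtain ⟨a'', ha''⟩ : ∃ a'', a'' = helper38.TN.nb ρ b a' := ⟨_, rfl⟩
  have hne' : a'' ≠ 0 := by
    rw [ha'', ha']
    exact hne
  have hna'' : helper38.TN.nb ρ b a'' = 0 := by
    rw [ha'', ha']
    exact tnl_nb_cube ρ b hb3 v₀
  have hna' : helper38.TN.nb ρ b a' = a'' := ha''.symm
  have hnv₀ : helper38.TN.nb ρ b v₀ = a' := ha'.symm
  have hnbE0 : ∀ v ∈ E₀, helper38.TN.nb ρ b v ∈ E₀ := fun v hv => E₀.sub_mem (hE0inv v hv) hv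
  have ha'E : a' ∈ E₀ := by
    rw [ha']
    exact hnbE0 _ hv₀
  have ha''E : a'' ∈ E₀ := by
    rw [ha'']
    exact hnbE0 _ ha'E
  have hnφ : ∀ x y z : ZMod 3,
      helper38.TN.nb ρ b (x • v₀ + y • a' + z • a'') = x • a' + y • a'' := by
    intro x y z
    rw [tnl_nb_add, tnl_nb_add, tnl_nb_smul, tnl_nb_smul, tnl_nb_smul, hna'', hna', hnv₀,
      smul_zero, add_zero]
  have hnnφ : ∀ x y z : ZMod 3,
      helper38.TN.nb ρ b (helper38.TN.nb ρ b (x • v₀ + y • a' + z • a'')) = x • a'' := by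
    intro x y z
    rw [hnφ, tnl_nb_add, tnl_nb_smul, tnl_nb_smul, hna'', hna', smul_zero, add_zero]
  have hnb0 : helper38.TN.nb ρ b (0 : E) = 0 := by
    unfold helper38.TN.nb
    rw [map_zero, sub_zero]
  have hzero : ∀ x y z : ZMod 3, x • v₀ + y • a' + z • a'' = 0 → x = 0 ∧ y = 0 ∧ z = 0 := by
    intro x y z h
    have h1 : x • a'' = 0 := by
      rw [← hnnφ x y z, h, hnb0, hnb0]
    have hx : x = 0 := by
      rcases smul_eq_zero.mp h1 with h | h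
      · exact h
      · exact absurd h hne'
    subst hx
    have h2 : y • a'' = 0 := by
      have h' := hnφ 0 y z
      rw [h, hnb0, zero_smul, zero_add] at h'
      exact h'.symm
    have hy : y = 0 := by
      rcases smul_eq_zero.mp h2 with h | h
      · exact h
      · exact absurd h hne'
    subst hy
    have h3 : z • a'' = 0 := by
      rw [zero_smul, zero_smul, zero_add, zero_add] at h
      exact h
    have hz : z = 0 := by
      rcases smul_eq_zero.mp h3 with h | h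
      · exact h
      · exact absurd h hne'
    exact ⟨rfl, rfl, hz⟩
  have hsurj : ∀ e ∈ E₀, ∃ x y z : ZMod 3, e = x • v₀ + y • a' + z • a'' := by
    let φ : ZMod 3 × ZMod 3 × ZMod 3 → ↥E₀ := fun t =>
      ⟨t.1 • v₀ + t.2.1 • a' + t.2.2 • a'',
        E₀.add_mem (E₀.add_mem (E₀.smul_mem _ hv₀) (E₀.smul_mem _ ha'E)) (E₀.smul_mem _ ha''E)⟩
    have hinj : Function.Injective φ := by
      intro t t' htt
      have h : t.1 • v₀ + t.2.1 • a' + t.2.2 • a'' = t'.1 • v₀ + t'.2.1 • a' + t'.2.2 • a'' :=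
        congrArg Subtype.val htt
      have h0 : (t.1 - t'.1) • v₀ + (t.2.1 - t'.2.1) • a' + (t.2.2 - t'.2.2) • a'' = 0 := by
        rw [sub_smul, sub_smul, sub_smul]
        have h' := sub_eq_zero.mpr h
        rw [← h']
        abel
      obtain ⟨h1, h2, h3⟩ := hzero _ _ _ h0
      exact Prod.ext (sub_eq_zero.mp h1) (Prod.ext (sub_eq_zero.mp h2) (sub_eq_zero.mp h3))
    have hcard : Nat.card ↥E₀ ≤ Nat.card (ZMod 3 × ZMod 3 × ZMod 3) := by
      rw [hE0, Nat.card_prod, Nat.card_prod, Nat.card_zmod]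
    have hs := (hinj.bijective_of_nat_card_le hcard).2
    intro e he
    obtain ⟨⟨x, y, z⟩, hφ⟩ := hs ⟨e, he⟩
    exact ⟨x, y, z, (congrArg Subtype.val hφ).symm⟩
  have hdec : ∀ v : E, ∃ x y : ZMod 3, helper38.TN.nb ρ b v = x • a' + y • a'' ∧
      helper38.TN.nb ρ b (helper38.TN.nb ρ b v) = x • a'' := by
    intro v
    have hv : v ∈ E₀ ⊔ E₁ := by
      rw [hE01']
      trivial
    obtain ⟨e₀, he₀, e₁, he₁, rfl⟩ := Submodule.mem_sup.mp hv
    obtain ⟨x, y, z, he⟩ := hsurj e₀ he₀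
    have hn1 : helper38.TN.nb ρ b e₁ = 0 := by
      unfold helper38.TN.nb
      rw [hE1 e₁ he₁, sub_self]
    refine ⟨x, y, ?_, ?_⟩
    · rw [tnl_nb_add, hn1, add_zero, he, hnφ]
    · rw [tnl_nb_add, hn1, add_zero, he, hnnφ]
  constructor
  · intro v v'
    obtain ⟨x, y, -, h2⟩ := hdec v
    obtain ⟨x', y', -, h2'⟩ := hdec v'
    have key : ∀ x x' : ZMod 3, ∃ c c' : ZMod 3, (c ≠ 0 ∨ c' ≠ 0) ∧ c * x + c' * x' = 0 := by
      decide
    obtain ⟨c, c', hc, hcc⟩ := key x x'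
    refine ⟨c, c', hc, ?_⟩
    rw [h2, h2', smul_smul, smul_smul, ← add_smul, hcc, zero_smul]
  · intro v₁ v₂ v₃
    obtain ⟨x₁, y₁, h1, -⟩ := hdec v₁
    obtain ⟨x₂, y₂, h2, -⟩ := hdec v₂
    obtain ⟨x₃, y₃, h3, -⟩ := hdec v₃
    have key : ∀ a₁ a₂ a₃ b₁ b₂ b₃ : ZMod 3, ∃ α β γ : ZMod 3, (α ≠ 0 ∨ β ≠ 0 ∨ γ ≠ 0) ∧
        α * a₁ + β * a₂ + γ * a₃ = 0 ∧ α * b₁ + β * b₂ + γ * b₃ = 0 := by
      decide +kernel
    obtain ⟨α, β, γ, hne3, hA, hB⟩ := key x₁ x₂ x₃ y₁ y₂ y₃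
    refine ⟨α, β, γ, hne3, ?_⟩
    rw [h1, h2, h3]
    have hsum : α • (x₁ • a' + y₁ • a'') + β • (x₂ • a' + y₂ • a'') + γ • (x₃ • a' + y₃ • a'') =
        (α * x₁ + β * x₂ + γ * x₃) • a' + (α * y₁ + β * y₂ + γ * y₃) • a'' := by
      simp only [smul_add, smul_smul, add_smul]
      abel
    rw [hsum, hA, hB, zero_smul, zero_smul, add_zero]

end TNL

end Cfsg.Agent.Lib.helper28
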