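import Mathlib
import Cfsg.Prelude.Def_Balance
import Cfsg.Agent.Lib.helper28.PConn
import Cfsg.Agent.Lib.helper28.Layer
import Cfsg.Agent.S0100

set_option autoImplicit false
set_option linter.style.haveILetI false
set_option linter.unusedSectionVars false

/-!
# A `3`-group of rank at least four has no isolated `E_9`

`false_of_isolated`: in a finite `3`-group `P` of `3`-rank at least `4`, no elementary abelian
subgroup `X` of order `9` has a centralizer of `3`-rank `2`.  Consequently (`isKConnected_three`)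
`P` is `2`-connected for the prime `3`.

The proof: if `X` were isolated, every normal elementary abelian subgroup of `P` would have
order at most `27` (an element of `X` acts on it with a single Jordan block); on the other hand
an elementary abelian subgroup `A` of order `81` centralizing a normal `U` of order `9` is shown
to be normal.
-/

namespace Cfsg.Agent.Lib.helper28

open Cfsg
open scoped commutatorElement

/-- `|S| ≤ |ker f| · |f(S)|`. -/
theorem card_le_card_ker_mul_card_map {G H : Type*} [Group G] [Group H] [Finite G] (f : G →* H)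
    (S : Subgroup G) : Nat.card S ≤ Nat.card f.ker * Nat.card (S.map f) := by
  have h1 : Nat.card S = Nat.card (f.comp S.subtype).ker * Nat.card (f.comp S.subtype).range := by
    rw [← Subgroup.index_ker, Subgroup.card_mul_index]
  have h2 : (f.comp S.subtype).range = S.map f := by
    rw [MonoidHom.range_comp, Subgroup.range_subtype]
  have h3 : Nat.card (f.comp S.subtype).ker ≤ Nat.card f.ker := by
    refine Nat.card_le_card_of_injective
      (fun x => (⟨x.1.1, MonoidHom.mem_ker.2 (MonoidHom.mem_ker.1 x.2)⟩ : f.ker)) ?_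
    intro a b hab
    have : a.1.1 = b.1.1 := congrArg (Subtype.val : f.ker → G) hab
    exact Subtype.ext (Subtype.ext this)
  rw [h1, h2]
  exact Nat.mul_le_mul_right _ h3

/-- An endomorphism with `f³ = 1` of a finite group has `|W| ≤ |ker f|³`. -/
theorem card_le_of_endo_cube {W : Type*} [Group W] [Finite W] (f : W →* W)
    (hf : ∀ w, f (f (f w)) = 1) (k : ℕ) (hk : Nat.card f.ker ≤ k) : Nat.card W ≤ k * k * k := by
  have h1 : Nat.card W = Nat.card f.ker * Nat.card f.range := by
    rw [← Subgroup.index_ker, Subgroup.card_mul_index]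
  have h2 : Nat.card f.range ≤ Nat.card f.ker * Nat.card (f.range.map f) :=
    card_le_card_ker_mul_card_map f f.range
  have h3 : f.range.map f ≤ f.ker := by
    rintro _ ⟨_, ⟨w, rfl⟩, rfl⟩
    exact MonoidHom.mem_ker.2 (hf w)
  have h4 := Subgroup.card_le_of_le h3
  calc Nat.card W = Nat.card f.ker * Nat.card f.range := h1
    _ ≤ Nat.card f.ker * (Nat.card f.ker * Nat.card (f.range.map f)) := Nat.mul_le_mul_left _ h2
    _ ≤ k * (k * k) := Nat.mul_le_mul hk (Nat.mul_le_mul hk (h4.trans hk))
    _ = k * k * k := by ring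

/-- The identity `(σ - 1)³ = σ³ - 1` in characteristic three, in multiplicative notation. -/
theorem comm_cube_identity {M : Type*} [CommGroup M] (m b c : M) (hb : b ^ 3 = 1)
    (hc : c ^ 3 = 1) : m / c / (c / b) / (c / b / (b / m)) = 1 := by
  have h : m / c / (c / b) / (c / b / (b / m)) = b ^ 3 / c ^ 3 := by
    apply Additive.ofMul.injective
    simp only [ofMul_div, ofMul_pow]
    abel
  rw [h, hb, hc, div_one]

/-- An endomorphism `σ` with `σ³ = 1` of a finite commutative group of exponent three with at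
most `k` fixed points: the group has order at most `k³`. -/
theorem card_le_of_fixed_le {M : Type*} [CommGroup M] [Finite M] (σ : M →* M)
    (hσ : ∀ m, σ (σ (σ m)) = m) (h3 : ∀ m : M, m ^ 3 = 1) (k : ℕ)
    (hk : Nat.card {m : M // σ m = m} ≤ k) : Nat.card M ≤ k * k * k := by
  apply card_le_of_endo_cube (σ / MonoidHom.id M)
  · intro w
    simp only [MonoidHom.div_apply, MonoidHom.id_apply, map_div, hσ]
    exact comm_cube_identity w (σ w) (σ (σ w)) (h3 _) (h3 _)
  · refine le_trans (le_of_eq ?_) hk
    apply Nat.card_congr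
    refine Equiv.subtypeEquivRight (fun m => ?_)
    rw [MonoidHom.mem_ker, MonoidHom.div_apply, MonoidHom.id_apply, div_eq_one]

/-- If `x` of order three acts on the normal elementary abelian `3`-subgroup `W` and `C_W(x)`
lies in a subgroup of order at most `k`, then `|W| ≤ k³`. -/
theorem card_le_of_centralizer_le {P : Type*} [Group P] [Finite P] (W : Subgroup P)
    [hWn : W.Normal] (hW : IsElementaryAbelian 3 W) (x : P) (hx : x ^ 3 = 1) (T : Subgroup P)
    (hT : ∀ w ∈ W, x * w = w * x → w ∈ T) (k : ℕ) (hk : Nat.card T ≤ k) :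
    Nat.card W ≤ k * k * k := by
  have hWab := ((isElementaryAbelian_iff' 3 W).1 hW).1
  letI : CommGroup W := { (inferInstance : Group W) with
    mul_comm := fun a b => Subtype.ext (hWab a.1 a.2 b.1 b.2) }
  let σ : W →* W := (MulAut.conjNormal x : MulAut W).toMonoidHom
  have hσa : ∀ w : W, ((σ w : W) : P) = x * w * x⁻¹ := fun w => MulAut.conjNormal_apply x w
  apply card_le_of_fixed_le σ
  · intro m
    apply Subtype.ext
    rw [hσa, hσa, hσa]
    have hx' : x * x * x = 1 := by simpa [pow_succ] using hx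
    have : x * (x * (x * (m : P) * x⁻¹) * x⁻¹) * x⁻¹ = (x * x * x) * m * (x * x * x)⁻¹ := by
      group
    rw [this, hx']
    simp
  · intro m
    apply Subtype.ext
    exact hW.2 m.1 m.2
  · refine le_trans ?_ hk
    refine Nat.card_le_card_of_injective (fun m => (⟨m.1.1, ?_⟩ : T)) ?_
    · apply hT m.1.1 m.1.2
      have h := congrArg Subtype.val m.2
      rw [hσa] at h
      calc x * (m.1 : P) = x * m.1 * x⁻¹ * x := by group
        _ = m.1 * x := by rw [h]
    · intro a b hab
      have : a.1.1 = b.1.1 := congrArg (Subtype.val : T → P) hab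
      exact Subtype.ext (Subtype.ext this)

/-- A class two computation: `(ab)³ = 1`. -/
theorem pow_three_mul_eq_one {G : Type*} [Group G] (a b k : G) (ha : a ^ 3 = 1) (hb : b ^ 3 = 1)
    (hk : k ^ 3 = 1) (e1 : b * a = a * b * k) (hka : k * a = a * k) (hkb : k * b = b * k) :
    (a * b) ^ 3 = 1 := by
  have e2 : a * b * k * (a * b * k) = a * a * (b * b) * (k * k * k) := by
    calc a * b * k * (a * b * k) = a * b * (k * a) * b * k := by group
      _ = a * b * (a * k) * b * k := by rw [hka]
      _ = a * (b * a) * (k * b) * k := by group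
      _ = a * (a * b * k) * (b * k) * k := by rw [e1, hkb]
      _ = a * a * b * (k * b) * k * k := by group
      _ = a * a * b * (b * k) * k * k := by rw [hkb]
      _ = a * a * (b * b) * (k * k * k) := by group
  have hk' : k * k * k = 1 := by simpa [pow_succ] using hk
  calc (a * b) ^ 3 = a * (b * a) * (b * a) * b := by simp [pow_succ, mul_assoc]
    _ = a * (a * b * k * (a * b * k)) * b := by rw [e1]; simp [mul_assoc]
    _ = a * (a * a * (b * b) * (k * k * k)) * b := by rw [e2]
    _ = a ^ 3 * b ^ 3 := by rw [hk']; simp [pow_succ, mul_assoc]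
    _ = 1 := by rw [ha, hb, one_mul]

/-- In a finite `3`-group of `3`-rank at least four, no elementary abelian subgroup of order
nine has a centralizer of `3`-rank two. -/
theorem false_of_isolated {P : Type*} [Group P] [Finite P] (hP : IsPGroup 3 P)
    (hrk : ¬ PRankLE 3 3 P) (X : Subgroup P) (hX : IsElementaryAbelian 3 X)
    (hXcard : Nat.card X = 9) (hiso : PRankLE 3 2 (Subgroup.centralizer (X : Set P))) :
    False := by
  haveI : Fact (Nat.Prime 3) := ⟨by norm_num⟩
  have hXab := ((isElementaryAbelian_iff' 3 X).1 hX).1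
  -- orders of subgroups are powers of three
  have hpow : ∀ (S : Subgroup P) (j : ℕ), 3 ^ j < Nat.card S → 3 ^ (j + 1) ≤ Nat.card S := by
    intro S j h
    obtain ⟨n, hn⟩ := (hP.to_subgroup S).exists_card_eq
    rw [hn] at h ⊢
    exact Nat.pow_le_pow_right (by norm_num) ((Nat.pow_lt_pow_iff_right (by norm_num)).1 h)
  have hp9 : ∀ S : Subgroup P, 9 < Nat.card S → 27 ≤ Nat.card S := fun S h => by
    have := hpow S 2 (by norm_num; exact h)
    norm_num at this; exact this
  have hp27 : ∀ S : Subgroup P, 27 < Nat.card S → 81 ≤ Nat.card S := fun S h => by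
    have := hpow S 3 (by norm_num; exact h)
    norm_num at this; exact this
  have hp81 : ∀ S : Subgroup P, 81 < Nat.card S → 243 ≤ Nat.card S := fun S h => by
    have := hpow S 4 (by norm_num; exact h)
    norm_num at this; exact this
  -- elementary abelian subgroups of `C(X)` have order at most nine
  have hB : ∀ B : Subgroup P, B ≤ Subgroup.centralizer (X : Set P) →
      IsElementaryAbelian 3 B → Nat.card B ≤ 9 := by
    intro B hBX hBe
    by_contra h
    push Not at h
    exact (not_pRankLE_subgroup_iff 3 2 _).2 ⟨B, hBX, hBe, by norm_num; exact h⟩ hiso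
  have hXC : X ≤ Subgroup.centralizer (X : Set P) :=
    fun a ha => Subgroup.mem_centralizer_iff.2 (fun h hh => hXab h hh a ha)
  -- elements of order three of `C(X)` lie in `X`
  have hH : ∀ t ∈ Subgroup.centralizer (X : Set P), t ^ 3 = 1 → t ∈ X := by
    intro t ht ht3
    by_contra htX
    have hcomm : ∀ e ∈ X, t * e = e * t :=
      fun e he => (Subgroup.mem_centralizer_iff.1 ht e he).symm
    have h1 := Cfsg.Agent.Lib.helper3.isElementaryAbelian_sup_zpowers 3 X hX t ht3 hcomm
    have h2 := Cfsg.Agent.Lib.helper3.card_sup_zpowers X t htX ht3 hcomm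
    have h3 := hB _ (sup_le hXC ((Subgroup.zpowers_le).2 ht)) h1
    rw [h2, hXcard] at h3
    omega
  -- Step 1: normal elementary abelian subgroups have order at most 27
  have hStep1 : ∀ W : Subgroup P, W.Normal → IsElementaryAbelian 3 W → Nat.card W ≤ 27 := by
    intro W hWn hW
    have hWab := ((isElementaryAbelian_iff' 3 W).1 hW).1
    by_cases hXW : X ≤ W
    · have : W ≤ Subgroup.centralizer (X : Set P) :=
        fun w hw => Subgroup.mem_centralizer_iff.2 (fun h hh => hWab h (hXW hh) w hw)
      exact (hB W this hW).trans (by norm_num)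
    · obtain ⟨x, hxX, hxW⟩ := SetLike.not_le_iff_exists.1 hXW
      by_cases hWbot : W = ⊥
      · rw [hWbot, Subgroup.card_bot]; norm_num
      obtain ⟨z, hzW, hzc, hz1, hz3⟩ :=
        Cfsg.Agent.Lib.helper3.exists_central_of_normal_ne_bot hP W hWbot
      have hzcomm : ∀ g : P, g * z = z * g := fun g => Subgroup.mem_center_iff.1 hzc g
      have hzX : z ∈ X := hH z (Subgroup.mem_centralizer_iff.2 (fun h _ => hzcomm h)) hz3
      have hx3 : x ^ 3 = 1 := hX.2 x hxX
      have hZcard : Nat.card (Subgroup.zpowers z) = 3 := by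
        rw [Nat.card_zpowers]; exact orderOf_eq_prime hz3 hz1
      have hxZ : x ∉ Subgroup.zpowers z := fun h => hxW ((Subgroup.zpowers_le.2 hzW) h)
      have hZxcard := Cfsg.Agent.Lib.helper3.card_sup_zpowers (Subgroup.zpowers z) x hxZ hx3
        (fun e he => by
          obtain ⟨k, rfl⟩ := Subgroup.mem_zpowers_iff.1 he
          have hc : Commute x z := hzcomm x
          exact (hc.zpow_right k).eq)
      have hXeq : Subgroup.zpowers z ⊔ Subgroup.zpowers x = X :=
        Subgroup.eq_of_le_of_card_ge
          (sup_le (Subgroup.zpowers_le.2 hzX) (Subgroup.zpowers_le.2 hxX))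
          (by rw [hZxcard, hZcard, hXcard])
      have hXWcard : Nat.card (X ⊓ W : Subgroup P) ≤ 3 := by
        have hdvd : Nat.card (X ⊓ W : Subgroup P) ∣ 3 ^ 2 := by
          have := Subgroup.card_dvd_of_le (inf_le_left : X ⊓ W ≤ X)
          rw [hXcard] at this
          norm_num
          exact this
        obtain ⟨j, hj, hjeq⟩ := (Nat.dvd_prime_pow Nat.prime_three).1 hdvd
        interval_cases j
        · rw [hjeq]; norm_num
        · rw [hjeq]; norm_num
        · exfalso
          have : X ⊓ W = X :=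
            Subgroup.eq_of_le_of_card_ge inf_le_left (by rw [hjeq, hXcard]; norm_num)
          exact hXW (this ▸ inf_le_right)
      have hfix : ∀ w ∈ W, x * w = w * x → w ∈ X ⊓ W := by
        intro w hw hxw
        refine ⟨hH w ?_ (hW.2 w hw), hw⟩
        have : X ≤ Subgroup.centralizer ({w} : Set P) := by
          rw [← hXeq]
          refine sup_le ((Subgroup.zpowers_le).2 ?_) ((Subgroup.zpowers_le).2 ?_)
          · exact Subgroup.mem_centralizer_iff.2
              (fun h hh => by rw [Set.mem_singleton_iff.1 hh]; exact hzcomm w)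
          · exact Subgroup.mem_centralizer_iff.2
              (fun h hh => by rw [Set.mem_singleton_iff.1 hh]; exact hxw.symm)
        exact Subgroup.mem_centralizer_iff.2
          (fun h hh => (Subgroup.mem_centralizer_iff.1 (this hh) w rfl).symm)
      have := card_le_of_centralizer_le W hW x hx3 (X ⊓ W) hfix 3 hXWcard
      exact this.trans (by norm_num)
  -- an elementary abelian subgroup of order more than 27
  obtain ⟨A₁, hA₁c, hA₁e, hA₁card⟩ : ∃ E : Subgroup P, IsMulCommutative E ∧
      (∀ a ∈ E, a ^ 3 = 1) ∧ 3 ^ 3 < Nat.card E := by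
    unfold PRankLE at hrk
    push Not at hrk
    exact hrk
  have hA₁ : IsElementaryAbelian 3 A₁ := ⟨hA₁c, hA₁e⟩
  have hA₁card' : 27 < Nat.card A₁ := by norm_num at hA₁card; exact hA₁card
  -- a normal elementary abelian subgroup of order 27
  obtain ⟨V, hVn, hVc, hVe, hVcard⟩ : ∃ V : Subgroup P, V.Normal ∧ IsMulCommutative V ∧
      (∀ a ∈ V, a ^ 3 = 1) ∧ Nat.card V = 3 ^ 3 := by
    by_contra hcon
    push Not at hcon
    have := Cfsg.Agent.S0100.result (p := 3) (by norm_num) hP
      (fun A hAn hAc hAe => hcon A hAn hAc hAe) A₁ hA₁c hA₁e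
    norm_num at this
    omega
  haveI := hVn
  have hVcard' : Nat.card V = 27 := by rw [hVcard]; norm_num
  have hV : IsElementaryAbelian 3 V := ⟨hVc, hVe⟩
  have hVab := ((isElementaryAbelian_iff' 3 V).1 hV).1
  -- Step 2: elements of order three of `C(V)` lie in `V`
  have hΩ : ∀ t ∈ Subgroup.centralizer (V : Set P), t ^ 3 = 1 → t ∈ V := by
    intro t ht ht3
    by_contra htV
    obtain ⟨A, hAn, hAe, -, hAcard⟩ := Cfsg.Agent.Lib.helper3.exists_normal_extension (p := 3)
      (by norm_num) hP V hV t htV ht3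
      (fun e he => (Subgroup.mem_centralizer_iff.1 ht e he).symm)
    have := hStep1 A hAn hAe
    rw [hAcard, hVcard'] at this
    norm_num at this
  -- Step 3: a normal subgroup `U` of order nine inside `V`
  obtain ⟨U, hUn, hUV, hUcard⟩ := exists_normal_sq_le hP V hV (by rw [hVcard]; norm_num)
  haveI := hUn
  have hUcard' : Nat.card U = 9 := by rw [hUcard]; norm_num
  have hU : IsElementaryAbelian 3 U := isElementaryAbelian_of_le' hUV hV
  have hUab := ((isElementaryAbelian_iff' 3 U).1 hU).1
  have hDidx : (Subgroup.centralizer (U : Set P)).index ≤ 3 :=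
    Cfsg.Agent.Lib.helper3.index_centralizer_le hP U hUcard
  have hUltV : U < V := lt_of_le_of_ne hUV (fun h => by
    rw [h, hVcard'] at hUcard'
    norm_num at hUcard')
  obtain ⟨v, hvV, hvU, -, hvc⟩ :=
    Cfsg.Agent.Lib.helper3.exists_mem_not_mem_of_normal_lt hP U V hUltV
  have hv3 : v ^ 3 = 1 := hV.2 v hvV
  have hVeq : U ⊔ Subgroup.zpowers v = V := by
    refine Subgroup.eq_of_le_of_card_ge (sup_le hUV (Subgroup.zpowers_le.2 hvV)) ?_
    rw [Cfsg.Agent.Lib.helper3.card_sup_zpowers U v hvU hv3
      (fun e he => hVab v hvV e (hUV he)), hUcard', hVcard']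
  have hcommU : ∀ l : P, l * v * l⁻¹ * v⁻¹ ∈ U := by
    intro l
    have h2 : l * v * l⁻¹ * v⁻¹ = ⁅v, l⁆⁻¹ := by rw [commutatorElement_def]; group
    rw [h2]
    exact U.inv_mem (hvc l)
  -- an element of `C(U)` commuting with `v` centralizes `V`
  have hCv : ∀ l ∈ Subgroup.centralizer (U : Set P), l * v = v * l →
      l ∈ Subgroup.centralizer (V : Set P) := by
    intro l hl hlv
    have : V ≤ Subgroup.centralizer ({l} : Set P) := by
      rw [← hVeq]
      refine sup_le (fun u hu => ?_) ((Subgroup.zpowers_le).2 ?_)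
      · exact Subgroup.mem_centralizer_iff.2 (fun h hh => by
          rw [Set.mem_singleton_iff.1 hh]
          exact (Subgroup.mem_centralizer_iff.1 hl u hu).symm)
      · exact Subgroup.mem_centralizer_iff.2
          (fun h hh => by rw [Set.mem_singleton_iff.1 hh]; exact hlv)
    exact Subgroup.mem_centralizer_iff.2
      (fun h hh => (Subgroup.mem_centralizer_iff.1 (this hh) l rfl).symm)
  -- `|L| ≤ 9 |L ∩ C(V)|` for `L ≤ C(U)`
  have hLDC : ∀ L : Subgroup P, L ≤ Subgroup.centralizer (U : Set P) →
      Nat.card L ≤ Nat.card (L ⊓ Subgroup.centralizer (V : Set P) : Subgroup P) * 9 := by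
    intro L hLD
    let ψ : L →* U :=
      { toFun := fun l => ⟨(l : P) * v * (l : P)⁻¹ * v⁻¹, hcommU l⟩
        map_one' := by
          apply Subtype.ext
          show (1 : P) * v * (1 : P)⁻¹ * v⁻¹ = 1
          group
        map_mul' := fun a b => by
          apply Subtype.ext
          show ((a : P) * b) * v * ((a : P) * b)⁻¹ * v⁻¹ =
            ((a : P) * v * (a : P)⁻¹ * v⁻¹) * ((b : P) * v * (b : P)⁻¹ * v⁻¹)
          have h1 : (a : P) * ((b : P) * v * (b : P)⁻¹ * v⁻¹) =
              ((b : P) * v * (b : P)⁻¹ * v⁻¹) * a :=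
            (Subgroup.mem_centralizer_iff.1 (hLD a.2) _ (hcommU b)).symm
          have h2 := hUab _ (hcommU (b : P)) _ (hcommU (a : P))
          calc ((a : P) * b) * v * ((a : P) * b)⁻¹ * v⁻¹
              = ((a : P) * ((b : P) * v * (b : P)⁻¹ * v⁻¹)) * v * (a : P)⁻¹ * v⁻¹ := by group
            _ = ((b : P) * v * (b : P)⁻¹ * v⁻¹) * a * v * (a : P)⁻¹ * v⁻¹ := by rw [h1]
            _ = ((b : P) * v * (b : P)⁻¹ * v⁻¹) * ((a : P) * v * (a : P)⁻¹ * v⁻¹) := by group
            _ = _ := h2 }
    have h1 : Nat.card L = Nat.card ψ.ker * Nat.card ψ.range := by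
      rw [← Subgroup.index_ker, Subgroup.card_mul_index]
    have h2 : Nat.card ψ.range ≤ 9 := by
      have := Subgroup.card_le_card_group ψ.range
      rwa [hUcard'] at this
    have h3 : Nat.card ψ.ker ≤
        Nat.card (L ⊓ Subgroup.centralizer (V : Set P) : Subgroup P) := by
      refine Nat.card_le_card_of_injective (fun l =>
        (⟨l.1.1, l.1.2, ?_⟩ : (L ⊓ Subgroup.centralizer (V : Set P) : Subgroup P))) ?_
      · apply hCv _ (hLD l.1.2)
        have h' : (l.1 : P) * v * (l.1 : P)⁻¹ * v⁻¹ = 1 :=
          congrArg Subtype.val (MonoidHom.mem_ker.1 l.2)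
        calc (l.1 : P) * v = ((l.1 : P) * v * (l.1 : P)⁻¹ * v⁻¹) * v * l.1 := by group
          _ = v * l.1 := by rw [h']; group
      · intro a b hab
        have : a.1.1 = b.1.1 := congrArg
          (Subtype.val : (L ⊓ Subgroup.centralizer (V : Set P) : Subgroup P) → P) hab
        exact Subtype.ext (Subtype.ext this)
    rw [h1]
    exact Nat.mul_le_mul h3 h2
  have hUD : U ≤ Subgroup.centralizer (U : Set P) :=
    fun a ha => Subgroup.mem_centralizer_iff.2 (fun h hh => hUab h hh a ha)
  -- an elementary abelian subgroup `A` of order more than 27 with `U ≤ A ≤ C(U)`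
  obtain ⟨A, hA, hUA, hAD, hAcard⟩ : ∃ A : Subgroup P, IsElementaryAbelian 3 A ∧ U ≤ A ∧
      A ≤ Subgroup.centralizer (U : Set P) ∧ 27 < Nat.card A := by
    have hA₁ab := ((isElementaryAbelian_iff' 3 A₁).1 hA₁).1
    by_cases hUA₁ : U ≤ A₁
    · exact ⟨A₁, hA₁, hUA₁, fun a ha => Subgroup.mem_centralizer_iff.2
        (fun h hh => hA₁ab h (hUA₁ hh) a ha), hA₁card'⟩
    · have h1 := card_inf_mul_relIndex (Subgroup.centralizer (U : Set P)) A₁
      have h2 : (Subgroup.centralizer (U : Set P)).relIndex A₁ ≤ 3 := by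
        have h4 := Subgroup.relIndex_le_of_le_right (H := Subgroup.centralizer (U : Set P))
          (le_top : A₁ ≤ ⊤)
          (by rw [Subgroup.relIndex_top_right]; exact Subgroup.index_ne_zero_of_finite)
        rw [Subgroup.relIndex_top_right] at h4
        exact h4.trans hDidx
      have hA₂ : IsElementaryAbelian 3 (Subgroup.centralizer (U : Set P) ⊓ A₁) :=
        isElementaryAbelian_of_le' inf_le_right hA₁
      have hA₂card : 9 < Nat.card (Subgroup.centralizer (U : Set P) ⊓ A₁ : Subgroup P) := by
        by_contra hcon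
        push Not at hcon
        have : Nat.card A₁ ≤ 9 * 3 := by rw [← h1]; exact Nat.mul_le_mul hcon h2
        omega
      have hA₂card' := hp9 _ hA₂card
      refine ⟨Subgroup.centralizer (U : Set P) ⊓ A₁ ⊔ U, isElementaryAbelian_sup' hA₂ hU
        (fun a ha b hb => (Subgroup.mem_centralizer_iff.1 ha.1 b hb).symm), le_sup_right,
        sup_le inf_le_left hUD, ?_⟩
      by_contra hcon
      push Not at hcon
      have heq : Subgroup.centralizer (U : Set P) ⊓ A₁ =
          Subgroup.centralizer (U : Set P) ⊓ A₁ ⊔ U :=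
        Subgroup.eq_of_le_of_card_ge le_sup_left (hcon.trans hA₂card')
      have h3 : U ≤ Subgroup.centralizer (U : Set P) ⊓ A₁ ⊔ U := le_sup_right
      rw [← heq] at h3
      exact hUA₁ (h3.trans inf_le_right)
  have hAab := ((isElementaryAbelian_iff' 3 A).1 hA).1
  have hAC : ∀ S : Subgroup P, (∀ s ∈ S, s ^ 3 = 1) →
      S ⊓ Subgroup.centralizer (V : Set P) ≤ V := fun S hS t ht => hΩ t ht.2 (hS t ht.1)
  have hACcard : Nat.card (A ⊓ Subgroup.centralizer (V : Set P) : Subgroup P) ≤ 9 := by
    by_contra hcon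
    push Not at hcon
    have h27 := hp9 _ hcon
    have hle : A ⊓ Subgroup.centralizer (V : Set P) ≤ V := hAC A hA.2
    have heq : A ⊓ Subgroup.centralizer (V : Set P) = V :=
      Subgroup.eq_of_le_of_card_ge hle (by rw [hVcard']; exact h27)
    have hVA : V ≤ A := heq ▸ inf_le_left
    have hAV : A ≤ V := by
      intro a ha
      exact hΩ a (Subgroup.mem_centralizer_iff.2 (fun h hh => hAab h (hVA hh) a ha))
        (hA.2 a ha)
    have := Subgroup.card_le_of_le hAV
    rw [hVcard'] at this
    omega
  have hA81 : Nat.card A = 81 := by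
    have h1 := hLDC A hAD
    have h2 := hp27 A hAcard
    have : Nat.card A ≤ 9 * 9 := h1.trans (Nat.mul_le_mul_right 9 hACcard)
    omega
  -- Step 4: `A` is the only elementary abelian subgroup of order 81 in a subgroup `A ⊔ B ≥ V`
  -- of order at most 243
  have hUniq : ∀ B : Subgroup P, IsElementaryAbelian 3 B → Nat.card B = 81 → V ≤ A ⊔ B →
      Nat.card (A ⊔ B : Subgroup P) ≤ 243 → False := by
    intro B hBe hBcard hVAB hABcard
    have hBab := ((isElementaryAbelian_iff' 3 B).1 hBe).1
    have h1 : A ⊓ B ≤ A ⊓ Subgroup.centralizer (V : Set P) := by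
      intro t ht
      refine ⟨ht.1, ?_⟩
      have h2 : A ⊔ B ≤ Subgroup.centralizer ({t} : Set P) := by
        refine sup_le (fun a ha => ?_) (fun b hb => ?_)
        · exact Subgroup.mem_centralizer_iff.2
            (fun h hh => by rw [Set.mem_singleton_iff.1 hh]; exact hAab t ht.1 a ha)
        · exact Subgroup.mem_centralizer_iff.2
            (fun h hh => by rw [Set.mem_singleton_iff.1 hh]; exact hBab t ht.2 b hb)
      exact Subgroup.mem_centralizer_iff.2
        (fun h hh => (Subgroup.mem_centralizer_iff.1 (h2 (hVAB hh)) t rfl).symm)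
    have h3 : Nat.card (A ⊓ B : Subgroup P) ≤ 9 := (Subgroup.card_le_of_le h1).trans hACcard
    have h4 := card_inf_mul_relIndex A B
    have h5 := card_inf_mul_relIndex A (A ⊔ B)
    rw [inf_of_le_left (le_sup_left : A ≤ A ⊔ B), hA81] at h5
    have h6 : A.relIndex (A ⊔ B) ≤ 3 := by
      by_contra hcon
      push Not at hcon
      have : 81 * 4 ≤ 81 * A.relIndex (A ⊔ B) := Nat.mul_le_mul_left 81 hcon
      omega
    have h7 : A.relIndex B ≤ A.relIndex (A ⊔ B) :=
      Subgroup.relIndex_le_of_le_right le_sup_right (by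
        intro h0
        rw [h0] at h5
        have := Nat.card_pos (α := (A ⊔ B : Subgroup P))
        omega)
    rw [hBcard] at h4
    have : 81 ≤ 9 * 3 := by rw [← h4]; exact Nat.mul_le_mul h3 (h7.trans h6)
    omega
  -- Step 5: `A` is normal
  have hAnorm : Subgroup.normalizer (A : Set P) = ⊤ := by
    by_contra hQ
    haveI : Group.IsNilpotent P := hP.isNilpotent
    have hQlt : Subgroup.normalizer (A : Set P) < ⊤ := lt_top_iff_ne_top.2 hQ
    have hNC := Group.normalizerCondition_of_isNilpotent (G := P) _ hQlt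
    obtain ⟨g, hgN, hgQ⟩ := SetLike.exists_of_lt hNC
    have hBA : A.map (MulAut.conj g).toMonoidHom ≠ A :=
      fun h => hgQ ((map_conj_eq_self_iff_mem_normalizer g A).1 h)
    have hQB : Subgroup.normalizer ((A.map (MulAut.conj g).toMonoidHom : Subgroup P) : Set P) =
        Subgroup.normalizer (A : Set P) := by
      rw [← Subgroup.map_equiv_normalizer_eq A (MulAut.conj g)]
      exact (map_conj_eq_self_iff_mem_normalizer g _).2 hgN
    have hAB : A ≤ Subgroup.normalizer
        ((A.map (MulAut.conj g).toMonoidHom : Subgroup P) : Set P) :=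
      hQB ▸ Subgroup.le_normalizer
    have hBAn : A.map (MulAut.conj g).toMonoidHom ≤ Subgroup.normalizer (A : Set P) :=
      hQB ▸ Subgroup.le_normalizer
    have hBcard : Nat.card (A.map (MulAut.conj g).toMonoidHom) = 81 := by
      rw [Subgroup.card_map_of_injective (MulAut.conj g).injective, hA81]
    have hBe : IsElementaryAbelian 3 (A.map (MulAut.conj g).toMonoidHom) := by
      rw [isElementaryAbelian_iff']
      constructor
      · rintro _ ⟨a, ha, rfl⟩ _ ⟨b, hb, rfl⟩
        rw [← map_mul, hAab a ha b hb, map_mul]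
      · rintro _ ⟨a, ha, rfl⟩
        rw [← map_pow, hA.2 a ha, map_one]
    have hBab := ((isElementaryAbelian_iff' 3 _).1 hBe).1
    have hUB : U ≤ A.map (MulAut.conj g).toMonoidHom := by
      intro u hu
      refine ⟨g⁻¹ * u * g, hUA ?_, ?_⟩
      · have := hUn.conj_mem u hu g⁻¹
        simpa using this
      · show g * (g⁻¹ * u * g) * g⁻¹ = u
        group
    have hBD : A.map (MulAut.conj g).toMonoidHom ≤ Subgroup.centralizer (U : Set P) :=
      fun b hb => Subgroup.mem_centralizer_iff.2 (fun h hh => hBab h (hUB hh) b hb)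
    have hexp : ∀ t ∈ A ⊔ A.map (MulAut.conj g).toMonoidHom, t ^ 3 = 1 := by
      intro t ht
      obtain ⟨a, ha, b, hb, rfl⟩ := exists_mul_of_mem_sup_of_le_normalizer hAB ht
      have hkA : b⁻¹ * a⁻¹ * b * a ∈ A := by
        refine A.mul_mem ?_ ha
        have := (Subgroup.mem_normalizer_iff.1 (Subgroup.inv_mem _ (hBAn hb)) a⁻¹).1
          (A.inv_mem ha)
        simpa using this
      have hkB : b⁻¹ * a⁻¹ * b * a ∈ A.map (MulAut.conj g).toMonoidHom := by
        have h1 := (Subgroup.mem_normalizer_iff.1 (Subgroup.inv_mem _ (hAB ha)) b).1 hb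
        have h2 : b⁻¹ * a⁻¹ * b * a = b⁻¹ * (a⁻¹ * b * a⁻¹⁻¹) := by group
        rw [h2]
        exact Subgroup.mul_mem _ (Subgroup.inv_mem _ hb) h1
      exact pow_three_mul_eq_one a b (b⁻¹ * a⁻¹ * b * a) (hA.2 a ha) (hBe.2 b hb)
        (hA.2 _ hkA) (by group) (hAab _ hkA a ha) (hBab _ hkB b hb)
    have hLC : (A ⊔ A.map (MulAut.conj g).toMonoidHom) ⊓ Subgroup.centralizer (V : Set P) ≤ V :=
      hAC _ hexp
    have hL1 := hLDC (A ⊔ A.map (MulAut.conj g).toMonoidHom) (sup_le hAD hBD)
    have hLCcard : Nat.card ((A ⊔ A.map (MulAut.conj g).toMonoidHom) ⊓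
        Subgroup.centralizer (V : Set P) : Subgroup P) ≤ 27 := by
      have := Subgroup.card_le_of_le hLC
      rwa [hVcard'] at this
    have hLcard : Nat.card (A ⊔ A.map (MulAut.conj g).toMonoidHom : Subgroup P) ≤ 243 :=
      hL1.trans (Nat.mul_le_mul_right 9 hLCcard)
    have hLge : 243 ≤ Nat.card (A ⊔ A.map (MulAut.conj g).toMonoidHom : Subgroup P) := by
      by_contra hcon
      push Not at hcon
      have h81 : Nat.card (A ⊔ A.map (MulAut.conj g).toMonoidHom : Subgroup P) ≤ 81 := by
        by_contra h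
        push Not at h
        have := hp81 _ h
        omega
      have hAeq : A = A ⊔ A.map (MulAut.conj g).toMonoidHom :=
        Subgroup.eq_of_le_of_card_ge le_sup_left (by rw [hA81]; exact h81)
      have hBle : A.map (MulAut.conj g).toMonoidHom ≤ A := by
        have h3 : A.map (MulAut.conj g).toMonoidHom ≤ A ⊔ A.map (MulAut.conj g).toMonoidHom :=
          le_sup_right
        rw [← hAeq] at h3
        exact h3
      exact hBA (Subgroup.eq_of_le_of_card_ge hBle (by rw [hBcard, hA81]))
    have hVL : V ≤ A ⊔ A.map (MulAut.conj g).toMonoidHom := by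
      have h27 : 27 ≤ Nat.card ((A ⊔ A.map (MulAut.conj g).toMonoidHom) ⊓
          Subgroup.centralizer (V : Set P) : Subgroup P) := by
        by_contra hcon
        push Not at hcon
        have := hL1.trans (Nat.mul_le_mul_right 9 (Nat.lt_succ_iff.1 hcon))
        omega
      have heq : (A ⊔ A.map (MulAut.conj g).toMonoidHom) ⊓ Subgroup.centralizer (V : Set P) = V :=
        Subgroup.eq_of_le_of_card_ge hLC (by rw [hVcard']; exact h27)
      exact heq ▸ inf_le_left
    exact hUniq _ hBe hBcard hVL hLcard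
  -- Step 6
  have hAn : A.Normal := Subgroup.normalizer_eq_top_iff.1 hAnorm
  have := hStep1 A hAn hA
  omega

/-- A finite `3`-group of `3`-rank at least four is `2`-connected for the prime `3`. -/
theorem isKConnected_three {P : Type*} [Group P] [Finite P] (hP : IsPGroup 3 P)
    (hrk : ¬ PRankLE 3 3 P) : IsKConnected 3 2 P := by
  haveI : Fact (Nat.Prime 3) := ⟨by norm_num⟩
  have hrk2 : ¬ PRankLE 3 2 P :=
    fun h => hrk (fun A hAc hAe => (h A hAc hAe).trans (by norm_num))
  obtain ⟨U, hUn, hU, hUcard⟩ := exists_normal_elementaryAbelian_sq 3 hP hrk2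
  haveI := hUn
  have key : ∀ E : Subgroup P, IsElementaryAbelian 3 E → 3 ^ 2 ≤ Nat.card E →
      ¬ PRankLE 3 2 (Subgroup.centralizer (E : Set P)) := by
    intro E hE hEcard hiso
    have hEab := ((isElementaryAbelian_iff' 3 E).1 hE).1
    have hEC : E ≤ Subgroup.centralizer (E : Set P) :=
      fun a ha => Subgroup.mem_centralizer_iff.2 (fun h hh => hEab h hh a ha)
    by_cases h9 : Nat.card E = 9
    · exact false_of_isolated hP hrk E hE h9 hiso
    · have : 3 ^ 2 < Nat.card E := by
        norm_num at hEcard ⊢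
        omega
      exact (not_pRankLE_subgroup_iff 3 2 _).2 ⟨E, hEC, hE, this⟩ hiso
  intro E E' hE hEcard hE' hE'card
  have h1 := (pgroup_connected_iff 3 hP hrk2 U hU hUcard E hE hEcard).2 (key E hE hEcard)
  have h2 := (pgroup_connected_iff 3 hP hrk2 U hU hUcard E' hE' hE'card).2 (key E' hE' hE'card)
  have hrev : ∀ A B : Subgroup P, Relation.ReflTransGen (fun A B : Subgroup P =>
      IsElementaryAbelian 3 A ∧ 3 ^ 2 ≤ Nat.card A ∧ IsElementaryAbelian 3 B ∧
      3 ^ 2 ≤ Nat.card B ∧ ∀ a ∈ A, ∀ b ∈ B, a * b = b * a) A B →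
      Relation.ReflTransGen (fun A B : Subgroup P =>
      IsElementaryAbelian 3 A ∧ 3 ^ 2 ≤ Nat.card A ∧ IsElementaryAbelian 3 B ∧
      3 ^ 2 ≤ Nat.card B ∧ ∀ a ∈ A, ∀ b ∈ B, a * b = b * a) B A := by
    intro A B h
    induction h with
    | refl => exact Relation.ReflTransGen.refl
    | tail _ hbc ih =>
      obtain ⟨hA, hAc, hB, hBc, hcomm⟩ := hbc
      exact Relation.ReflTransGen.head
        ⟨hB, hBc, hA, hAc, fun b hb a ha => (hcomm a ha b hb).symm⟩ ih
  exact h1.trans (hrev _ _ h2)

end Cfsg.Agent.Lib.helper28
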